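import Mathlib
import Cfsg.Agent.H384.TwoTrans
import Cfsg.Agent.FastGrp
import Cfsg.Agent.Prune
set_option linter.all false
prune_inst 0x7f00000000000000000000000000000000000000000000000000000000000000000000000000000000000000000000000000000000000000000000000000000000000000000000000000000000000000003fffffffffffffffffffffffffffbeffbdffffffff
open scoped Cfsg.Agent.FastGrp

/-!
# Counting in conjugation invariant subsets of a 2-transitive group (helper221, HUB H1, part P1b)

`C : Set G` is a conjugation invariant subset of the 2-transitive group `G` on `Ω`, `n = |Ω|`.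

* `ncard_move` : `#{y ∈ C | y a = b}` is the same for all `a ≠ b`;
* `ncard_eq` : `#C = #{y ∈ C | y a = a} + (n - 1) * #{y ∈ C | y b = c}` (`b ≠ c`);
* `sub_one_dvd` : `n - 1 ∣ #C - #{y ∈ C | y a = a}`;
* `sum_fix` : `∑_{y ∈ C} fix y = n * #{y ∈ C | y a = a}`;
* `sub_one_dvd_fix`, `mul_dvd_fix` : if all elements of `C` have `f` fixed points then
  `n - 1 ∣ #C (f - 1)`, `n (n - 1) ∣ #C (n - f)` (over `ℤ`);
* `conj_*` : the same for the conjugacy class of an element `x`;
* `card_inf_stabilizer_eq`, `card_orbit_eq`, `card_orbit_dvd` : if `A` is normalized by `B` and `B` is transitive then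
  all `A ∩ G_a` have the same order and all orbits of `A` have the same length, which divides `n`.
-/

set_option autoImplicit false

namespace Cfsg.Agent.H221.ClassCount

open MulAction

variable {G Ω : Type*} [Group G] [MulAction G Ω]

/-- conjugation invariance -/
def Inv (C : Set G) : Prop := ∀ g : G, ∀ y ∈ C, g * y * g⁻¹ ∈ C

theorem inv_conj (x : G) : Inv (conjugatesOf x) := by
  intro g y hy
  have hy' : IsConj x y := hy
  exact hy'.trans (isConj_iff.2 ⟨g, rfl⟩)

theorem exists_map (h2 : IsMultiplyPretransitive G Ω 2) {a b a' b' : Ω} (hab : a ≠ b) (hab' : a' ≠ b') :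
    ∃ g : G, g • a = a' ∧ g • b = b' := by
  rw [is_two_pretransitive_iff] at h2
  exact h2 hab hab'

theorem ncard_le_of_conj [Finite G] {C : Set G} (hC : Inv C) (g : G) (a b : Ω) :
    {y ∈ C | y • a = b}.ncard ≤ {y ∈ C | y • (g • a) = g • b}.ncard := by
  refine Set.ncard_le_ncard_of_injOn (fun y => g * y * g⁻¹) ?_ ?_ (Set.toFinite _)
  · rintro y ⟨hy, hyab⟩
    refine ⟨hC g y hy, ?_⟩
    simp only [mul_smul, inv_smul_smul, hyab]
  · intro y _ z _ h
    simpa using h

theorem ncard_conj [Finite G] {C : Set G} (hC : Inv C) (g : G) (a b : Ω) :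
    {y ∈ C | y • a = b}.ncard = {y ∈ C | y • (g • a) = g • b}.ncard := by
  refine le_antisymm (ncard_le_of_conj hC g a b) ?_
  have := ncard_le_of_conj hC g⁻¹ (g • a) (g • b)
  simpa only [inv_smul_smul] using this

theorem ncard_move [Finite G] (h2 : IsMultiplyPretransitive G Ω 2) {C : Set G} (hC : Inv C) {a b a' b' : Ω}
    (hab : a ≠ b) (hab' : a' ≠ b') : {y ∈ C | y • a = b}.ncard = {y ∈ C | y • a' = b'}.ncard := by
  obtain ⟨g, rfl, rfl⟩ := exists_map h2 hab hab'
  exact ncard_conj hC g a b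

theorem ncard_fix [Finite G] [IsPretransitive G Ω] {C : Set G} (hC : Inv C) (a a' : Ω) :
    {y ∈ C | y • a = a}.ncard = {y ∈ C | y • a' = a'}.ncard := by
  obtain ⟨g, rfl⟩ := exists_smul_eq G a a'
  exact ncard_conj hC g a a

theorem sum_ncard [Finite G] [Fintype Ω] (C : Set G) (a : Ω) :
    C.ncard = ∑ b : Ω, {y ∈ C | y • a = b}.ncard := by
  classical
  have hC : C.Finite := Set.toFinite C
  rw [Set.ncard_eq_toFinset_card C hC]
  rw [Finset.card_eq_sum_card_fiberwise (f := fun y : G => y • a) (t := Finset.univ) (fun _ _ => Finset.mem_coe.2 (Finset.mem_univ _))]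
  refine Finset.sum_congr rfl fun b _ => ?_
  rw [Set.ncard_eq_toFinset_card _ (Set.toFinite _)]
  congr 1
  ext y
  simp

theorem ncard_eq [Finite G] [Finite Ω] (h2 : IsMultiplyPretransitive G Ω 2) {C : Set G} (hC : Inv C) (a : Ω)
    {b c : Ω} (hbc : b ≠ c) :
    C.ncard = {y ∈ C | y • a = a}.ncard + (Nat.card Ω - 1) * {y ∈ C | y • b = c}.ncard := by
  classical
  have := Fintype.ofFinite Ω
  rw [sum_ncard C a, ← Finset.add_sum_erase _ _ (Finset.mem_univ a)]
  congr 1
  rw [Finset.sum_congr rfl (g := fun _ => {y ∈ C | y • b = c}.ncard)]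
  · rw [Finset.sum_const, Finset.card_erase_of_mem (Finset.mem_univ a), smul_eq_mul, Finset.card_univ,
      Nat.card_eq_fintype_card]
  · intro d hd
    exact ncard_move h2 hC (Finset.ne_of_mem_erase hd).symm hbc

theorem sub_one_dvd [Finite G] [Finite Ω] (h2 : IsMultiplyPretransitive G Ω 2) {C : Set G} (hC : Inv C) (a : Ω) :
    ((Nat.card Ω : ℤ) - 1) ∣ (C.ncard : ℤ) - ({y ∈ C | y • a = a}.ncard : ℤ) := by
  have h1 : 0 < Nat.card Ω := Nat.card_pos_iff.2 ⟨⟨a⟩, inferInstance⟩
  rcases Nat.lt_or_ge (Nat.card Ω) 2 with h | h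
  · have h3 : Nat.card Ω = 1 := by omega
    have : ({y ∈ C | y • a = a}).ncard = C.ncard := by
      congr 1
      ext y
      refine ⟨fun h => h.1, fun h => ⟨h, ?_⟩⟩
      have := (Nat.card_eq_one_iff_unique.1 h3).1
      exact Subsingleton.elim _ _
    rw [this]; simp
  · have : Nontrivial Ω := (Finite.one_lt_card_iff_nontrivial).1 (by omega)
    obtain ⟨b, c, hbc⟩ := exists_pair_ne Ω
    have := ncard_eq h2 hC a hbc
    refine ⟨({y ∈ C | y • b = c}.ncard : ℤ), ?_⟩
    rw [this]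
    push_cast [Nat.cast_sub h1]
    ring

theorem sum_fix [Finite G] [Fintype Ω] [IsPretransitive G Ω] {C : Set G} (hC : Inv C) (hf : C.Finite) (a : Ω) :
    ∑ y ∈ hf.toFinset, (fixedBy Ω y).ncard = Nat.card Ω * {y ∈ C | y • a = a}.ncard := by
  classical
  have h1 : ∀ y ∈ hf.toFinset, (fixedBy Ω y).ncard = ∑ b : Ω, if y • b = b then 1 else 0 := by
    intro y _
    rw [Set.ncard_eq_toFinset_card _ (Set.toFinite _), Finset.sum_ite, Finset.sum_const_zero, add_zero,
      Finset.sum_const, smul_eq_mul, mul_one]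
    congr 1
    ext b
    simp
  rw [Finset.sum_congr rfl h1, Finset.sum_comm]
  have h2 : ∀ b : Ω, (∑ y ∈ hf.toFinset, if y • b = b then 1 else 0) = {y ∈ C | y • a = a}.ncard := by
    intro b
    rw [Finset.sum_ite, Finset.sum_const_zero, add_zero, Finset.sum_const, smul_eq_mul, mul_one,
      ncard_fix hC a b, Set.ncard_eq_toFinset_card _ (Set.toFinite _)]
    congr 1
    ext y
    simp
  rw [Finset.sum_congr rfl (fun b _ => h2 b), Finset.sum_const, smul_eq_mul, Finset.card_univ,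
    Nat.card_eq_fintype_card]

/-- `n * #{y ∈ C | y a = a} = #C * f` if all elements of `C` have `f` fixed points. -/
theorem card_mul_ncard_fix [Finite G] [Finite Ω] [IsPretransitive G Ω] {C : Set G} (hC : Inv C) (a : Ω) {f : ℕ}
    (hf : ∀ y ∈ C, (fixedBy Ω y).ncard = f) : Nat.card Ω * {y ∈ C | y • a = a}.ncard = C.ncard * f := by
  have := Fintype.ofFinite Ω
  rw [← sum_fix hC (Set.toFinite C) a, Finset.sum_congr rfl (g := fun _ => f)]
  · rw [Finset.sum_const, smul_eq_mul, ← Set.ncard_eq_toFinset_card C]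
  · intro y hy
    exact hf y (by simpa using hy)

theorem isPretransitive_of_two (h2 : IsMultiplyPretransitive G Ω 2) : IsPretransitive G Ω := by
  rcases subsingleton_or_nontrivial Ω with h | h
  · exact ⟨fun a b => ⟨1, Subsingleton.elim _ _⟩⟩
  · refine ⟨fun a b => ?_⟩
    by_cases hab : a = b
    · exact ⟨1, by rw [hab, one_smul]⟩
    · obtain ⟨g, hg, -⟩ := exists_map h2 hab (Ne.symm hab)
      exact ⟨g, hg⟩

/-- `n (n - 1) ∣ #C (n - f)` -/
theorem mul_dvd_fix [Finite G] [Finite Ω] [Nonempty Ω] (h2 : IsMultiplyPretransitive G Ω 2) {C : Set G} (hC : Inv C)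
    {f : ℕ} (hf : ∀ y ∈ C, (fixedBy Ω y).ncard = f) :
    ((Nat.card Ω : ℤ) * ((Nat.card Ω : ℤ) - 1)) ∣ (C.ncard : ℤ) * ((Nat.card Ω : ℤ) - f) := by
  have := isPretransitive_of_two h2
  obtain ⟨a⟩ := ‹Nonempty Ω›
  have h1 := card_mul_ncard_fix hC a hf
  obtain ⟨k, hk⟩ := sub_one_dvd h2 hC a
  refine ⟨k, ?_⟩
  have h1' : ((Nat.card Ω : ℤ)) * ({y ∈ C | y • a = a}.ncard : ℤ) = (C.ncard : ℤ) * f := by exact_mod_cast h1
  linear_combination (Nat.card Ω : ℤ) * hk + h1'

/-- `n - 1 ∣ #C (f - 1)` -/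
theorem sub_one_dvd_fix [Finite G] [Finite Ω] [Nonempty Ω] (h2 : IsMultiplyPretransitive G Ω 2) {C : Set G}
    (hC : Inv C) {f : ℕ} (hf : ∀ y ∈ C, (fixedBy Ω y).ncard = f) :
    ((Nat.card Ω : ℤ) - 1) ∣ (C.ncard : ℤ) * ((f : ℤ) - 1) := by
  obtain ⟨k, hk⟩ := mul_dvd_fix h2 hC hf
  refine ⟨(C.ncard : ℤ) - (Nat.card Ω : ℤ) * k, ?_⟩
  linear_combination -hk

theorem fix_conj [Finite Ω] (x y : G) (h : y ∈ conjugatesOf x) : (fixedBy Ω y).ncard = (fixedBy Ω x).ncard := by
  obtain ⟨g, rfl⟩ := isConj_iff.1 (show IsConj x y from h)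
  have : fixedBy Ω (g * x * g⁻¹) = (fun a => g • a) '' fixedBy Ω x := by
    ext a
    simp only [mem_fixedBy, Set.mem_image]
    constructor
    · intro ha
      refine ⟨g⁻¹ • a, ?_, smul_inv_smul g a⟩
      rw [mul_smul, mul_smul] at ha
      rw [← inv_smul_eq_iff.2 ha.symm]
    · rintro ⟨b, hb, rfl⟩
      simp only [mul_smul, inv_smul_smul, hb]
  rw [this, Set.ncard_image_of_injective _ (MulAction.injective g)]

/-! ### Equal orbits -/

section Orbits

variable (A : Subgroup G)

theorem card_inf_stabilizer_smul (g : G) (hg : ∀ x ∈ A, g * x * g⁻¹ ∈ A) (hg' : ∀ x ∈ A, g⁻¹ * x * g ∈ A) (a : Ω) :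
    Nat.card ↥(A ⊓ stabilizer G (g • a)) = Nat.card ↥(A ⊓ stabilizer G a) := by
  have h : (A ⊓ stabilizer G a).map (MulAut.conj g).toMonoidHom = A ⊓ stabilizer G (g • a) := by
    ext y
    simp only [Subgroup.mem_map, Subgroup.mem_inf, mem_stabilizer_iff, MulEquiv.coe_toMonoidHom, MulAut.conj_apply]
    constructor
    · rintro ⟨x, ⟨hx, hxa⟩, rfl⟩
      exact ⟨hg x hx, by simp only [mul_smul, inv_smul_smul, hxa]⟩
    · rintro ⟨hy, hya⟩
      refine ⟨g⁻¹ * y * g, ⟨hg' y hy, ?_⟩, by group⟩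
      rw [mul_smul, mul_smul, hya, inv_smul_smul]
  rw [← h]
  exact Nat.card_congr (Subgroup.equivMapOfInjective _ _ (MulAut.conj g).injective).symm.toEquiv

variable {A}

/-- If `A` is normalized by the transitive subgroup `B` then `|A ∩ G_a|` is constant. -/
theorem card_inf_stabilizer_eq {B : Subgroup G} (hAB : ∀ g ∈ B, ∀ x ∈ A, g * x * g⁻¹ ∈ A)
    (hB : ∀ a b : Ω, ∃ g ∈ B, g • a = b) (a b : Ω) :
    Nat.card ↥(A ⊓ stabilizer G a) = Nat.card ↥(A ⊓ stabilizer G b) := by
  obtain ⟨g, hg, rfl⟩ := hB a b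
  refine (card_inf_stabilizer_smul A g (hAB g hg) (fun x hx => ?_) a).symm
  simpa using hAB g⁻¹ (B.inv_mem hg) x hx

/-- orbit-stabilizer for a subgroup -/
theorem card_orbit_mul [Finite G] (a : Ω) :
    (orbit A a).ncard * Nat.card ↥(A ⊓ stabilizer G a) = Nat.card A := by
  have h1 : Nat.card ↥(A ⊓ stabilizer G a) = Nat.card (stabilizer A a) := by
    have : stabilizer A a = (A ⊓ stabilizer G a).subgroupOf A := by
      ext x
      simp [Subgroup.mem_subgroupOf, mem_stabilizer_iff, Subgroup.smul_def]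
    rw [this]
    exact Nat.card_congr (Subgroup.subgroupOfEquivOfLe inf_le_left).symm.toEquiv
  rw [h1, ← Nat.card_coe_set_eq, Nat.card_congr (orbitEquivQuotientStabilizer A a), ← Subgroup.index_eq_card]
  exact Subgroup.index_mul_card _

/-- if all orbits of `A` have length `s` then `s ∣ n` -/
theorem dvd_card [Finite Ω] {s : ℕ} (h : ∀ a : Ω, (orbit A a).ncard = s) : s ∣ Nat.card Ω := by
  classical
  have := Fintype.ofFinite Ω
  let _ : Fintype (orbitRel.Quotient A Ω) := Fintype.ofFinite _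
  have h1 : Nat.card Ω = ∑ ω : orbitRel.Quotient A Ω, Nat.card ↥(orbitRel.Quotient.orbit ω) := by
    rw [Nat.card_congr (selfEquivSigmaOrbits' A Ω), Nat.card_sigma]
  rw [h1]
  refine Finset.dvd_sum fun ω _ => ?_
  induction ω using Quotient.inductionOn' with
  | h a =>
    rw [orbitRel.Quotient.orbit_mk, Nat.card_coe_set_eq, h a]

end Orbits

/-! ### The almost simple setting -/

/-- a normal non-trivial subgroup of a faithful 2-transitive group is transitive -/
theorem normal_transitive {G Ω : Type*} [Group G] [MulAction G Ω] [FaithfulSMul G Ω]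
    (h2 : IsMultiplyPretransitive G Ω 2) (T : Subgroup G) (hT : T.Normal) (hne : T ≠ ⊥) (a b : Ω) :
    ∃ g ∈ T, g • a = b := by
  have h1 : IsPreprimitive G Ω := isPreprimitive_of_is_two_pretransitive h2
  have h2 : fixedPoints T Ω ≠ Set.univ := by
    intro hcon
    apply hne
    rw [Subgroup.eq_bot_iff_forall]
    intro x hx
    refine FaithfulSMul.eq_of_smul_eq_smul (α := Ω) (fun c => ?_)
    have hc : c ∈ fixedPoints T Ω := by rw [hcon]; trivial
    simpa [Subgroup.smul_def] using hc ⟨x, hx⟩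
  have h3 : IsPretransitive T Ω := IsQuasiPreprimitive.isPretransitive_of_normal h2
  obtain ⟨g, hg⟩ := exists_smul_eq T a b
  exact ⟨g, g.2, hg⟩

end Cfsg.Agent.H221.ClassCount
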