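import Cfsg.Agent.Mrg.ParSys.Fam.TwoFFour
import Cfsg.Agent.H163.Steinberg
import Cfsg.Agent.H424.DegTools
import Cfsg.Agent.S1113
import Cfsg.Agent.S1074
import Cfsg.Agent.H33.IM
import Cfsg.Agent.Prune
set_option linter.all false
prune_inst 0x7f00000000000000000000000000000000000000000000000000000000000000000000000000000000000000000000000000000000000000000000000000000000000000000000000000000000000000003fffffffffffffffffffffffffffbeffbdffffffff
open scoped Cfsg.Agent.FastGrp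

/-!
# `²F₄(q)`, `q = 2^(2m+1)` with `m = 0` allowed, has a split (B,N)-pair; the Tits group (helper221)

* `hasSplit` : for every `m`;
* `exists_tits` : the Tits group has an irreducible character of degree `2 ^ 11` or `2 ^ 12`.
-/

set_option autoImplicit false
set_option linter.style.haveILetI false

namespace Cfsg.Agent.H221.TwFSplit

open Cfsg.Lie
open Cfsg.Agent.ChevalleyStructure.TwF4.Tables
open Cfsg.Agent.ChevalleyStructure.TwF4.Rel
open Cfsg.Agent.ChevalleyStructure.TwF4.Groups Cfsg.Agent.ChevalleyStructure.TwF4.RankOne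
open Cfsg.Agent.ChevalleyStructure.TwF4.Twisted Cfsg.Agent.ChevalleyStructure.TwF4.TwistedFix
open Cfsg.Agent.ChevalleyStructure.TwF4.BN
open Cfsg.Agent.ChevalleyStructure.TwF4.Torus (T chi T_conj_X T_inr chi_def)
open Cfsg.Agent.ChevalleyStructure.F4NTab (ca)
open Cfsg.Agent.ChevalleyStructure.TwF4.TwGen (tc tc_mul chi_tc_24 chi_tc_25 chi_tc_33 chi_tc_27 chi28 chi30 pow_all
  n1_eq n2_eq n1_conj_T n2_conj_T)
open Cfsg.Agent.ChevalleyStructure.TwF4.TorusFix (mem_iff pow_unit T_rt rt)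
open Cfsg.Agent.ChevalleyStructure.TwF4.Fix (Fix)
open Cfsg.Agent.ChevalleyStructure.TwF4.OrderCls (X_inj)
open Cfsg.Agent.Schreier.TwFFour
open Cfsg.Agent.Octagon.KSys Cfsg.Agent.Octagon.KPar Cfsg.Agent.Octagon.KRoot Cfsg.Agent.Octagon.Pkg
open Cfsg.Agent.ParSys.Fam.TwoFFour

variable {K : Type*} [Field K] [Fintype K] {m : ℕ}

/-- **split (B,N)-pair of `²F₄(q)`, `q = 2` included** -/
theorem hasSplit (hK : Fintype.card K = 2 ^ (2 * m + 1)) :
    FixBN.HasSplit 2 ↥(twistedF4 K (2 ^ m)) := by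
  haveI : CharP K 2 := charP_two hK
  haveI : Fact (Nat.Prime 2) := ⟨Nat.prime_two⟩
  obtain ⟨φ, hφ⟩ := exists_rln hK
  obtain ⟨P, hPB, hPN, -, hPS⟩ := Cfsg.Agent.ChevalleyStructure.TwF4.BNIrred.exists_bnPair_irreducible hφ
  have hB : P.B = B0 K (2 ^ m) := hPB
  have hdec := dec hK hφ
  have hUp := isPGroup_U0 hK
  set s1 : ↥(twistedF4 K (2 ^ m)) := m1 K (2 ^ m) with hs1
  set s2 : ↥(twistedF4 K (2 ^ m)) := m2 hφ with hs2
  have node_1 : Cfsg.Agent.Schreier.BNSch.Node P (U0 K (2 ^ m)) s1 (V1 K (2 ^ m)) := node1 hφ hB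
  have node_2 : Cfsg.Agent.Schreier.BNSch.Node P (U0 K (2 ^ m)) s2 (V8 K (2 ^ m)) := node2 hφ hB
  have hdB : ∀ b ∈ P.B, ∃ s t : Kˣ, ∃ u ∈ U0 K (2 ^ m), b = u * tt hdec s t := by
    intro b hb
    rw [hB] at hb
    obtain ⟨s, t, u, hu, hbu⟩ := hdec.1 b hb
    exact ⟨s, t, u, hu, Subtype.ext hbu⟩
  have httB : ∀ s t : Kˣ, tt hdec s t ∈ P.B := fun s t => by rw [hB]; exact tt_B0 hdec s t
  have httN : ∀ s t : Kˣ, tt hdec s t ∈ P.N := fun s t => by
    rw [hPN]
    exact Cfsg.Agent.ChevalleyStructure.TwF4.NStruct.T_mem_N _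
  have hH : ∀ h ∈ P.B, h ∈ P.N → ∃ s t : Kˣ, h = tt hdec s t := by
    intro h hh hN
    rw [hPB, Subgroup.mem_subgroupOf] at hh
    rw [hPN, Subgroup.mem_subgroupOf] at hN
    have h1 := borel_inf_N ⟨hh, hN⟩
    obtain ⟨s, t, hst⟩ := (mem_iff hK (h : GL chevF4.Idx K)).1 ⟨h1, h.2⟩
    exact ⟨s, t, Subtype.ext hst⟩
  have hUB : U0 K (2 ^ m) ≤ P.B := by rw [hB]; exact U0_le_B0
  have hnorm : ∀ b ∈ P.B, ∀ u ∈ U0 K (2 ^ m), b * u * b⁻¹ ∈ U0 K (2 ^ m) := fun b hb u hu => by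
    rw [hB] at hb
    exact conj_U0 hb hu
  refine ⟨P, U0 K (2 ^ m), ⟨s1, by rw [hPS]; exact Set.mem_insert _ _⟩, ?_⟩
  exact
    { le := hUB
      norm := hnorm
      isP := hUp
      cover := fun b hb => by
        obtain ⟨s, t, u, hu, rfl⟩ := hdB b hb
        refine ⟨u, hu, ?_⟩
        rw [inv_mul_cancel_left]
        exact httN s t
      tor := ⟨2 ^ (2 * m + 1) - 1, by
        have h1 : 2 ∣ 2 ^ (2 * m + 1) := dvd_pow_self 2 (by omega)
        have h2 : 0 < 2 ^ (2 * m + 1) := by positivity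
        omega, fun h hh hN => by
        obtain ⟨s, t, rfl⟩ := hH h hh hN
        apply Subtype.ext
        show T (tc (2 ^ m) s t) ^ (2 ^ (2 * m + 1) - 1) = 1
        rw [← map_pow]
        have h2 : tc (2 ^ m) s t ^ (2 ^ (2 * m + 1) - 1) = 1 := by
          have h3 : ∀ x : Kˣ, x ^ (2 ^ (2 * m + 1) - 1) = 1 := by
            intro x
            have h4 := pow_card_eq_one' (x := x)
            rwa [Nat.card_units, Nat.card_eq_fintype_card, hK] at h4
          funext l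
          rw [Pi.pow_apply, h3]; rfl
        rw [h2, map_one]⟩
      node := by
        intro s hs
        rw [hPS] at hs
        rcases hs with rfl | hs
        · exact ⟨_, node_1⟩
        · rw [Set.mem_singleton_iff] at hs
          subst hs
          exact ⟨_, node_2⟩
      core := by
        rw [hPB, ← Subgroup.inf_subgroupOf_right]
        exact Cfsg.Agent.S1113.result hK }

/-- **the Tits group** has an irreducible character of degree `2 ^ 11` or `2 ^ 12`. -/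
theorem exists_tits {S : Type*} [Group S] (h : IsoTits S) :
    ∃ d ∈ charDegrees S, d = 2 ^ 11 ∨ d = 2 ^ 12 := by
  obtain ⟨e⟩ := h
  have hK : Fintype.card (ZMod 2) = 2 ^ (2 * 0 + 1) := by simp [ZMod.card]
  obtain ⟨hi, -, -, hc⟩ := Cfsg.Agent.S1074.result
  have : Fact (Nat.Prime 2) := ⟨Nat.prime_two⟩
  have hs : FixBN.HasSplit 2 ↥(twistedF4 (ZMod 2) 1) := hasSplit (m := 0) hK
  have hfin : Finite ↥(twistedF4 (ZMod 2) 1) := inferInstance
  obtain ⟨χ, hχ, h1⟩ := H163.Steinberg.exists_irr_of_hasSplit hs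
  have Q : Sylow 2 ↥(twistedF4 (ZMod 2) 1) := default
  have hG : Nat.card ↥(twistedF4 (ZMod 2) 1) = 2 ^ 12 * 3 ^ 3 * 5 ^ 2 * 13 := by
    rw [← Subgroup.card_mul_index (commutator ↥(twistedF4 (ZMod 2) 1)), hi, hc]
    norm_num
  have hQ : Nat.card Q = 2 ^ 12 := by
    rw [Q.card_eq_multiplicity, hG]
    have e1 : (2 ^ 12 * 3 ^ 3 * 5 ^ 2 * 13 : ℕ) = 2 ^ 12 * 8775 := by norm_num
    rw [e1, Nat.factorization_mul (by norm_num) (by norm_num), Nat.prime_two.factorization_pow,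
      Finsupp.add_apply, Finsupp.single_eq_same, Nat.factorization_eq_zero_of_not_dvd (by norm_num)]
  obtain ⟨D, hD⟩ : ∃ D : ℕ, D = 2 ^ 12 := ⟨_, rfl⟩
  have hd : D ∈ charDegrees ↥(twistedF4 (ZMod 2) 1) :=
    H424.DegTools.mem_charDegrees.2 ⟨χ, hχ, by rw [(h1 Q).1, hQ, hD]⟩
  obtain ⟨c, hc1, hc2, hc3⟩ := H424.DegTools.clifford_down (commutator ↥(twistedF4 (ZMod 2) 1)) hd
  rw [hi] at hc3
  have he := H424.DegTools.charDegrees_of_surjective e.toMonoidHom e.surjective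
  refine ⟨c, he hc1, ?_⟩
  have h2 : D / c = 1 ∨ D / c = 2 := (Nat.dvd_prime Nat.prime_two).1 hc3
  have h3 := Nat.div_mul_cancel hc2
  rcases h2 with h2 | h2
  · right
    rw [h2, one_mul, hD] at h3
    exact h3
  · left
    rw [h2, hD] at h3
    have h4 : (2 : ℕ) ^ 12 = 2 * 2 ^ 11 := by norm_num
    rw [h4] at h3
    exact Nat.eq_of_mul_eq_mul_left (by norm_num) h3

theorem im4_Tits {S : Type*} [Group S] (h : IsoTits S) : H33.IM 4 S := by
  obtain ⟨d, ⟨χ, hχ⟩, hd⟩ := exists_tits h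
  refine ⟨χ, ?_⟩
  rw [hχ]
  rcases hd with rfl | rfl <;> norm_num

end Cfsg.Agent.H221.TwFSplit
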