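import Cfsg.Agent.H417.RecogMathieu
import Cfsg.Agent.H852.IMMathieu2
import Cfsg.Agent.H221.TwFSplit
import Cfsg.Agent.H636.Gow.Defs_m3
import Cfsg.Agent.PermutationGroups.MultFree
import Cfsg.Agent.Blocks.Orthogonality
import Cfsg.Agent.Characters.Counting
import Cfsg.Agent.Lib.PackMat
import Cfsg.Agent.Ly.IndexEq
import Cfsg.Agent.H33.IM
import Cfsg.Agent.Lib.ListFast
import Cfsg.Agent.H671.H5Facts
import Cfsg.Agent.H614.Degree
import Cfsg.Agent.H614.Chars
import Cfsg.Agent.H478.RadTools_m3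
import Cfsg.Agent.H216.Dih
import Cfsg.Agent.S0188
import Cfsg.Agent.S2119
import Cfsg.Agent.FastGrp
import Cfsg.Agent.Prune
set_option linter.all false

-- part: H221/FourIM_mg
section
set_option linter.all false
open scoped Cfsg.Agent.FastGrp

-- part: H221/FourIM
section
/-!
# Degrees divisible by 4: `M22`, `M24` and the Tits group (helper221)
-/

set_option autoImplicit false

namespace Cfsg.Agent.H221.FourIM

open Cfsg Cfsg.Agent.H33

theorem im4_M22 {S : Type*} [Group S] (h : Cfsg.Spor.IsoM22 S) : IM 4 S := by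
  have h1 := H417.RecogMathieu.isM22 h
  have h2 : 0 < Nat.card S := by rw [h1.2]; norm_num
  have := Nat.finite_of_card_ne_zero h2.ne'
  obtain ⟨f, hf⟩ := H417.DegMTwentyTwo.exists_enum h1
  refine ⟨f 9, ?_⟩
  rw [hf 9]
  decide

theorem im4_M24 {S : Type*} [Group S] (h : Cfsg.Spor.IsoM24 S) : IM 4 S := by
  obtain ⟨e⟩ := h
  refine IM.of_equiv e ?_
  refine H852.IMMathieu.im_perm_four M24 Set.univ ?_ 5 ?_ (by norm_num) (n := 24) ?_ (by norm_num) ?_
  · intro g _ x _
    trivial
  · intro x y _ _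
    obtain ⟨g, hg⟩ := Cfsg.Agent.SporadicStructure.M23Index253.exists_map Cfsg.Agent.S0366.result le_rfl _ _
      x.injective y.injective
    exact ⟨(g : Equiv.Perm GolayPt), g.2, hg⟩
  · rw [Nat.card_coe_set_eq, Set.ncard_univ, Nat.card_eq_fintype_card]
    decide
  · decide

theorem im4_Tits {S : Type*} [Group S] (h : Cfsg.Lie.IsoTits S) : IM 4 S :=
  TwFSplit.im4_Tits h

end Cfsg.Agent.H221.FourIM
end

-- part: H652/Four/Ker
section
/-!
# The idempotent kernels of a permutation representation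

`kr χ x y = χ(1) / |G| ∑_{g y = x} χ(g)`.
-/

set_option autoImplicit false

open Cfsg
open scoped ComplexConjugate

namespace Cfsg.Agent.H652.Four.Ker

open Cfsg.Agent.Characters.Core Cfsg.Agent.Characters Cfsg.Agent.H707.Orbits

universe u

variable {G : Type u} [Group G] [Fintype G] {Ω : Type*} [Fintype Ω] [DecidableEq Ω] [MulAction G Ω]

/-- the kernel -/
noncomputable def kr (χ : G → ℂ) (x y : Ω) : ℂ :=
  χ 1 / (Nat.card G : ℂ) * ∑ g : G, if g • y = x then χ g else 0

omit [Fintype Ω] in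
theorem kr_smul {χ : G → ℂ} (hχ : IsIrrCharacter G χ) (a : G) (x y : Ω) :
    kr χ (a • x) (a • y) = kr χ x y := by
  unfold kr
  congr 1
  refine (Fintype.sum_equiv (MulAut.conj a).toEquiv _ _ fun g => ?_).symm
  have h1 : (MulAut.conj a).toEquiv g = a * g * a⁻¹ := rfl
  rw [h1, isIrr_isClassFunction hχ g a]
  simp only [mul_smul, inv_smul_smul, smul_left_cancel_iff]

open scoped Classical in
theorem kr_mul (χ ψ : IrrCharacter G) (x z : Ω) :
    ∑ y, kr (χ : G → ℂ) x y * kr (ψ : G → ℂ) y z = if χ = ψ then kr (χ : G → ℂ) x z else 0 := by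
  unfold kr
  have hn : (Nat.card G : ℂ) ≠ 0 := card_ne_zero_complex
  have h1 : ∀ y : Ω, (χ : G → ℂ) 1 / (Nat.card G : ℂ) * (∑ g : G, if g • y = x then (χ : G → ℂ) g else 0) *
      ((ψ : G → ℂ) 1 / (Nat.card G : ℂ) * (∑ h : G, if h • z = y then (ψ : G → ℂ) h else 0)) =
      (χ : G → ℂ) 1 / (Nat.card G : ℂ) * ((ψ : G → ℂ) 1 / (Nat.card G : ℂ)) *
      ∑ g : G, ∑ h : G, if h • z = y then (if g • y = x then (χ : G → ℂ) g * (ψ : G → ℂ) h else 0) else 0 := by
    intro y
    rw [mul_mul_mul_comm, Finset.sum_mul_sum]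
    congr 1
    refine Finset.sum_congr rfl fun g _ => Finset.sum_congr rfl fun h _ => ?_
    split_ifs <;> simp
  rw [Finset.sum_congr rfl fun y _ => h1 y, ← Finset.mul_sum, Finset.sum_comm]
  have h2 : ∀ g : G, ∑ y : Ω, ∑ h : G, (if h • z = y then (if g • y = x then (χ : G → ℂ) g * (ψ : G → ℂ) h else 0) else 0) =
      ∑ k : G, if k • z = x then (χ : G → ℂ) g * (ψ : G → ℂ) (g⁻¹ * k) else 0 := by
    intro g
    rw [Finset.sum_comm]
    refine Fintype.sum_equiv (Equiv.mulLeft g) _ _ fun h => ?_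
    rw [Finset.sum_ite_eq, if_pos (Finset.mem_univ _)]
    simp only [Equiv.coe_mulLeft, inv_mul_cancel_left, mul_smul]
  rw [Finset.sum_congr rfl fun g _ => h2 g, Finset.sum_comm]
  have h3 : ∀ k : G, ∑ g : G, (if k • z = x then (χ : G → ℂ) g * (ψ : G → ℂ) (g⁻¹ * k) else 0) =
      if k • z = x then (if χ = ψ then (Nat.card G : ℂ) * (χ : G → ℂ) k / (χ : G → ℂ) 1 else 0) else 0 := by
    intro k
    by_cases h : k • z = x
    · simp only [if_pos h]
      rw [Blocks.Orthogonality.sum_irr_mul_irr]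
    · simp only [if_neg h, Finset.sum_const_zero]
  rw [Finset.sum_congr rfl fun k _ => h3 k]
  by_cases hc : χ = ψ
  · subst hc
    simp only [if_true]
    have hχ := isIrr_apply_one_ne_zero χ.2
    rw [mul_assoc]
    congr 1
    rw [Finset.mul_sum]
    refine Finset.sum_congr rfl fun k _ => ?_
    split_ifs
    · field_simp
    · ring
  · simp only [if_neg hc, ite_self, Finset.sum_const_zero, mul_zero]

omit [Fintype Ω] in
theorem sum_kr [Fintype (IrrCharacter G)] (x y : Ω) :
    ∑ χ : IrrCharacter G, kr (χ : G → ℂ) x y = if x = y then 1 else 0 := by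
  classical
  have hn : (Nat.card G : ℂ) ≠ 0 := card_ne_zero_complex
  unfold kr
  have h1 : ∀ χ : IrrCharacter G, (χ : G → ℂ) 1 / (Nat.card G : ℂ) *
      (∑ g : G, if g • y = x then (χ : G → ℂ) g else 0) =
      (Nat.card G : ℂ)⁻¹ * ∑ g : G, if g • y = x then (χ : G → ℂ) 1 * (χ : G → ℂ) g else 0 := by
    intro χ
    rw [Finset.mul_sum, Finset.mul_sum]
    refine Finset.sum_congr rfl fun g _ => ?_
    split_ifs
    · field_simp
    · ring
  rw [Finset.sum_congr rfl fun χ _ => h1 χ, ← Finset.mul_sum, Finset.sum_comm]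
  have h2 : ∀ g : G, ∑ χ : IrrCharacter G, (if g • y = x then (χ : G → ℂ) 1 * (χ : G → ℂ) g else 0) =
      if g = 1 then (if x = y then (Nat.card G : ℂ) else 0) else 0 := by
    intro g
    by_cases h : g • y = x
    · simp only [if_pos h]
      rw [Counting.sum_irr_one_mul]
      by_cases h1 : g = 1
      · subst h1
        rw [one_smul] at h
        rw [if_pos rfl, if_pos rfl, if_pos h.symm]
      · rw [if_neg h1, if_neg h1]
    · simp only [if_neg h, Finset.sum_const_zero]
      by_cases h1 : g = 1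
      · subst h1
        rw [one_smul] at h
        rw [if_pos rfl, if_neg (Ne.symm h)]
      · rw [if_neg h1]
  rw [Finset.sum_congr rfl fun g _ => h2 g, Finset.sum_ite_eq', if_pos (Finset.mem_univ _)]
  split_ifs
  · rw [inv_mul_cancel₀ hn]
  · rw [mul_zero]

omit [Fintype Ω] in
theorem map_kr (σ : ℂ ≃+* ℂ) (χ : IrrCharacter G) (x y : Ω) :
    σ (kr (χ : G → ℂ) x y) = kr (fun g => σ ((χ : G → ℂ) g)) x y := by
  unfold kr
  rw [map_mul, map_div₀, map_natCast, map_sum]
  congr 1
  refine Finset.sum_congr rfl fun g _ => ?_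
  split_ifs
  · rfl
  · rw [map_zero]

/-- the diagonal sum is the multiplicity -/
theorem sum_kr_self (χ : IrrCharacter G) {m : ℕ}
    (hm : classInner (fun g : G => (Nat.card (MulAction.fixedBy Ω g) : ℂ)) (χ : G → ℂ) = m) :
    ∑ x : Ω, kr (χ : G → ℂ) x x = (χ : G → ℂ) 1 * m := by
  have hn : (Nat.card G : ℂ) ≠ 0 := card_ne_zero_complex
  unfold kr
  rw [← Finset.mul_sum, Finset.sum_comm]
  have h1 : ∀ g : G, ∑ x : Ω, (if g • x = x then (χ : G → ℂ) g else 0) =
      (Nat.card (MulAction.fixedBy Ω g) : ℂ) * (χ : G → ℂ) g := by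
    intro g
    rw [← Finset.sum_filter, Finset.sum_const, nsmul_eq_mul]
    congr 2
    rw [← Fintype.card_subtype, ← Nat.card_eq_fintype_card]
    rfl
  rw [Finset.sum_congr rfl fun g _ => h1 g]
  have h2 : conj (classInner (fun g : G => (Nat.card (MulAction.fixedBy Ω g) : ℂ)) (χ : G → ℂ)) = (m : ℂ) := by
    rw [hm, map_natCast]
  rw [classInner_def, map_mul, map_inv₀, map_natCast, map_sum] at h2
  rw [div_mul_eq_mul_div, mul_div_assoc]
  congr 1
  rw [← h2, div_eq_inv_mul]
  congr 1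
  refine Finset.sum_congr rfl fun g _ => ?_
  rw [map_mul, Complex.conj_conj, map_natCast]

variable [MulAction.IsPretransitive G Ω]

/-- the diagonal value -/
theorem kr_self (χ : IrrCharacter G) {m : ℕ}
    (hm : classInner (fun g : G => (Nat.card (MulAction.fixedBy Ω g) : ℂ)) (χ : G → ℂ) = m) (x : Ω) :
    (Nat.card Ω : ℂ) * kr (χ : G → ℂ) x x = (χ : G → ℂ) 1 * m := by
  rw [← sum_kr_self χ hm]
  have h1 : ∀ y : Ω, kr (χ : G → ℂ) y y = kr (χ : G → ℂ) x x := by
    intro y
    obtain ⟨g, rfl⟩ := MulAction.exists_smul_eq G x y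
    exact kr_smul χ.2 g x x
  rw [Finset.sum_congr rfl fun y _ => h1 y, Finset.sum_const, Finset.card_univ, nsmul_eq_mul,
    Nat.card_eq_fintype_card]

omit [Fintype Ω] [MulAction.IsPretransitive G Ω] in
/-- transposed -/
theorem kr_symm (χ : IrrCharacter G) (x y : Ω) : kr (χ : G → ℂ) y x = conj (kr (χ : G → ℂ) x y) := by
  unfold kr
  rw [map_mul, map_div₀, map_natCast, Blocks.Orthogonality.conj_irr_one χ.2, map_sum]
  congr 1
  refine Fintype.sum_equiv (Equiv.inv G) _ _ fun g => ?_
  have h1 : g • x = y ↔ (g⁻¹ : G) • y = x := by rw [inv_smul_eq_iff, eq_comm]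
  simp only [Equiv.inv_apply]
  by_cases h : g • x = y
  · rw [if_pos h, if_pos (h1.1 h), Blocks.Orthogonality.irr_apply_inv χ.2, Complex.conj_conj]
  · rw [if_neg h, if_neg (fun h' => h (h1.2 h')), map_zero]

/-- characters of multiplicity zero have zero kernel -/
theorem kr_eq_zero (χ : IrrCharacter G)
    (hm : classInner (fun g : G => (Nat.card (MulAction.fixedBy Ω g) : ℂ)) (χ : G → ℂ) = 0) (x y : Ω) :
    kr (χ : G → ℂ) x y = 0 := by
  classical
  have h1 : kr (χ : G → ℂ) x x = 0 := by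
    have h := kr_self χ (m := 0) (by rw [hm, Nat.cast_zero]) x
    rw [Nat.cast_zero, mul_zero, mul_eq_zero] at h
    refine h.resolve_left ?_
    have : Nonempty Ω := ⟨x⟩
    exact_mod_cast Nat.card_pos.ne'
  have h2 := kr_mul χ χ x x
  rw [if_pos rfl, h1] at h2
  have h3 : ∑ z, Complex.normSq (kr (χ : G → ℂ) x z) = 0 := by
    have h4 : ((∑ z, Complex.normSq (kr (χ : G → ℂ) x z) : ℝ) : ℂ) = 0 := by
      rw [← h2, Complex.ofReal_sum]
      refine Finset.sum_congr rfl fun z _ => ?_
      rw [kr_symm χ x z, Complex.mul_conj]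
    exact_mod_cast h4
  rw [Finset.sum_eq_zero_iff_of_nonneg fun z _ => Complex.normSq_nonneg _] at h3
  exact Complex.normSq_eq_zero.1 (h3 y (Finset.mem_univ _))

end Cfsg.Agent.H652.Four.Ker
end

-- part: H652/Four/Frame
section
/-!
# Frame's theorem for multiplicity-free permutation representations

`Dat G Ω K` : a transitive multiplicity-free action, its constituents `χ i` and suborbits (representatives `y k`,
lengths `nk k`), both indexed by `K`.

* `Dat.sq_of_rational` : if the constituents are rational valued then `n ^ |K| * ∏ nk * ∏ f` is a square;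
* `Dat.pair` : if all constituents but two conjugate ones are rational valued: equations for the eigenvalues.
-/

set_option autoImplicit false
set_option linter.unusedSectionVars false

open Cfsg
open scoped ComplexConjugate

namespace Cfsg.Agent.H652.Four

open Cfsg.Agent.Characters.Core Cfsg.Agent.Characters Cfsg.Agent.H707.Orbits Ker

universe u

attribute [local instance] irrAction

/-- a transitive multiplicity-free action -/
structure Dat (G : Type u) [Group G] [Fintype G] (Ω : Type*) [Fintype Ω] [DecidableEq Ω] [MulAction G Ω]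
    (K : Type*) [Fintype K] where
  /-- the base point -/
  x0 : Ω
  /-- the constituents -/
  χ : K → IrrCharacter G
  inj : Function.Injective χ
  mult : ∀ i, classInner (fun g : G => (Nat.card (MulAction.fixedBy Ω g) : ℂ)) (χ i : G → ℂ) = 1
  rest : ∀ ψ : IrrCharacter G, (∀ i, χ i ≠ ψ) →
    classInner (fun g : G => (Nat.card (MulAction.fixedBy Ω g) : ℂ)) (ψ : G → ℂ) = 0
  /-- representatives of the suborbits -/
  y : K → Ω
  /-- lengths of the suborbits -/
  nk : K → ℕ
  cover : ∀ z, ∃ l, ∃ h : G, h • x0 = x0 ∧ h • y l = z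
  disj : ∀ k l (h : G), h • x0 = x0 → h • y l = y k → l = k
  card : ∀ k, Nat.card {z // ∃ h : G, h • x0 = x0 ∧ h • y k = z} = nk k

namespace Dat

variable {G : Type u} [Group G] [Fintype G] {Ω : Type*} [Fintype Ω] [DecidableEq Ω] [MulAction G Ω]
  {K : Type*} [Fintype K] [DecidableEq K] (D : Dat G Ω K)

/-- the degrees -/
noncomputable def f (i : K) : ℕ := charDegree (D.χ i : G → ℂ)

omit [DecidableEq K] in
theorem chi_one (i : K) : (D.χ i : G → ℂ) 1 = D.f i := Blocks.Basic.irr_one_eq_charDegree (D.χ i).2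

omit [DecidableEq K] in
theorem f_ne_zero (i : K) : D.f i ≠ 0 := (Blocks.Basic.charDegree_pos (D.χ i).2).ne'

/-- the entries -/
noncomputable def q (i k : K) : ℂ := kr (D.χ i : G → ℂ) D.x0 (D.y k)

theorem hsum (F : Ω → ℂ) (hF : ∀ h : G, h • D.x0 = D.x0 → ∀ x, F (h • x) = F x) :
    ∑ x, F x = ∑ k, (D.nk k : ℂ) * F (D.y k) := by
  classical
  choose cls hc1 hc2 hc3 using D.cover
  rw [← Finset.sum_fiberwise (s := Finset.univ) (g := cls)]
  refine Finset.sum_congr rfl fun k _ => ?_
  have h1 : ∀ x ∈ Finset.univ.filter (fun x => cls x = k), F x = F (D.y k) := by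
    intro x hx
    rw [← (Finset.mem_filter.1 hx).2]
    conv_lhs => rw [← hc3 x]
    exact hF (hc1 x) (hc2 x) _
  rw [Finset.sum_congr rfl h1, Finset.sum_const, nsmul_eq_mul, ← D.card k, ← Fintype.card_subtype,
    Nat.card_eq_fintype_card]
  congr 2
  refine Fintype.card_congr (Equiv.subtypeEquivRight fun z => ?_)
  constructor
  · rintro rfl
    exact ⟨hc1 z, hc2 z, hc3 z⟩
  · rintro ⟨h, h1, h2⟩
    refine D.disj _ _ (h⁻¹ * hc1 z) ?_ ?_
    · rw [mul_smul, hc2, inv_smul_eq_iff, h1]
    · rw [mul_smul, hc3, ← h2, inv_smul_smul]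

variable [MulAction.IsPretransitive G Ω]

include D in
omit [DecidableEq K] in
theorem n_ne_zero : (Nat.card Ω : ℂ) ≠ 0 := by
  have : Nonempty Ω := ⟨D.x0⟩
  exact_mod_cast Nat.card_pos.ne'

omit [DecidableEq K] in
theorem kr_self (i : K) : kr (D.χ i : G → ℂ) D.x0 D.x0 = (D.f i : ℂ) / (Nat.card Ω : ℂ) := by
  have h := Ker.kr_self (D.χ i) (m := 1) (by rw [D.mult, Nat.cast_one]) D.x0
  rw [Nat.cast_one, mul_one, D.chi_one] at h
  rw [eq_div_iff D.n_ne_zero, mul_comm, h]

theorem gram (i j : K) : ∑ k, (D.nk k : ℂ) * (kr (D.χ i : G → ℂ) D.x0 (D.y k) *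
    kr (D.χ j : G → ℂ) (D.y k) D.x0) = if i = j then (D.f i : ℂ) / (Nat.card Ω : ℂ) else 0 := by
  rw [← D.hsum (fun z => kr (D.χ i : G → ℂ) D.x0 z * kr (D.χ j : G → ℂ) z D.x0) ?_, kr_mul]
  · by_cases h : i = j
    · subst h
      rw [if_pos rfl, if_pos rfl, D.kr_self]
    · rw [if_neg (fun h' => h (D.inj h')), if_neg h]
  · intro h hh x
    have h1 := kr_smul (D.χ i).2 h D.x0 x
    have h2 := kr_smul (D.χ j).2 h x D.x0
    rw [hh] at h1 h2
    show kr (D.χ i : G → ℂ) D.x0 (h • x) * kr (D.χ j : G → ℂ) (h • x) D.x0 = _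
    rw [h1, h2]

/-- the symmetric case -/
def Symm : Prop := ∀ i k, kr (D.χ i : G → ℂ) (D.y k) D.x0 = kr (D.χ i : G → ℂ) D.x0 (D.y k)

/-- self-paired suborbits -/
theorem symm_of_paired (h : ∀ k, ∃ g : G, g • D.x0 = D.y k ∧ g • D.y k = D.x0) : D.Symm := by
  intro i k
  obtain ⟨g, h1, h2⟩ := h k
  have := kr_smul (D.χ i).2 g D.x0 (D.y k)
  rw [h1, h2] at this
  exact this

/-- the matrix -/
noncomputable def Q : Matrix K K ℂ := Matrix.of fun i k => D.q i k

variable {D}

theorem gram_matrix (hs : D.Symm) :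
    D.Q * Matrix.diagonal (fun k => (D.nk k : ℂ)) * D.Q.transpose =
      Matrix.diagonal (fun i => (D.f i : ℂ) / (Nat.card Ω : ℂ)) := by
  ext i j
  rw [Matrix.mul_apply, Matrix.diagonal_apply, ← D.gram i j]
  refine Finset.sum_congr rfl fun k _ => ?_
  rw [Matrix.mul_diagonal, Matrix.transpose_apply, hs j k]
  unfold Q q
  simp only [Matrix.of_apply]
  ring

theorem det_sq (hs : D.Symm) :
    D.Q.det ^ 2 * ∏ k, (D.nk k : ℂ) = ∏ i, ((D.f i : ℂ) / (Nat.card Ω : ℂ)) := by
  have h := congrArg Matrix.det (gram_matrix hs)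
  rw [Matrix.det_mul, Matrix.det_mul, Matrix.det_diagonal, Matrix.det_diagonal, Matrix.det_transpose] at h
  rw [← h]
  ring

omit [DecidableEq K] in
theorem nk_ne_zero (k : K) : (D.nk k : ℂ) ≠ 0 := by
  rw [← D.card k]
  have : Nonempty {z // ∃ h : G, h • D.x0 = D.x0 ∧ h • D.y k = z} :=
    ⟨⟨D.y k, 1, one_smul _ _, one_smul _ _⟩⟩
  exact_mod_cast Nat.card_pos.ne'

theorem dual (hs : D.Symm) (k l : K) :
    ∑ i, (Nat.card Ω : ℂ) / (D.f i : ℂ) * (D.q i k * D.q i l) = if k = l then (D.nk k : ℂ)⁻¹ else 0 := by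
  have h := gram_matrix hs
  have h1 : D.Q * (Matrix.diagonal (fun k => (D.nk k : ℂ)) * D.Q.transpose *
      Matrix.diagonal (fun i => (Nat.card Ω : ℂ) / (D.f i : ℂ))) = 1 := by
    rw [← Matrix.mul_assoc, ← Matrix.mul_assoc, h, Matrix.diagonal_mul_diagonal, ← Matrix.diagonal_one]
    congr 1
    funext i
    have hf : (D.f i : ℂ) ≠ 0 := Nat.cast_ne_zero.2 (D.f_ne_zero i)
    have hn := D.n_ne_zero
    field_simp
  have h2 := mul_eq_one_comm.1 h1
  have h3 := congrFun (congrFun h2 k) l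
  rw [Matrix.mul_apply, Matrix.one_apply] at h3
  have h4 : ∀ i, (Matrix.diagonal (fun k => (D.nk k : ℂ)) * D.Q.transpose *
      Matrix.diagonal (fun i => (Nat.card Ω : ℂ) / (D.f i : ℂ))) k i * D.Q i l =
      (D.nk k : ℂ) * ((Nat.card Ω : ℂ) / (D.f i : ℂ) * (D.q i k * D.q i l)) := by
    intro i
    rw [Matrix.mul_diagonal, Matrix.diagonal_mul, Matrix.transpose_apply]
    unfold Q
    simp only [Matrix.of_apply]
    ring
  rw [Finset.sum_congr rfl fun i _ => h4 i, ← Finset.mul_sum] at h3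
  have hk := D.nk_ne_zero k
  have h5 : ∑ i, (Nat.card Ω : ℂ) / (D.f i : ℂ) * (D.q i k * D.q i l) =
      (D.nk k : ℂ)⁻¹ * (if k = l then 1 else 0) := by
    rw [← h3, inv_mul_cancel_left₀ hk]
  rw [h5]
  split_ifs <;> ring

variable (D) in
/-- the eigenvalues -/
noncomputable def th (i k : K) : ℂ := (Nat.card Ω : ℂ) * (D.nk k : ℂ) * D.q i k / (D.f i : ℂ)

omit [DecidableEq K] in
theorem sum_q (k : K) : ∑ i, D.q i k = if D.x0 = D.y k then 1 else 0 := by
  classical
  have := finite_irr (G := G)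
  have := Fintype.ofFinite (IrrCharacter G)
  rw [← sum_kr (G := G) D.x0 (D.y k)]
  have h1 : ∑ i, D.q i k = ∑ χ ∈ Finset.univ.image D.χ, kr (χ : G → ℂ) D.x0 (D.y k) := by
    rw [Finset.sum_image fun a _ b _ h => D.inj h]
    rfl
  rw [h1]
  refine Finset.sum_subset (Finset.subset_univ _) fun χ _ hχ => ?_
  refine kr_eq_zero χ (D.rest χ fun i hi => hχ ?_) _ _
  exact Finset.mem_image.2 ⟨i, Finset.mem_univ _, hi⟩

/-- first trace equation -/
theorem trace_one {k : K} (hk : D.x0 ≠ D.y k) : ∑ i, (D.f i : ℂ) * D.th i k = 0 := by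
  have h := sum_q (D := D) k
  rw [if_neg hk] at h
  have h1 : ∀ i, (D.f i : ℂ) * D.th i k = (Nat.card Ω : ℂ) * (D.nk k : ℂ) * D.q i k := by
    intro i
    have hf : (D.f i : ℂ) ≠ 0 := Nat.cast_ne_zero.2 (D.f_ne_zero i)
    unfold th
    field_simp
  rw [Finset.sum_congr rfl fun i _ => h1 i, ← Finset.mul_sum, h, mul_zero]

/-- second trace equation -/
theorem trace_two (hs : D.Symm) (k : K) :
    ∑ i, (D.f i : ℂ) * D.th i k ^ 2 = (Nat.card Ω : ℂ) * (D.nk k : ℂ) := by
  have h := dual hs k k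
  rw [if_pos rfl] at h
  have hk := D.nk_ne_zero k
  have h1 : ∀ i, (D.f i : ℂ) * D.th i k ^ 2 = (Nat.card Ω : ℂ) * (D.nk k : ℂ) ^ 2 *
      ((Nat.card Ω : ℂ) / (D.f i : ℂ) * (D.q i k * D.q i k)) := by
    intro i
    have hf : (D.f i : ℂ) ≠ 0 := Nat.cast_ne_zero.2 (D.f_ne_zero i)
    unfold th
    field_simp
  rw [Finset.sum_congr rfl fun i _ => h1 i, ← Finset.mul_sum, h]
  field_simp

open scoped Classical in
/-- the adjacency matrix -/
noncomputable def adj (D : Dat G Ω K) (k : K) : Matrix Ω Ω ℤ :=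
  Matrix.of fun x z => if ∃ g : G, g • D.x0 = x ∧ g • D.y k = z then 1 else 0

theorem adj_eq (hs : D.Symm) (k : K) (x z : Ω) :
    ((D.adj k x z : ℤ) : ℂ) = ∑ i, D.th i k * kr (D.χ i : G → ℂ) x z := by
  classical
  obtain ⟨g, rfl⟩ := MulAction.exists_smul_eq G D.x0 x
  obtain ⟨z, rfl⟩ : ∃ z', z = g • z' := ⟨g⁻¹ • z, (smul_inv_smul g z).symm⟩
  have h1 : ∀ i, D.th i k * kr (D.χ i : G → ℂ) (g • D.x0) (g • z) = D.th i k * kr (D.χ i : G → ℂ) D.x0 z :=
    fun i => by rw [kr_smul (D.χ i).2]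
  rw [Finset.sum_congr rfl fun i _ => h1 i]
  obtain ⟨l, h, hh1, rfl⟩ := D.cover z
  have h2 : ∀ i, D.th i k * kr (D.χ i : G → ℂ) D.x0 (h • D.y l) =
      (D.nk k : ℂ) * ((Nat.card Ω : ℂ) / (D.f i : ℂ) * (D.q i k * D.q i l)) := by
    intro i
    have h3 := kr_smul (D.χ i).2 h D.x0 (D.y l)
    rw [hh1] at h3
    rw [h3]
    unfold th q
    ring
  rw [Finset.sum_congr rfl fun i _ => h2 i, ← Finset.mul_sum, dual hs]
  unfold adj
  simp only [Matrix.of_apply]
  have hiff : (∃ g' : G, g' • D.x0 = g • D.x0 ∧ g' • D.y k = g • h • D.y l) ↔ k = l := by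
    constructor
    · rintro ⟨g', h4, h5⟩
      refine D.disj _ _ (h⁻¹ * g⁻¹ * g') ?_ ?_
      · rw [mul_smul, mul_smul, h4, inv_smul_smul, inv_smul_eq_iff, hh1]
      · rw [mul_smul, mul_smul, h5, inv_smul_smul, inv_smul_smul]
    · rintro rfl
      exact ⟨g * h, by rw [mul_smul, hh1], by rw [mul_smul]⟩
  have hk := D.nk_ne_zero k
  by_cases hkl : k = l
  · rw [if_pos (hiff.2 hkl), if_pos hkl, Int.cast_one, mul_inv_cancel₀ hk]
  · rw [if_neg (fun h' => hkl (hiff.1 h')), if_neg hkl, Int.cast_zero, mul_zero]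

/-- the eigenvalues are algebraic integers -/
theorem isIntegral_th (hs : D.Symm) (i k : K) : IsIntegral ℤ (D.th i k) := by
  classical
  let A : Matrix Ω Ω ℂ := (D.adj k).map (Int.castRingHom ℂ)
  let v : Ω → ℂ := fun x => kr (D.χ i : G → ℂ) x D.x0
  have hv : v ≠ 0 := by
    intro h
    have h1 := congrFun h D.x0
    simp only [v, Pi.zero_apply, D.kr_self] at h1
    have hf : (D.f i : ℂ) ≠ 0 := Nat.cast_ne_zero.2 (D.f_ne_zero i)
    exact (div_ne_zero hf D.n_ne_zero) h1
  have hA : A.mulVec v = D.th i k • v := by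
    funext x
    rw [Matrix.mulVec, dotProduct, Pi.smul_apply, smul_eq_mul]
    have h1 : ∀ z, A x z * v z = ∑ j, D.th j k * (kr (D.χ j : G → ℂ) x z * kr (D.χ i : G → ℂ) z D.x0) := by
      intro z
      simp only [A, v, Matrix.map_apply, eq_intCast, adj_eq hs, Finset.sum_mul]
      refine Finset.sum_congr rfl fun j _ => ?_
      ring
    rw [Finset.sum_congr rfl fun z _ => h1 z, Finset.sum_comm]
    have h2 : ∀ j, ∑ z, D.th j k * (kr (D.χ j : G → ℂ) x z * kr (D.χ i : G → ℂ) z D.x0) =
        if j = i then D.th i k * v x else 0 := by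
      intro j
      rw [← Finset.mul_sum, kr_mul]
      by_cases h : j = i
      · subst h
        rw [if_pos rfl, if_pos rfl]
      · rw [if_neg (fun h' => h (D.inj h')), if_neg h, mul_zero]
    rw [Finset.sum_congr rfl fun j _ => h2 j, Finset.sum_ite_eq', if_pos (Finset.mem_univ _)]
  have hint : IsIntegral ℤ (D.adj k) := Matrix.isIntegral _
  obtain ⟨P, hP, hP0⟩ := hint
  refine ⟨P, hP, ?_⟩
  have hA' : (Polynomial.aeval (Matrix.toLin' A) P) v = (Polynomial.aeval (D.th i k) P) • v := by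
    have hE : ∀ P : Polynomial ℤ, (Polynomial.aeval (Matrix.toLin' A) P) v = (Polynomial.aeval (D.th i k) P) • v := by
      intro P
      induction P using Polynomial.induction_on' with
      | add p q hp hq => rw [map_add, map_add, LinearMap.add_apply, hp, hq, add_smul]
      | monomial m a =>
        rw [Polynomial.aeval_monomial, Polynomial.aeval_monomial]
        have hpow : ∀ m : ℕ, ((Matrix.toLin' A) ^ m) v = (D.th i k) ^ m • v := by
          intro m
          induction m with
          | zero => simp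
          | succ m ih =>
            rw [pow_succ', Module.End.mul_apply, ih, map_smul, Matrix.toLin'_apply, hA, smul_smul, pow_succ]
        rw [Module.End.mul_apply, hpow, mul_smul]
        funext x
        simp
        ring
    exact hE P
  have h0 : Polynomial.aeval (Matrix.toLin' A) P = 0 := by
    have h1 : Polynomial.aeval A P = 0 := by
      have h2 : A = (Int.castRingHom ℂ).mapMatrix (D.adj k) := rfl
      have h3 : Polynomial.aeval A P = (Int.castRingHom ℂ).mapMatrix (Polynomial.aeval (D.adj k) P) := by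
        rw [h2, Polynomial.aeval_def, Polynomial.aeval_def, Polynomial.hom_eval₂]
        congr 1
        exact RingHom.ext_int _ _
      rw [h3]
      have h4 : Polynomial.aeval (D.adj k) P = 0 := hP0
      rw [h4, map_zero]
    have h5 : Polynomial.aeval (Matrix.toLin' A) P = Matrix.toLin' (Polynomial.aeval A P) := by
      have := Polynomial.aeval_algHom_apply ((Matrix.toLinAlgEquiv' (R := ℂ) (n := Ω)).toAlgHom.restrictScalars ℤ) A P
      exact this
    rw [h5, h1, map_zero]
  rw [h0, LinearMap.zero_apply] at hA'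
  exact (smul_eq_zero.1 hA'.symm).resolve_right hv

end Dat

end Cfsg.Agent.H652.Four
end

-- part: H652/Four/FrameGal
section
/-!
# Frame's theorem, arithmetic consequences

For a transitive multiplicity-free action with constituent degrees `f i` and subdegrees `nk k`:

* `Dat.dvd` : `∏ f` divides `n ^ |K| * ∏ nk`;
* `Dat.isSquare` : if the constituents are rational valued then `n ^ |K| * ∏ nk * ∏ f` is a square;
* `Dat.pair` : two conjugate constituents.
-/

set_option autoImplicit false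
set_option linter.unusedSectionVars false

open Cfsg
open scoped ComplexConjugate

namespace Cfsg.Agent.H652.Four

open Cfsg.Agent.Characters.Core Cfsg.Agent.Characters Cfsg.Agent.H707.Orbits Ker

universe u

attribute [local instance] irrAction

namespace Dat

variable {G : Type u} [Group G] [Fintype G] {Ω : Type*} [Fintype Ω] [DecidableEq Ω] [MulAction G Ω]
  {K : Type*} [Fintype K] [DecidableEq K] {D : Dat G Ω K}

omit [DecidableEq K] in
/-- automorphisms permute the constituents -/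
theorem exists_perm (D : Dat G Ω K) (σ : ℂ ≃+* ℂ) : ∃ τ : Equiv.Perm K, ∀ i, σ • D.χ i = D.χ (τ i) := by
  have h1 : ∀ i, ∃ j, D.χ j = σ • D.χ i := by
    intro i
    by_contra hcon
    push Not at hcon
    have h2 := D.rest (σ • D.χ i) hcon
    have h3 := GaloisIrr.classInner_map σ (χ := fun g : G => (Nat.card (MulAction.fixedBy Ω g) : ℂ))
      (isIrr_isCharacter (D.χ i).2)
    rw [D.mult, map_one] at h3
    have h4 : (fun g : G => σ ((Nat.card (MulAction.fixedBy Ω g) : ℕ) : ℂ)) =
        fun g : G => (Nat.card (MulAction.fixedBy Ω g) : ℂ) := funext fun g => map_natCast σ _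
    rw [h4] at h3
    have h5 : (fun g => σ ((D.χ i : G → ℂ) g)) = ((σ • D.χ i : IrrCharacter G) : G → ℂ) := rfl
    rw [h5, h2] at h3
    exact zero_ne_one h3
  choose τ hτ using h1
  have hinj : Function.Injective τ := by
    intro i j hij
    have h2 := hτ i
    rw [hij, hτ j] at h2
    exact D.inj (MulAction.injective σ h2.symm)
  exact ⟨Equiv.ofBijective τ (Finite.injective_iff_bijective.1 hinj), fun i => (hτ i).symm⟩

omit [DecidableEq K] in
theorem map_q (σ : ℂ ≃+* ℂ) {i j : K} (h : σ • D.χ i = D.χ j) (k : K) : σ (D.q i k) = D.q j k := by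
  unfold q
  rw [map_kr, ← h]
  rfl

omit [DecidableEq K] in
theorem f_eq (σ : ℂ ≃+* ℂ) {i j : K} (h : σ • D.χ i = D.χ j) : D.f i = D.f j := by
  have h1 := smul_apply_one σ (D.χ i)
  rw [h, D.chi_one, D.chi_one] at h1
  exact_mod_cast h1.symm

omit [DecidableEq K] in
theorem map_th (σ : ℂ ≃+* ℂ) {i j : K} (h : σ • D.χ i = D.χ j) (k : K) : σ (D.th i k) = D.th j k := by
  unfold th
  rw [map_div₀, map_mul, map_mul, map_natCast, map_natCast, map_natCast, map_q σ h, f_eq σ h]

theorem map_det (σ : ℂ ≃+* ℂ) {τ : Equiv.Perm K} (h : ∀ i, σ • D.χ i = D.χ (τ i)) :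
    σ D.Q.det = ((Equiv.Perm.sign τ : ℤ) : ℂ) * D.Q.det := by
  have h1 : (σ : ℂ →+* ℂ).mapMatrix D.Q = D.Q.submatrix τ id := by
    ext i k
    exact map_q σ (h i) k
  have h2 : σ D.Q.det = ((σ : ℂ →+* ℂ).mapMatrix D.Q).det := RingHom.map_det (σ : ℂ →+* ℂ) D.Q
  rw [h2, h1, Matrix.det_permute]

variable [MulAction.IsPretransitive G Ω]

theorem q_eq (i k : K) : D.q i k = D.th i k * (D.f i : ℂ) / ((Nat.card Ω : ℂ) * (D.nk k : ℂ)) := by
  have hf : (D.f i : ℂ) ≠ 0 := Nat.cast_ne_zero.2 (D.f_ne_zero i)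
  have hn := D.n_ne_zero
  have hk := D.nk_ne_zero k
  unfold th
  field_simp

theorem isIntegral_q (hs : D.Symm) (i k : K) : IsIntegral ℚ (D.q i k) := by
  rw [q_eq, div_eq_mul_inv]
  refine ((isIntegral_th hs i k).tower_top.mul ?_).mul ?_
  · have : ((D.f i : ℕ) : ℂ) = algebraMap ℚ ℂ (D.f i : ℚ) := by simp
    rw [this]
    exact isIntegral_algebraMap
  · have : ((Nat.card Ω : ℂ) * (D.nk k : ℂ))⁻¹ = algebraMap ℚ ℂ (((Nat.card Ω : ℚ) * (D.nk k : ℚ))⁻¹) := by simp
    rw [this]
    exact isIntegral_algebraMap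

theorem isIntegral_det (hs : D.Symm) : IsIntegral ℚ D.Q.det :=
  IsIntegral.det fun i k => isIntegral_q hs i k

/-- the determinant of the matrix of eigenvalues -/
theorem det_th : (Matrix.of fun i k => D.th i k).det * ∏ i, (D.f i : ℂ) =
    (Nat.card Ω : ℂ) ^ Fintype.card K * (∏ k, (D.nk k : ℂ)) * D.Q.det := by
  have h1 : Matrix.diagonal (fun i => (D.f i : ℂ)) * (Matrix.of fun i k => D.th i k) =
      Matrix.diagonal (fun _ => (Nat.card Ω : ℂ)) * D.Q * Matrix.diagonal (fun k => (D.nk k : ℂ)) := by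
    ext i k
    rw [Matrix.diagonal_mul, Matrix.mul_diagonal, Matrix.diagonal_mul]
    unfold Q
    simp only [Matrix.of_apply]
    have hf : (D.f i : ℂ) ≠ 0 := Nat.cast_ne_zero.2 (D.f_ne_zero i)
    unfold th
    field_simp
  have h2 := congrArg Matrix.det h1
  rw [Matrix.det_mul, Matrix.det_mul, Matrix.det_mul, Matrix.det_diagonal, Matrix.det_diagonal,
    Matrix.det_diagonal, Finset.prod_const, Finset.card_univ] at h2
  rw [mul_comm, h2]
  ring

theorem prod_f_ne_zero : (∏ i, (D.f i : ℂ)) ≠ 0 :=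
  Finset.prod_ne_zero_iff.2 fun i _ => Nat.cast_ne_zero.2 (D.f_ne_zero i)

theorem prod_nk_ne_zero : (∏ k, (D.nk k : ℂ)) ≠ 0 :=
  Finset.prod_ne_zero_iff.2 fun k _ => D.nk_ne_zero k

theorem det_sq' (hs : D.Symm) :
    D.Q.det ^ 2 * ((Nat.card Ω : ℂ) ^ Fintype.card K * ∏ k, (D.nk k : ℂ)) = ∏ i, (D.f i : ℂ) := by
  have h := det_sq hs
  rw [Finset.prod_div_distrib, Finset.prod_const, Finset.card_univ] at h
  have hn : (Nat.card Ω : ℂ) ^ Fintype.card K ≠ 0 := pow_ne_zero _ D.n_ne_zero
  rw [eq_div_iff hn] at h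
  rw [← h]
  ring

/-- **Frame**: the product of the degrees divides. -/
theorem dvd (hs : D.Symm) : (∏ i, D.f i) ∣ Nat.card Ω ^ Fintype.card K * ∏ k, D.nk k := by
  let z := (Matrix.of fun i k => D.th i k).det ^ 2
  have hz : IsIntegral ℤ z := (IsIntegral.det fun i k => isIntegral_th hs i k).pow 2
  have hF := D.prod_f_ne_zero
  have e : z * ∏ i, (D.f i : ℂ) = (Nat.card Ω : ℂ) ^ Fintype.card K * ∏ k, (D.nk k : ℂ) := by
    have h1 := D.det_th
    have h2 := det_sq' hs
    have h3 : z * (∏ i, (D.f i : ℂ)) * ∏ i, (D.f i : ℂ) =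
        ((Nat.card Ω : ℂ) ^ Fintype.card K * ∏ k, (D.nk k : ℂ)) * ∏ i, (D.f i : ℂ) := by
      conv_rhs => rw [← h2]
      have h4 : z * (∏ i, (D.f i : ℂ)) * ∏ i, (D.f i : ℂ) =
          ((Matrix.of fun i k => D.th i k).det * ∏ i, (D.f i : ℂ)) ^ 2 := by
        simp only [z]; ring
      rw [h4, h1]
      ring
    exact mul_right_cancel₀ hF h3
  have hz2 : z = ((((Nat.card Ω ^ Fintype.card K * ∏ k, D.nk k : ℕ) : ℚ) / ((∏ i, D.f i : ℕ) : ℚ) : ℚ) : ℂ) := by
    push_cast
    rw [eq_div_iff hF, e]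
  obtain ⟨k, hk⟩ := GaloisBasic.exists_int_of_isIntegral hz ⟨_, hz2⟩
  rw [hk] at e
  have e2 : k * ((∏ i, D.f i : ℕ) : ℤ) = ((Nat.card Ω ^ Fintype.card K * ∏ k, D.nk k : ℕ) : ℤ) := by
    exact_mod_cast e
  exact Int.natCast_dvd_natCast.1 ⟨k, by rw [← e2, mul_comm]⟩

/-- **Frame**: rational constituents. -/
theorem isSquare (hs : D.Symm) (hfix : ∀ (σ : ℂ ≃+* ℂ) i, σ • D.χ i = D.χ i) :
    IsSquare (Nat.card Ω ^ Fintype.card K * (∏ k, D.nk k) * ∏ i, D.f i) := by
  obtain ⟨r, hr⟩ := GaloisBasic.exists_rat_of_forall_ringEquiv (isIntegral_det hs) (fun σ => by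
    rw [map_det σ (τ := 1) (fun i => hfix σ i)]
    simp)
  have h := det_sq' hs
  rw [hr] at h
  rw [← Rat.isSquare_natCast_iff]
  refine ⟨r * (Nat.card Ω ^ Fintype.card K * ∏ k, D.nk k : ℕ), ?_⟩
  have h1 : (r ^ 2 * ((Nat.card Ω : ℚ) ^ Fintype.card K * ∏ k, (D.nk k : ℚ)) : ℚ) = ∏ i, (D.f i : ℚ) := by
    exact_mod_cast h
  push_cast
  rw [← h1]
  ring

theorem exists_int_of_fixed {z : ℂ} (hz : IsIntegral ℤ z) (h : ∀ σ : ℂ ≃+* ℂ, σ z = z) : ∃ k : ℤ, z = k :=
  GaloisBasic.exists_int_of_isIntegral hz (GaloisBasic.exists_rat_of_forall_ringEquiv hz.tower_top h)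

theorem conj_q (hs : D.Symm) (i k : K) : conj (D.q i k) = D.q i k := by
  unfold q
  rw [← kr_symm (D.χ i), hs]

theorem conj_th (hs : D.Symm) (i k : K) : conj (D.th i k) = D.th i k := by
  unfold th
  rw [map_div₀, map_mul, map_mul, map_natCast, map_natCast, map_natCast, conj_q hs]

/-- **Two conjugate constituents.** -/
theorem pair (hs : D.Symm) {i j : K} (hij : i ≠ j)
    (hfix : ∀ (σ : ℂ ≃+* ℂ) l, l ≠ i → l ≠ j → σ • D.χ l = D.χ l) (k : K) :
    ∃ (t : K → ℤ) (a b : ℤ), (∀ l, l ≠ i → l ≠ j → D.th l k = t l) ∧ D.th i k + D.th j k = a ∧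
      D.th i k ^ 2 + D.th j k ^ 2 = b ∧ 0 ≤ 2 * b - a ^ 2 ∧
      IsSquare ((2 * b - a ^ 2) * ((Nat.card Ω ^ Fintype.card K * (∏ k, D.nk k) * ∏ i, D.f i : ℕ) : ℤ)) := by
  have hI := isIntegral_th (D := D) hs
  have h1 : ∀ l, ∃ t : ℤ, l ≠ i → l ≠ j → D.th l k = t := by
    intro l
    by_cases hl : l ≠ i ∧ l ≠ j
    · obtain ⟨t, ht⟩ := exists_int_of_fixed (hI l k) fun σ => map_th σ (hfix σ l hl.1 hl.2) k
      exact ⟨t, fun _ _ => ht⟩
    · exact ⟨0, fun h h' => absurd ⟨h, h'⟩ hl⟩
  choose t ht using h1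
  -- fixed or swapped
  have hsw : ∀ σ : ℂ ≃+* ℂ, (σ (D.th i k) = D.th i k ∧ σ (D.th j k) = D.th j k ∧ σ D.Q.det = D.Q.det) ∨
      (σ (D.th i k) = D.th j k ∧ σ (D.th j k) = D.th i k ∧ σ D.Q.det = - D.Q.det) := by
    intro σ
    obtain ⟨τ, hτ⟩ := D.exists_perm σ
    have hl : ∀ l, l ≠ i → l ≠ j → τ l = l := by
      intro l hli hlj
      have := hτ l
      rw [hfix σ l hli hlj] at this
      exact (D.inj this).symm
    have hi : τ i = i ∨ τ i = j := by
      by_contra hcon
      push Not at hcon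
      exact hcon.1 (τ.injective (hl _ hcon.1 hcon.2))
    have hj : τ j = i ∨ τ j = j := by
      by_contra hcon
      push Not at hcon
      exact hcon.2 (τ.injective (hl _ hcon.1 hcon.2))
    rcases hi with hi | hi
    · have hj : τ j = j := hj.resolve_left fun h => hij (τ.injective (hi.trans h.symm))
      left
      have hτ1 : τ = 1 := by
        ext l
        by_cases h1 : l = i
        · rw [h1, hi]; rfl
        · by_cases h2 : l = j
          · rw [h2, hj]; rfl
          · rw [hl l h1 h2]; rfl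
      refine ⟨map_th σ ((hτ i).trans (by rw [hi])) k, map_th σ ((hτ j).trans (by rw [hj])) k, ?_⟩
      rw [map_det σ hτ, hτ1]
      simp
    · have hj : τ j = i := hj.resolve_right fun h => hij (τ.injective (hi.trans h.symm))
      right
      have hτ1 : τ = Equiv.swap i j := by
        ext l
        by_cases h1 : l = i
        · rw [h1, hi, Equiv.swap_apply_left]
        · by_cases h2 : l = j
          · rw [h2, hj, Equiv.swap_apply_right]
          · rw [hl l h1 h2, Equiv.swap_apply_of_ne_of_ne h1 h2]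
      refine ⟨map_th σ ((hτ i).trans (by rw [hi])) k, map_th σ ((hτ j).trans (by rw [hj])) k, ?_⟩
      rw [map_det σ hτ, hτ1, Equiv.Perm.sign_swap hij]
      simp
  obtain ⟨a, ha⟩ := exists_int_of_fixed ((hI i k).add (hI j k)) fun σ => by
    rcases hsw σ with h | h
    · rw [map_add, h.1, h.2.1]
    · rw [map_add, h.1, h.2.1, add_comm]
  obtain ⟨b, hb⟩ := exists_int_of_fixed (((hI i k).pow 2).add ((hI j k).pow 2)) fun σ => by
    rcases hsw σ with h | h
    · rw [map_add, map_pow, map_pow, h.1, h.2.1]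
    · rw [map_add, map_pow, map_pow, h.1, h.2.1, add_comm]
  have hD : (D.th i k - D.th j k) ^ 2 = ((2 * b - a ^ 2 : ℤ) : ℂ) := by
    push_cast
    rw [← ha, ← hb]
    ring
  refine ⟨t, a, b, fun l => ht l, ha, hb, ?_, ?_⟩
  · -- real numbers
    have h1 : ∃ r : ℝ, D.th i k - D.th j k = r :=
      Complex.conj_eq_iff_real.1 (by rw [map_sub, conj_th hs, conj_th hs])
    obtain ⟨r, hr⟩ := h1
    rw [hr] at hD
    have h2 : r ^ 2 = ((2 * b - a ^ 2 : ℤ) : ℝ) := by exact_mod_cast hD
    have h3 : (0 : ℝ) ≤ ((2 * b - a ^ 2 : ℤ) : ℝ) := by rw [← h2]; exact sq_nonneg r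
    exact_mod_cast h3
  · obtain ⟨r, hr⟩ := GaloisBasic.exists_rat_of_forall_ringEquiv
      (z := (D.th i k - D.th j k) * D.Q.det)
      ((((hI i k).sub (hI j k)).tower_top).mul (isIntegral_det hs)) (fun σ => by
        rcases hsw σ with h | h
        · rw [map_mul, map_sub, h.1, h.2.1, h.2.2]
        · rw [map_mul, map_sub, h.1, h.2.1, h.2.2]; ring)
    have h := det_sq' hs
    have h2 : (((2 * b - a ^ 2 : ℤ) : ℂ) * ∏ i, (D.f i : ℂ)) =
        (r : ℂ) ^ 2 * ((Nat.card Ω : ℂ) ^ Fintype.card K * ∏ k, (D.nk k : ℂ)) := by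
      rw [← h, ← hr, ← hD]
      ring
    have h3 : (((2 * b - a ^ 2 : ℤ) : ℚ) * ∏ i, (D.f i : ℚ)) =
        r ^ 2 * ((Nat.card Ω : ℚ) ^ Fintype.card K * ∏ k, (D.nk k : ℚ)) := by
      exact_mod_cast h2
    rw [← Rat.isSquare_intCast_iff]
    refine ⟨r * (Nat.card Ω ^ Fintype.card K * ∏ k, D.nk k : ℕ), ?_⟩
    push_cast
    push_cast at h3
    linear_combination ((Nat.card Ω : ℚ) ^ Fintype.card K * ∏ k, (D.nk k : ℚ)) * h3

end Dat

end Cfsg.Agent.H652.Four
end

-- part: H652/Four/FrameExists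
section
/-!
# Frame's theorem: existence of the data
-/

set_option autoImplicit false
set_option linter.unusedSectionVars false

open Cfsg

namespace Cfsg.Agent.H652.Four

open Cfsg.Agent.Characters.Core Cfsg.Agent.Characters Cfsg.Agent.H707.Orbits Ker
  Cfsg.Agent.PermutationGroups

universe u

attribute [local instance] irrAction

namespace Dat

variable {G : Type u} [Group G] [Fintype G] {Ω : Type*} [Fintype Ω] [DecidableEq Ω] [MulAction G Ω]
  {K : Type*} [Fintype K]

/-- number of suborbits -/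
theorem card_suborbits (x0 : Ω) (y : K → Ω) (cover : ∀ z, ∃ l, ∃ h : G, h • x0 = x0 ∧ h • y l = z)
    (disj : ∀ k l (h : G), h • x0 = x0 → h • y l = y k → l = k) :
    Nat.card (MulAction.orbitRel.Quotient (MulAction.stabilizer G x0) Ω) = Nat.card K := by
  symm
  refine Nat.card_congr (Equiv.ofBijective
    (fun k => (Quotient.mk (MulAction.orbitRel (MulAction.stabilizer G x0) Ω) (y k))) ⟨?_, ?_⟩)
  · intro k l hkl
    have h : y k ∈ MulAction.orbit (MulAction.stabilizer G x0) (y l) := Quotient.exact hkl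
    obtain ⟨g, hg⟩ := h
    exact (disj k l (g : G) g.2 hg).symm
  · intro q
    induction q using Quotient.inductionOn with | _ z =>
    obtain ⟨l, h, h1, h2⟩ := cover z
    refine ⟨l, Quotient.sound ?_⟩
    refine ⟨⟨h⁻¹, ?_⟩, ?_⟩
    · rw [MulAction.mem_stabilizer_iff, inv_smul_eq_iff, h1]
    · change h⁻¹ • z = y l
      rw [← h2, inv_smul_smul]

variable [MulAction.IsPretransitive G Ω]

theorem exists_dat (x0 : Ω) (y : K → Ω) (nk : K → ℕ)
    (cover : ∀ z, ∃ l, ∃ h : G, h • x0 = x0 ∧ h • y l = z)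
    (disj : ∀ k l (h : G), h • x0 = x0 → h • y l = y k → l = k)
    (card : ∀ k, Nat.card {z // ∃ h : G, h • x0 = x0 ∧ h • y k = z} = nk k)
    (hmf : ∀ χ : G → ℂ, IsIrrCharacter G χ →
      classInner (fun g : G => (Nat.card (MulAction.fixedBy Ω g) : ℂ)) χ = 0 ∨
      classInner (fun g : G => (Nat.card (MulAction.fixedBy Ω g) : ℂ)) χ = 1) :
    ∃ D : Dat G Ω K, D.x0 = x0 ∧ D.y = y ∧ D.nk = nk ∧
      (∀ ψ : IrrCharacter G, classInner (fun g : G => (Nat.card (MulAction.fixedBy Ω g) : ℂ)) (ψ : G → ℂ) ≠ 0 →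
        ∃ i, D.χ i = ψ) ∧
      ∑ i, D.f i = Nat.card Ω := by
  classical
  obtain ⟨m, h1, h2, h3, h4⟩ := MultFree.exists_decomp (G := G) x0
  have hm : ∀ ψ : IrrCharacter G, m ψ = 0 ∨ m ψ = 1 := by
    intro ψ
    rcases hmf ψ ψ.2 with h | h
    · rw [h1 ψ] at h
      left; exact_mod_cast h
    · rw [h1 ψ] at h
      right; exact_mod_cast h
  have hms : ∀ ψ ∈ m.support, m ψ = 1 := fun ψ hψ => (hm ψ).resolve_left (Finsupp.mem_support_iff.1 hψ)
  have hc : Fintype.card K = Fintype.card m.support := by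
    rw [card_suborbits x0 y cover disj] at h3
    rw [Fintype.card_coe, ← Nat.card_eq_fintype_card, ← h3, Finset.card_eq_sum_ones]
    refine Finset.sum_congr rfl fun ψ hψ => ?_
    rw [hms ψ hψ, one_pow]
  let e : K ≃ m.support := Fintype.equivOfCardEq hc
  refine ⟨{ x0 := x0, χ := fun k => (e k : IrrCharacter G), inj := ?_, mult := ?_, rest := ?_, y := y, nk := nk,
            cover := cover, disj := disj, card := card }, rfl, rfl, rfl, ?_, ?_⟩
  · exact Subtype.val_injective.comp e.injective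
  · intro i
    rw [h1, hms _ (e i).2, Nat.cast_one]
  · intro ψ hψ
    rw [h1]
    by_contra hne
    rw [Nat.cast_eq_zero] at hne
    exact hψ (e.symm ⟨ψ, Finsupp.mem_support_iff.2 hne⟩) (by rw [Equiv.apply_symm_apply])
  · intro ψ hψ
    rw [h1, Nat.cast_ne_zero] at hψ
    exact ⟨e.symm ⟨ψ, Finsupp.mem_support_iff.2 hψ⟩, by simp only [Equiv.apply_symm_apply]⟩
  · apply Nat.cast_injective (R := ℂ)
    rw [h4, Nat.cast_sum]
    have h5 : ∑ ψ ∈ m.support, (m ψ : ℂ) * (ψ : G → ℂ) 1 = ∑ ψ : m.support, ((ψ : IrrCharacter G) : G → ℂ) 1 := by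
      rw [Finset.sum_coe_sort m.support (fun ψ : IrrCharacter G => (ψ : G → ℂ) 1)]
      refine Finset.sum_congr rfl fun ψ hψ => ?_
      rw [hms ψ hψ, Nat.cast_one, one_mul]
    rw [h5, ← Equiv.sum_comp e]
    refine Finset.sum_congr rfl fun i _ => ?_
    exact (Blocks.Basic.irr_one_eq_charDegree (e i : IrrCharacter G).2).symm

end Dat

end Cfsg.Agent.H652.Four
end

-- part: H652/Four/FramePair
section
/-!
# Paired suborbits; rank five; the parity argument
-/

set_option autoImplicit false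
set_option linter.unusedSectionVars false

open Cfsg

namespace Cfsg.Agent.H652.Four

open Cfsg.Agent.Characters.Core Cfsg.Agent.Characters Cfsg.Agent.H707.Orbits Ker

universe u

attribute [local instance] irrAction

namespace Dat

variable {G : Type u} [Group G] [Fintype G] {Ω : Type*} [Fintype Ω] [DecidableEq Ω] [MulAction G Ω]
  {K : Type*} [Fintype K] [DecidableEq K]

/-- orbit-stabiliser for a two-point stabiliser -/
theorem card_mul_card (x b : Ω) :
    Nat.card {z : Ω // ∃ h : G, h • x = x ∧ h • b = z} * Nat.card {h : G // h • x = x ∧ h • b = b} =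
      Nat.card {h : G // h • x = x} := by
  classical
  have h1 := MulAction.card_orbit_mul_card_stabilizer_eq_card_group (MulAction.stabilizer G x) b
  rw [← Nat.card_eq_fintype_card, ← Nat.card_eq_fintype_card, ← Nat.card_eq_fintype_card] at h1
  have e1 : Nat.card {z : Ω // ∃ h : G, h • x = x ∧ h • b = z} =
      Nat.card (MulAction.orbit (MulAction.stabilizer G x) b) := by
    refine Nat.card_congr (Equiv.subtypeEquivRight fun z => ?_)
    constructor
    · rintro ⟨h, h1, h2⟩
      exact ⟨⟨h, h1⟩, h2⟩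
    · rintro ⟨h, h2⟩
      exact ⟨h, h.2, h2⟩
  have e2 : Nat.card {h : G // h • x = x ∧ h • b = b} =
      Nat.card (MulAction.stabilizer (MulAction.stabilizer G x) b) :=
    Nat.card_congr
      { toFun := fun h => ⟨⟨h.1, h.2.1⟩, h.2.2⟩
        invFun := fun h => ⟨h.1.1, h.1.2, h.2⟩
        left_inv := fun _ => rfl
        right_inv := fun _ => rfl }
  rw [e1, e2, h1]
  rfl

/-- paired suborbits have the same length -/
theorem card_paired (x : Ω) (g : G) :
    Nat.card {z : Ω // ∃ h : G, h • x = x ∧ h • (g⁻¹ • x) = z} =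
      Nat.card {z : Ω // ∃ h : G, h • x = x ∧ h • (g • x) = z} := by
  have h1 := card_mul_card (G := G) x (g⁻¹ • x)
  have h2 := card_mul_card (G := G) x (g • x)
  have e : Nat.card {h : G // h • x = x ∧ h • (g⁻¹ • x) = g⁻¹ • x} =
      Nat.card {h : G // h • x = x ∧ h • (g • x) = g • x} := by
    refine Nat.card_congr ((MulAut.conj g).toEquiv.subtypeEquiv fun h => ?_)
    have e1 : (MulAut.conj g).toEquiv h = g * h * g⁻¹ := rfl
    have a1 : (g * h * g⁻¹) • x = x ↔ h • g⁻¹ • x = g⁻¹ • x := by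
      rw [mul_smul, mul_smul, smul_eq_iff_eq_inv_smul]
    have a2 : (g * h * g⁻¹) • g • x = g • x ↔ h • x = x := by
      rw [mul_smul, mul_smul, inv_smul_smul, smul_left_cancel_iff]
    rw [e1, a1, a2]
    exact and_comm
  rw [e, ← h2] at h1
  refine Nat.eq_of_mul_eq_mul_right ?_ h1
  have : Nonempty {h : G // h • x = x ∧ h • (g • x) = g • x} := ⟨⟨1, one_smul _ _, one_smul _ _⟩⟩
  exact Nat.card_pos

/-- different subdegrees: all suborbits are self-paired -/
theorem symm_of_injective [MulAction.IsPretransitive G Ω] (D : Dat G Ω K) (hinj : Function.Injective D.nk) :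
    D.Symm := by
  apply D.symm_of_paired
  intro k
  obtain ⟨g, hg⟩ := MulAction.exists_smul_eq G D.x0 (D.y k)
  obtain ⟨l, h, h1, h2⟩ := D.cover (g⁻¹ • D.x0)
  have hlk : l = k := by
    apply hinj
    rw [← D.card l, ← D.card k, ← hg, ← card_paired, ← h2]
    refine Nat.card_congr (Equiv.subtypeEquivRight fun z => ?_)
    constructor
    · rintro ⟨a, ha1, ha2⟩
      refine ⟨a * h⁻¹, ?_, ?_⟩
      · rw [mul_smul]
        have : h⁻¹ • D.x0 = D.x0 := by rw [inv_smul_eq_iff, h1]
        rw [this, ha1]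
      · rw [mul_smul, inv_smul_smul, ha2]
    · rintro ⟨a, ha1, ha2⟩
      exact ⟨a * h, by rw [mul_smul, h1, ha1], by rw [mul_smul, ha2]⟩
  subst hlk
  refine ⟨g * h, ?_, ?_⟩
  · rw [mul_smul, h1, hg]
  · rw [mul_smul, h2, smul_inv_smul]

/-- the principal character -/
theorem exists_trivial [MulAction.IsPretransitive G Ω] (D : Dat G Ω K) :
    ∃ i0, (D.χ i0 : G → ℂ) = 1 := by
  classical
  by_contra hcon
  push Not at hcon
  have h1 := D.rest ⟨1, isIrr_one⟩ (fun i h => hcon i (congrArg Subtype.val h))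
  obtain ⟨m, h2, h3, -, -⟩ := Cfsg.Agent.PermutationGroups.MultFree.exists_decomp (G := G) D.x0
  have h4 := h2 ⟨_, Cfsg.Agent.PermutationGroups.MultFree.isIrr_one⟩
  rw [h3] at h4
  have h5 : (fun _ : G => (1 : ℂ)) = 1 := rfl
  simp only [h5] at h4
  rw [show ((⟨1, isIrr_one⟩ : IrrCharacter G) : G → ℂ) = 1 from rfl, h4] at h1
  simp at h1

variable {D : Dat G Ω K}

theorem smul_trivial {i0 : K} (h : (D.χ i0 : G → ℂ) = 1) (σ : ℂ ≃+* ℂ) : σ • D.χ i0 = D.χ i0 := by
  apply Subtype.ext
  funext g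
  rw [H707.Orbits.smul_apply, h, Pi.one_apply, map_one]

theorem f_trivial {i0 : K} (h : (D.χ i0 : G → ℂ) = 1) : D.f i0 = 1 := by
  have := D.chi_one i0
  rw [h, Pi.one_apply] at this
  exact_mod_cast this.symm

theorem th_trivial [MulAction.IsPretransitive G Ω] {i0 : K} (h : (D.χ i0 : G → ℂ) = 1) (k : K) :
    D.th i0 k = D.nk k := by
  have h1 : D.q i0 k = 1 / (Nat.card Ω : ℂ) := by
    obtain ⟨g, hg⟩ := MulAction.exists_smul_eq G D.x0 (D.y k)
    have h2 : kr (D.χ i0 : G → ℂ) D.x0 (D.y k) = kr (D.χ i0 : G → ℂ) D.x0 D.x0 := by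
      rw [← hg]
      unfold kr
      congr 1
      refine Fintype.sum_equiv (Equiv.mulRight g) _ _ fun a => ?_
      rw [h]
      simp only [Equiv.coe_mulRight, mul_smul, Pi.one_apply]
    unfold q
    rw [h2, D.kr_self, f_trivial h, Nat.cast_one]
  unfold th
  rw [h1, f_trivial h, Nat.cast_one]
  have hn := D.n_ne_zero
  field_simp

theorem f_dvd_card (i : K) : D.f i ∣ Nat.card G := by
  obtain ⟨d, hd, hd2⟩ := Cfsg.Agent.H707.Norm.exists_degree (D.χ i).2
  have := D.chi_one i
  rw [hd2] at this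
  have h : d = D.f i := by exact_mod_cast this
  rw [← h]
  exact hd

/-- **Parity**: if no constituent has degree divisible by four and the Galois group fixes all of them then
`n ^ |K| * ∏ nk` has the wrong valuation. -/
theorem parity [MulAction.IsPretransitive G Ω] (hs : D.Symm) (h4 : ∀ i, ¬ 4 ∣ D.f i)
    (hsum : ∑ i, D.f i = Nat.card Ω)
    (hfix : ∀ (σ : ℂ ≃+* ℂ) i, σ • D.χ i = D.χ i) :
    (Nat.card Ω ^ Fintype.card K * ∏ k, D.nk k).factorization 2 % 2 = (Nat.card Ω + Fintype.card K) % 2 := by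
  have hsq := isSquare hs hfix
  have hn0 : Nat.card Ω ≠ 0 := by
    have := D.n_ne_zero
    exact_mod_cast this
  have hnk0 : (∏ k, D.nk k) ≠ 0 := by
    have := D.prod_nk_ne_zero
    exact_mod_cast this
  have hf0 : (∏ i, D.f i) ≠ 0 := by
    have := D.prod_f_ne_zero
    exact_mod_cast this
  have hA : Nat.card Ω ^ Fintype.card K * ∏ k, D.nk k ≠ 0 := mul_ne_zero (pow_ne_zero _ hn0) hnk0
  obtain ⟨y, hy⟩ := hsq
  have hy0 : y ≠ 0 := by
    rintro rfl
    exact (mul_ne_zero hA hf0) hy
  have h1 := congrArg (fun m : ℕ => m.factorization 2) hy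
  rw [Nat.factorization_mul hA hf0, Nat.factorization_mul hy0 hy0, Finsupp.add_apply, Finsupp.add_apply,
    Nat.factorization_prod fun i _ => D.f_ne_zero i, Finsupp.finsetSum_apply] at h1
  have h2 : ∀ i, (D.f i).factorization 2 % 2 = (D.f i + 1) % 2 := by
    intro i
    by_cases h : 2 ∣ D.f i
    · obtain ⟨e, he⟩ := h
      have he0 : ¬ 2 ∣ e := fun h' => h4 i (by obtain ⟨c, rfl⟩ := h'; exact ⟨c, by rw [he]; ring⟩)
      have he1 : e ≠ 0 := by rintro rfl; exact he0 (dvd_zero 2)
      rw [he, Nat.factorization_mul two_ne_zero he1, Finsupp.add_apply,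
        Nat.Prime.factorization_self Nat.prime_two, Nat.factorization_eq_zero_of_not_dvd he0]
      omega
    · rw [Nat.factorization_eq_zero_of_not_dvd h]
      omega
  have h3 : (∑ i, (D.f i).factorization 2) % 2 = (∑ i, (D.f i + 1)) % 2 := by
    rw [Finset.sum_nat_mod, Finset.sum_nat_mod Finset.univ 2 (fun i => D.f i + 1)]
    congr 1
    exact Finset.sum_congr rfl fun i _ => h2 i
  rw [Finset.sum_add_distrib, hsum, Finset.sum_const, Finset.card_univ, smul_eq_mul, mul_one] at h3
  omega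

end Dat

end Cfsg.Agent.H652.Four
end

-- part: H652/Four/LyArith
section
/-!
# Arithmetic for the rank five action of the Lyons group: the kernel check

There are no `f, f, f1, f2` dividing the group order, not divisible by four, `1 + 2 f + f1 + f2 = n`,
with a system of eigenvalues satisfying the trace equations.
-/

set_option autoImplicit false

namespace Cfsg.Agent.H652.Four.LyArith

open Cfsg.Agent.Lib.PackMat

/-- `|a - b|` -/
noncomputable def ad (a b : ℕ) : ℕ := Nat.add (Nat.sub a b) (Nat.sub b a)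

/-- Newton iteration for the square root -/
noncomputable def newton (x : ℕ) (k : ℕ) : ℕ → ℕ :=
  Nat.rec (motive := fun _ => ℕ → ℕ) (fun s => s)
    (fun _ ih s => force (Nat.div (Nat.add s (Nat.div x s)) 2) ih) k

/-- approximate square root -/
noncomputable def root (x : ℕ) : ℕ :=
  force x fun x =>
  force (bif Nat.ble 1 (Nat.shiftRight x 128) then 128 else 0) fun a =>
  force (bif Nat.ble 1 (Nat.shiftRight x (Nat.add a 64)) then Nat.add a 64 else a) fun a =>
  force (bif Nat.ble 1 (Nat.shiftRight x (Nat.add a 32)) then Nat.add a 32 else a) fun a =>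
  force (bif Nat.ble 1 (Nat.shiftRight x (Nat.add a 16)) then Nat.add a 16 else a) fun a =>
  force (bif Nat.ble 1 (Nat.shiftRight x (Nat.add a 8)) then Nat.add a 8 else a) fun a =>
  force (bif Nat.ble 1 (Nat.shiftRight x (Nat.add a 4)) then Nat.add a 4 else a) fun a =>
  force (bif Nat.ble 1 (Nat.shiftRight x (Nat.add a 2)) then Nat.add a 2 else a) fun a =>
  newton x 8 (Nat.shiftLeft 2 (Nat.div a 2))

/-- certified non-square -/
private noncomputable def nonsq0 (x : ℕ) : Bool :=
  force x fun x => force (root x) fun s => force (Nat.mul s s) fun s2 =>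
    bif Nat.blt s2 x then Nat.blt x (Nat.mul (Nat.succ s) (Nat.succ s))
    else bif Nat.blt x s2 then Nat.blt (Nat.mul (Nat.pred s) (Nat.pred s)) x else false

private def qm0 : ℕ := 0x4000002001c0004000002010004010000009002201160000c8846020203005000280500200000240026001040068002410108402040001130080604064028001000026001104002000500b00c10040202109001800030601a00080880001000040004000088059002c22018000884040020a3041002c0041000980060000008094004011001000084c020401109082200560020810440002000044042005010900802400620030180688024021000000810001b00002002400b8085002022201100800c40460b0011000820018000582001101080400408030100014044402208005900ac0401020080004102088040026821410008800e0204020090804001002200106c0004001000062015408208c04402021120180408050029000000016000b04002000000200c4802010011908900042440b8005008020001000c02040101a0051000c20018101480080221020400088040102010006400208805000a83001000088484202021041026801400008102c00140000040000130083004064024001301086041540020010408300012040002005003800080601220290880080006020004808800419000d02040000a8005002023001100c004c0421a0051000c04010005000081020080c000c811010800004e402201005180a80400220010480012081040062003418108802402100000188004130023011040034001300082201500820c5846030213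

private def qm1 : ℕ := 0x5000b0a6224144150209298011590a448a0448240812d002319080038044408081a205231d0226380081780900884230200663c100d38289078430480866a204c53c000a384011708640814c52001823812253

private def qm2 : ℕ := 0x24802800c536300600c4a2102040731498040819328a088000ce430100046d82002006079941080191e420a50008366016a006431822502068981488001c0e029018832304420a003000800522088118018840c0a50185803016a026b100035022540000a8109ac40814109b4001220e43230034050249400a83994ca00141c52030002026e1302100435c84142028ba840ac41c1f6201480223a20221003459c048020a8ca00d0041d07000a0803a38211031050414a01020c80a9418c40505620a488382a40323104058820960008d014da44050a020b1082a10613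

private noncomputable def bit (M m x : ℕ) : Bool := Nat.beq (Nat.mod (Nat.shiftRight M (Nat.mod x m)) 2) 1

/-- certified non-square -/
noncomputable def nonsq (x : ℕ) : Bool :=
  force x fun x => bif bit qm0 4199 x then bif bit qm1 667 x then bif bit qm2 1763 x then nonsq0 x
    else true else true else true

/-- inverse by the euclidean algorithm (not verified) -/
noncomputable def euc (m : ℕ) (k : ℕ) : ℕ → ℕ → ℕ → ℕ → ℕ :=
  Nat.rec (motive := fun _ => ℕ → ℕ → ℕ → ℕ → ℕ) (fun _ _ s0 _ => s0)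
    (fun _ ih r0 r1 s0 s1 => bif Nat.beq r1 0 then s0 else
      force (Nat.div r0 r1) fun q => force (Nat.sub r0 (Nat.mul q r1)) fun r2 =>
      force (Nat.mod (Nat.add s0 (Nat.sub m (Nat.mod (Nat.mul q s1) m))) m) fun s2 => ih r1 r2 s1 s2) k

/-- number of points -/
abbrev nn : ℕ := 8835156

/-- order -/
abbrev NN' : ℕ := 51765179004000000

/-- the product of the subdegrees -/
abbrev PS : ℕ := 19530 * 968750 * 2034375 * 5812500

/-- one candidate -/
noncomputable def cand (f f1 W T1 R1 base P0 s1 : ℕ) : Bool :=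
  force s1 fun s1 => force (ad s1 T1) fun x1 =>
  force (Nat.mul f1 (Nat.mul x1 x1)) fun e1 =>
  bif Nat.ble e1 R1 then
    force (Nat.sub R1 e1) fun rem =>
    bif Nat.beq (Nat.mod rem f) 0 then
      force (Nat.div rem f) fun b =>
      force (Nat.div (ad (Nat.add P0 (Nat.mul f1 s1)) base) f) fun a =>
      bif Nat.ble (Nat.mul a a) (Nat.mul 2 b) then
        nonsq (Nat.mul (Nat.sub (Nat.mul 2 b) (Nat.mul a a)) W)
      else true
    else true
  else true

/-- inner loop -/
noncomputable def inner (f f1 W T1 m R1 r base P0 lo hi : ℕ) : Bool :=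
  force (Nat.add lo (Nat.mod (Nat.sub (Nat.add r m) (Nat.mod lo m)) m)) fun st =>
  bif Nat.ble st hi then
    allBelow (fun j => cand f f1 W T1 R1 base P0 (Nat.add st (Nat.mul m j)))
      (Nat.succ (Nat.div (Nat.sub hi st) m))
  else true

/-- outer loop -/
noncomputable def outer (nk f f1 f2 R T1 T2 S g m u W base c0 q : ℕ) : Bool :=
  force (Nat.mod (Nat.add nk T2) q) fun r2 =>
  allBelow (fun i =>
      force (Nat.add r2 (Nat.mul q i)) fun s2 =>
      force (Nat.add nk (Nat.mul f2 s2)) fun P0 =>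
      force (Nat.mod (Nat.add P0 c0) f) fun C =>
      bif Nat.beq (Nat.mod C g) 0 then
        force (ad s2 T2) fun x2 => force (Nat.mul f2 (Nat.mul x2 x2)) fun e2 =>
        bif Nat.ble e2 R then
          force (Nat.sub R e2) fun R1 =>
          force (Nat.mod (Nat.add T1 (Nat.sub m (Nat.mod (Nat.mul u (Nat.div C g)) m))) m) fun r =>
          force (Nat.div (Nat.sub (Nat.sub base S) P0) f1) fun lo =>
          force (Nat.div (Nat.sub (Nat.add base S) P0) f1) fun hi =>
          force (bif Nat.ble hi (Nat.mul 2 T1) then hi else (Nat.mul 2 T1)) fun hi =>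
          inner f f1 W T1 m R1 r base P0 lo hi
        else true
      else true) (Nat.succ (Nat.div (Nat.mul 2 T2) q))

/-- no solutions for the subdegree `nk` -/
noncomputable def orb (nk f f1 f2 : ℕ) : Bool :=
  force (Nat.mul nk (Nat.sub nn nk)) fun R =>
  force (root (Nat.div R f1)) fun T1 => force (root (Nat.div R f2)) fun T2 =>
  force (Nat.succ (root (Nat.mul 2 (Nat.mul R f)))) fun S =>
  force (Nat.gcd f1 f) fun g => force (Nat.div f g) fun m =>
  force (euc m 40 m (Nat.mod (Nat.div f1 g) m) 0 1) fun u =>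
  force (Nat.mul (Nat.mul nn PS) (Nat.mul f1 f2)) fun W =>
  force (Nat.add (Nat.mul f1 T1) (Nat.mul f2 T2)) fun base =>
  force (Nat.sub f (Nat.mod (Nat.mul f2 T2) f)) fun c0 =>
  force (Nat.gcd f 81807) fun q0 => force (Nat.div q0 (Nat.gcd q0 f2)) fun q =>
  bif Nat.blt R (Nat.mul f1 (Nat.mul (Nat.succ T1) (Nat.succ T1))) then
  bif Nat.blt R (Nat.mul f2 (Nat.mul (Nat.succ T2) (Nat.succ T2))) then
  bif Nat.blt (Nat.mul 2 (Nat.mul R f)) (Nat.mul S S) then
  bif Nat.beq (Nat.mod (Nat.mul u f1) f) (Nat.mod g f) then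
  bif Nat.beq (Nat.gcd q f2) 1 then
  bif Nat.beq (Nat.mod 81807 q) 0 then
  bif Nat.beq (Nat.mod f q) 0 then
    outer nk f f1 f2 R T1 T2 S g m u W base c0 q
  else false else false else false else false else false else false else false

/-- a triple is impossible -/
noncomputable def tri (f f1 f2 : ℕ) : Bool :=
  bif Nat.beq (Nat.mod (Nat.mul (Nat.pow nn 5) PS) (Nat.mul (Nat.mul f f) (Nat.mul f1 f2))) 0 then
    bif orb 19530 f f1 f2 then true else orb 2034375 f f1 f2
  else true

/-- all elements of a list -/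
noncomputable def allL (p : ℕ → Bool) (l : List ℕ) : Bool :=
  List.rec (motive := fun _ => Bool) true (fun a _ ih => bif p a then ih else false) l

/-- merging decreasing lists -/
def mrg : ℕ → List ℕ → List ℕ → List ℕ
  | 0, _, _ => []
  | _ + 1, [], m => m
  | _ + 1, a :: l, [] => a :: l
  | k + 1, a :: l, b :: m => bif Nat.blt b a then a :: mrg k l (b :: m) else b :: mrg k (a :: l) m

/-- multiples by powers of `p` -/
def mp (p : ℕ) (l : List ℕ) : ℕ → List ℕ
  | 0 => l
  | k + 1 => mrg 4000 ((mp p l k).map (p * ·)) l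

/-- divisors of the group order not divisible by four, decreasing -/
def gen : List ℕ := mp 2 (mp 3 (mp 5 (mp 7 (mp 11 (mp 31 (mp 37 (mp 67 [1] 1) 1) 1) 1) 1) 6) 7) 1

/-- those below the number of points, decreasing -/
def DL : List ℕ := [8793750, 8741250, 8718750, 8700615, 8636166, 8589735, 8567625, 8547525, 8516475, 8474625,
  8453390, 8433558, 8419950, 8411850, 8366625, 8361630, 8353125, 8291250, 8241750, 8093750, 8069145, 8059095,
  8056125, 7996450, 7948710, 7914375, 7909650, 7885625, 7867125, 7846875, 7808850, 7796250, 7788750, 7746875,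
  7742250, 7631250, 7608051, 7593750, 7570665, 7521822, 7462125, 7459375, 7457670, 7417575, 7362630, 7328125,
  7326450, 7323750, 7284375, 7218750, 7196805, 7168750, 7153839, 7065954, 7027965, 7016625, 7009875, 6968025,
  6964650, 6923070, 6916410, 6909375, 6905250, 6868125, 6834375, 6817250, 6783750, 6781250, 6743250, 6626367,
  6623925, 6591375, 6542550, 6507375, 6503490, 6496875, 6490625, 6451875, 6448750, 6410250, 6393750, 6378750,
  6359375, 6281250, 6268185, 6243750, 6230763, 6224769, 6214725, 6168690, 6135525, 6131862, 6105375, 6103125,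
  6023970, 6021750, 6014250, 5917373, 5906250, 5888295, 5853141, 5803875, 5800410, 5769225, 5763675, 5754375,
  5726490, 5711750, 5698350, 5677650, 5664330, 5653125, 5649750, 5619375, 5577750, 5568750, 5551821, 5452125,
  5421573, 5419575, 5379430, 5372730, 5370750, 5341875, 5328125, 5315625, 5276250, 5244750, 5231250, 5220369,
  5203125, 5153841, 5140575, 5128515, 5109885, 5072034, 5047110, 5019975, 5018125, 5016978, 5011875, 4974750,
  4945050, 4856250, 4841487, 4833675, 4797870, 4772075, 4769226, 4748625, 4745790, 4731375, 4720275, 4708125,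
  4685310, 4677750, 4673250, 4648125, 4645350, 4640625, 4606250, 4578750, 4556250, 4542399, 4477275, 4475625,
  4450545, 4417578, 4415950, 4396875, 4394250, 4370625, 4359375, 4338250, 4331250, 4318083, 4301250, 4226695,
  4216779, 4209975, 4205925, 4180815, 4178790, 4153842, 4149846, 4145625, 4143150, 4120875, 4090350, 4070250,
  4068750, 4046875, 4045950, 3998225, 3974355, 3954825, 3925530, 3904425, 3902094, 3898125, 3894375, 3871125,
  3869250, 3846150, 3842450, 3836250, 3827250, 3815625, 3796875, 3768750, 3760911, 3746250, 3728835, 3701214,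
  3681315, 3663225, 3661875, 3634750, 3614382, 3613050, 3609375, 3584375, 3561250, 3543750, 3532977, 3482325,
  3480246, 3468750, 3461535, 3458205, 3452625, 3435894, 3427050, 3419010, 3408625, 3406590, 3391875, 3390625,
  3389850, 3371625, 3346650, 3341250, 3271275, 3251745, 3227658, 3224375, 3223638, 3222450, 3205125, 3196875,
  3189375, 3165750, 3154250, 3146850, 3140625, 3138750, 3121875, 3098750, 3093750, 3084345, 3065931, 3028266,
  3011985, 3010875, 3007125, 2984850, 2983750, 2967030, 2953125, 2931250, 2913750, 2906250, 2900205, 2878722,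
  2863245, 2855875, 2849175, 2838825, 2832165, 2824875, 2811186, 2806650, 2803950, 2788875, 2787210, 2784375,
  2763750, 2747250, 2733750, 2689715, 2686365, 2685375, 2649570, 2638125, 2636550, 2622375, 2615625, 2602950,
  2598750, 2596250, 2580750, 2543750, 2536017, 2531250, 2523555, 2508489, 2507274, 2487375, 2485890, 2472525,
  2454210, 2442150, 2441250, 2428125, 2406250, 2398935, 2384613, 2372895, 2355318, 2342655, 2338875, 2336625,
  2322675, 2321550, 2307690, 2305470, 2303125, 2301750, 2289375, 2278125, 2261250, 2247750, 2208789, 2207975,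
  2197125, 2180850, 2169125, 2167830, 2165625, 2150625, 2136750, 2131250, 2126250, 2093750, 2089395, 2081250,
  2076921, 2074923, 2071575, 2056230, 2051406, 2045175, 2043954, 2035125, 2034375, 2022975, 2007990, 2007250,
  2004750, 1968750, 1962765, 1951047, 1934625, 1933470, 1923075, 1921225, 1918125, 1913625, 1908830, 1899450,
  1892550, 1888110, 1884375, 1883250, 1873125, 1859250, 1856250, 1850607, 1817375, 1807191, 1806525, 1790910,
  1790250, 1780625, 1780218, 1771875, 1758750, 1748250, 1743750, 1740123, 1734375, 1717947, 1713525, 1709505,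
  1703295, 1694925, 1690678, 1683990, 1682370, 1673325, 1672326, 1670625, 1658250, 1648350, 1618750, 1613829,
  1611819, 1611225, 1599290, 1589742, 1582875, 1581930, 1577125, 1573425, 1569375, 1561770, 1559250, 1557750,
  1549375, 1548450, 1546875, 1526250, 1518750, 1514133, 1492425, 1491875, 1491534, 1483515, 1472526, 1465625,
  1465290, 1464750, 1456875, 1453125, 1443750, 1439361, 1433750, 1405593, 1403325, 1401975, 1393605, 1392930,
  1384614, 1383282, 1381875, 1381050, 1373625, 1366875, 1363450, 1356750, 1356250, 1348650, 1324785, 1318275,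
  1308510, 1301475, 1300698, 1299375, 1298125, 1290375, 1289750, 1282050, 1278750, 1275750, 1271875, 1265625,
  1256250, 1253637, 1248750, 1242945, 1233738, 1227105, 1221075, 1220625, 1204794, 1204350, 1203125, 1202850,
  1181250, 1177659, 1160775, 1160082, 1156250, 1153845, 1152735, 1150875, 1145298, 1142350, 1139670, 1135530,
  1132866, 1130625, 1129950, 1123875, 1115550, 1113750, 1090425, 1083915, 1075886, 1074546, 1074150, 1068375,
  1065625, 1063125, 1055250, 1048950, 1046875, 1046250, 1040625, 1031250, 1028115, 1025703, 1021977, 1009422,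
  1003995, 1003625, 1002375, 994950, 989010, 984375, 971250, 968750, 966735, 959574, 954415, 949725, 949158,
  946275, 944055, 941625, 937062, 935550, 934650, 929625, 929070, 928125, 921250, 915750, 911250, 895455,
  895125, 890109, 883190, 879375, 878850, 874125, 871875, 867650, 866250, 860250, 845339, 843750, 841995,
  841185, 836163, 835758, 829125, 828630, 824175, 818070, 814050, 813750, 809375, 809190, 799645, 794871,
  790965, 785106, 780885, 779625, 778875, 774225, 773850, 769230, 768490, 767250, 765450, 763125, 759375,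
  753750, 749250, 745767, 736263, 732645, 732375, 726950, 722610, 721875, 716875, 712250, 708750, 696465,
  693750, 692307, 691641, 690525, 685410, 683802, 681725, 681318, 678375, 678125, 677970, 674325, 669330,
  668250, 656250, 654255, 650349, 644875, 644490, 641025, 639375, 637875, 633150, 630850, 629370, 628125,
  627750, 624375, 619750, 618750, 616869, 602397, 602175, 601425, 596970, 596750, 593406, 590625, 586250,
  582750, 581250, 580041, 578125, 572649, 571175, 569835, 567765, 566433, 564975, 561330, 560790, 557775,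
  557442, 556875, 552750, 549450, 546750, 537943, 537273, 537075, 529914, 527625, 527310, 524475, 523125,
  520590, 519750, 519250, 516150, 515625, 508750, 506250, 504711, 497475, 497178, 494505, 490842, 488430,
  488250, 485625, 484375, 481250, 479787, 474579, 468531, 467775, 467325, 464535, 464310, 461538, 461094,
  460625, 460350, 457875, 455625, 452250, 449550, 441595, 439425, 436170, 433825, 433566, 433125, 430125,
  427350, 426250, 425250, 421875, 418750, 417879, 416250, 414315, 411246, 409035, 407025, 406875, 404595,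
  401598, 401450, 400950, 393750, 392553, 386925, 386694, 384615, 384245, 383625, 382725, 381766, 379890,
  378510, 377622, 376875, 376650, 374625, 371850, 371250, 363475, 361305, 358182, 358050, 356125, 354375,
  351750, 349650, 348750, 346875, 343750, 342705, 341901, 340659, 338985, 336798, 336474, 334665, 334125,
  331650, 329670, 328125, 323750, 322245, 319858, 316575, 316386, 315425, 314685, 313875, 312354, 311850,
  311550, 309875, 309690, 309375, 305250, 303750, 298485, 298375, 296703, 293125, 293058, 292950, 291375,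
  290625, 288750, 286750, 281250, 280665, 280395, 278721, 278586, 276375, 276210, 274725, 273375, 272690,
  271350, 271250, 269730, 264957, 263655, 261702, 260295, 259875, 259625, 258075, 257950, 256410, 255750,
  255150, 254375, 253125, 251250, 249750, 248589, 245421, 244215, 244125, 240870, 240625, 240570, 236250,
  232155, 231250, 230769, 230547, 230175, 228470, 227934, 227106, 226125, 225990, 224775, 223110, 222750,
  218750, 218085, 216783, 214830, 213675, 213125, 212625, 211050, 209790, 209375, 209250, 208125, 206250,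
  205623, 200799, 200725, 200475, 198990, 197802, 196875, 194250, 193750, 193347, 190883, 189945, 189255,
  188811, 188325, 187110, 186930, 185925, 185814, 185625, 184250, 183150, 182250, 179091, 179025, 176638,
  175875, 175770, 174825, 174375, 173530, 173250, 172050, 171875, 168750, 168399, 168237, 165825, 165726,
  164835, 163614, 162810, 162750, 161875, 161838, 159929, 158193, 156177, 155925, 155775, 154845, 154770,
  153846, 153698, 153450, 153090, 152625, 151875, 150750, 149850, 146529, 146475, 145390, 144522, 144375,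
  143375, 142450, 141750, 140625, 139293, 138750, 138105, 137082, 136345, 135675, 135625, 135594, 134865,
  133866, 133650, 131250, 130851, 128975, 128898, 128205, 127875, 127575, 126630, 126170, 125874, 125625,
  125550, 124875, 123950, 123750, 120435, 120285, 119394, 119350, 118125, 117250, 116550, 116250, 115625,
  114235, 113967, 113553, 112995, 112266, 112158, 111555, 111375, 110550, 109890, 109375, 109350, 107415,
  105525, 105462, 104895, 104625, 104118, 103950, 103850, 103230, 103125, 101750, 101250, 99495, 98901, 97686,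
  97650, 97125, 96875, 96250, 93750, 93555, 93465, 92907, 92862, 92125, 92070, 91575, 91125, 90450, 89910,
  88319, 87885, 87234, 86765, 86625, 86025, 85470, 85250, 85050, 84375, 83750, 83250, 82863, 81807, 81405,
  81375, 80919, 80290, 80190, 78750, 77385, 76923, 76849, 76725, 76545, 75978, 75702, 75375, 75330, 74925,
  74370, 74250, 72695, 72261, 71610, 71225, 70875, 70350, 69930, 69750, 69375, 68750, 68541, 67797, 66933,
  66825, 66330, 65934, 65625, 64750, 64449, 63315, 63085, 62937, 62775, 62370, 62310, 61975, 61938, 61875,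
  61050, 60750, 59697, 59675, 58625, 58590, 58275, 58125, 57750, 57350, 56250, 56133, 56079, 55275, 55242,
  54945, 54675, 54538, 54270, 54250, 53946, 52731, 52059, 51975, 51925, 51615, 51590, 51282, 51150, 51030,
  50875, 50625, 50250, 49950, 48843, 48825, 48174, 48125, 48114, 47250, 46875, 46431, 46250, 46035, 45694,
  45225, 45198, 44955, 44622, 44550, 43750, 43617, 42966, 42735, 42625, 42525, 42210, 41958, 41875, 41850,
  41625, 41250, 40145, 40095, 39798, 39375, 38850, 38750, 37989, 37851, 37665, 37422, 37386, 37185, 37125,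
  36850, 36630, 36450, 35805, 35175, 35154, 34965, 34875, 34706, 34650, 34410, 34375, 33750, 33165, 32967,
  32562, 32550, 32375, 31250, 31185, 31155, 30969, 30954, 30690, 30618, 30525, 30375, 30150, 29970, 29295,
  29078, 28875, 28675, 28490, 28350, 28125, 27750, 27621, 27269, 27135, 27125, 26973, 26730, 26250, 25795,
  25641, 25575, 25515, 25326, 25234, 25125, 25110, 24975, 24790, 24750, 24087, 24057, 23870, 23625, 23450,
  23310, 23250, 23125, 22847, 22599, 22311, 22275, 22110, 21978, 21875, 21870, 21483, 21105, 20979, 20925,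
  20790, 20770, 20646, 20625, 20350, 20250, 19899, 19530, 19425, 19375, 19250, 18750, 18711, 18693, 18425,
  18414, 18315, 18225, 18090, 17982, 17577, 17353, 17325, 17205, 17094, 17050, 17010, 16875, 16750, 16650,
  16281, 16275, 16058, 16038, 15750, 15625, 15477, 15345, 15309, 15075, 15066, 14985, 14874, 14850, 14539,
  14322, 14245, 14175, 14070, 13986, 13950, 13875, 13750, 13365, 13266, 13125, 12950, 12663, 12617, 12555,
  12474, 12462, 12395, 12375, 12210, 12150, 11935, 11725, 11718, 11655, 11625, 11550, 11470, 11250, 11055,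
  10989, 10935, 10854, 10850, 10395, 10385, 10323, 10318, 10230, 10206, 10175, 10125, 10050, 9990, 9765, 9625,
  9450, 9375, 9250, 9207, 9045, 8991, 8910, 8750, 8547, 8525, 8505, 8442, 8375, 8370, 8325, 8250, 8029, 8019,
  7875, 7770, 7750, 7533, 7437, 7425, 7370, 7326, 7290, 7161, 7035, 6993, 6975, 6930, 6882, 6875, 6750, 6633,
  6510, 6475, 6250, 6237, 6231, 6138, 6105, 6075, 6030, 5994, 5859, 5775, 5735, 5698, 5670, 5625, 5550, 5427,
  5425, 5346, 5250, 5159, 5115, 5103, 5025, 5022, 4995, 4958, 4950, 4774, 4725, 4690, 4662, 4650, 4625, 4455,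
  4422, 4375, 4374, 4221, 4185, 4158, 4154, 4125, 4070, 4050, 3906, 3885, 3875, 3850, 3750, 3685, 3663, 3645,
  3618, 3465, 3441, 3410, 3402, 3375, 3350, 3330, 3255, 3150, 3125, 3069, 3015, 2997, 2970, 2849, 2835, 2814,
  2790, 2775, 2750, 2673, 2625, 2590, 2511, 2479, 2475, 2442, 2430, 2387, 2345, 2331, 2325, 2310, 2294, 2250,
  2211, 2187, 2170, 2079, 2077, 2046, 2035, 2025, 2010, 1998, 1953, 1925, 1890, 1875, 1850, 1809, 1782, 1750,
  1705, 1701, 1675, 1674, 1665, 1650, 1575, 1554, 1550, 1485, 1474, 1458, 1407, 1395, 1386, 1375, 1350, 1302,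
  1295, 1250, 1221, 1215, 1206, 1155, 1147, 1134, 1125, 1110, 1085, 1050, 1023, 1005, 999, 990, 945, 938, 930,
  925, 891, 875, 837, 825, 814, 810, 777, 775, 770, 750, 737, 729, 693, 682, 675, 670, 666, 651, 630, 625,
  603, 594, 567, 558, 555, 550, 525, 518, 495, 486, 469, 465, 462, 450, 434, 407, 405, 402, 385, 378, 375,
  370, 350, 341, 335, 333, 330, 315, 310, 297, 279, 275, 270, 259, 250, 243, 231, 225, 222, 217, 210, 201,
  198, 189, 186, 185, 175, 165, 162, 155, 154, 150, 135, 134, 126, 125, 111, 110, 105, 99, 93, 90, 81, 77, 75,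
  74, 70, 67, 66, 63, 62, 55, 54, 50, 45, 42, 37, 35, 33, 31, 30, 27, 25, 22, 21, 18, 15, 14, 11, 10, 9, 7, 6,
  5, 3, 2, 1]

theorem DL_eq : gen.filter (fun d => Nat.blt d 8835156) = DL := by decide +kernel

/-- one double degree -/
noncomputable def scan (f rest : ℕ) (l : List ℕ) : Bool :=
  List.rec (motive := fun _ => Bool) true (fun a _ ih =>
    bif Nat.ble rest a then ih else
    bif Nat.blt (Nat.mul 2 a) rest then true else
    force (Nat.sub rest a) fun e =>
      bif Nat.beq (Nat.mod NN' e) 0 then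
        bif Nat.beq (Nat.mod e 4) 0 then ih else bif tri f e a then ih else false
      else ih) l

private noncomputable def BL : List (ℕ × ℕ × List ℕ) := [
  (8793750, 8093750, [8793750, 8741250, 8718750, 8700615, 8636166, 8589735, 8567625, 8547525, 8516475, 8474625,
  8453390, 8433558, 8419950, 8411850, 8366625, 8361630, 8353125, 8291250, 8241750, 8093750]), (8069145, 7521822,
  [8069145, 8059095, 8056125, 7996450, 7948710, 7914375, 7909650, 7885625, 7867125, 7846875, 7808850, 7796250,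
  7788750, 7746875, 7742250, 7631250, 7608051, 7593750, 7570665, 7521822]), (7462125, 6923070, [7462125, 7459375,
  7457670, 7417575, 7362630, 7328125, 7326450, 7323750, 7284375, 7218750, 7196805, 7168750, 7153839, 7065954,
  7027965, 7016625, 7009875, 6968025, 6964650, 6923070]), (6916410, 6410250, [6916410, 6909375, 6905250, 6868125,
  6834375, 6817250, 6783750, 6781250, 6743250, 6626367, 6623925, 6591375, 6542550, 6507375, 6503490, 6496875,
  6490625, 6451875, 6448750, 6410250]), (6393750, 5888295, [6393750, 6378750, 6359375, 6281250, 6268185, 6243750,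
  6230763, 6224769, 6214725, 6168690, 6135525, 6131862, 6105375, 6103125, 6023970, 6021750, 6014250, 5917373,
  5906250, 5888295]), (5853141, 5419575, [5853141, 5803875, 5800410, 5769225, 5763675, 5754375, 5726490, 5711750,
  5698350, 5677650, 5664330, 5653125, 5649750, 5619375, 5577750, 5568750, 5551821, 5452125, 5421573, 5419575]),
  (5379430, 5016978, [5379430, 5372730, 5370750, 5341875, 5328125, 5315625, 5276250, 5244750, 5231250, 5220369,
  5203125, 5153841, 5140575, 5128515, 5109885, 5072034, 5047110, 5019975, 5018125, 5016978]), (5011875, 4640625,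
  [5011875, 4974750, 4945050, 4856250, 4841487, 4833675, 4797870, 4772075, 4769226, 4748625, 4745790, 4731375,
  4720275, 4708125, 4685310, 4677750, 4673250, 4648125, 4645350, 4640625]), (4606250, 4209975, [4606250, 4578750,
  4556250, 4542399, 4477275, 4475625, 4450545, 4417578, 4415950, 4396875, 4394250, 4370625, 4359375, 4338250,
  4331250, 4318083, 4301250, 4226695, 4216779, 4209975]), (4205925, 3898125, [4205925, 4180815, 4178790, 4153842,
  4149846, 4145625, 4143150, 4120875, 4090350, 4070250, 4068750, 4046875, 4045950, 3998225, 3974355, 3954825,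
  3925530, 3904425, 3902094, 3898125]), (3894375, 3613050, [3894375, 3871125, 3869250, 3846150, 3842450, 3836250,
  3827250, 3815625, 3796875, 3768750, 3760911, 3746250, 3728835, 3701214, 3681315, 3663225, 3661875, 3634750,
  3614382, 3613050]), (3609375, 3371625, [3609375, 3584375, 3561250, 3543750, 3532977, 3482325, 3480246, 3468750,
  3461535, 3458205, 3452625, 3435894, 3427050, 3419010, 3408625, 3406590, 3391875, 3390625, 3389850, 3371625]),
  (3346650, 3084345, [3346650, 3341250, 3271275, 3251745, 3227658, 3224375, 3223638, 3222450, 3205125, 3196875,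
  3189375, 3165750, 3154250, 3146850, 3140625, 3138750, 3121875, 3098750, 3093750, 3084345]), (3065931, 2824875,
  [3065931, 3028266, 3011985, 3010875, 3007125, 2984850, 2983750, 2967030, 2953125, 2931250, 2913750, 2906250,
  2900205, 2878722, 2863245, 2855875, 2849175, 2838825, 2832165, 2824875]), (2811186, 2596250, [2811186, 2806650,
  2803950, 2788875, 2787210, 2784375, 2763750, 2747250, 2733750, 2689715, 2686365, 2685375, 2649570, 2638125,
  2636550, 2622375, 2615625, 2602950, 2598750, 2596250]), (2580750, 2342655, [2580750, 2543750, 2536017, 2531250,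
  2523555, 2508489, 2507274, 2487375, 2485890, 2472525, 2454210, 2442150, 2441250, 2428125, 2406250, 2398935,
  2384613, 2372895, 2355318, 2342655]), (2338875, 2150625, [2338875, 2336625, 2322675, 2321550, 2307690, 2305470,
  2303125, 2301750, 2289375, 2278125, 2261250, 2247750, 2208789, 2207975, 2197125, 2180850, 2169125, 2167830,
  2165625, 2150625]), (2136750, 1968750, [2136750, 2131250, 2126250, 2093750, 2089395, 2081250, 2076921, 2074923,
  2071575, 2056230, 2051406, 2045175, 2043954, 2035125, 2034375, 2022975, 2007990, 2007250, 2004750, 1968750]),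
  (1962765, 1807191, [1962765, 1951047, 1934625, 1933470, 1923075, 1921225, 1918125, 1913625, 1908830, 1899450,
  1892550, 1888110, 1884375, 1883250, 1873125, 1859250, 1856250, 1850607, 1817375, 1807191]), (1806525, 1673325,
  [1806525, 1790910, 1790250, 1780625, 1780218, 1771875, 1758750, 1748250, 1743750, 1740123, 1734375, 1717947,
  1713525, 1709505, 1703295, 1694925, 1690678, 1683990, 1682370, 1673325]), (1672326, 1548450, [1672326, 1670625,
  1658250, 1648350, 1618750, 1613829, 1611819, 1611225, 1599290, 1589742, 1582875, 1581930, 1577125, 1573425,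
  1569375, 1561770, 1559250, 1557750, 1549375, 1548450]), (1546875, 1401975, [1546875, 1526250, 1518750, 1514133,
  1492425, 1491875, 1491534, 1483515, 1472526, 1465625, 1465290, 1464750, 1456875, 1453125, 1443750, 1439361,
  1433750, 1405593, 1403325, 1401975]), (1393605, 1290375, [1393605, 1392930, 1384614, 1383282, 1381875, 1381050,
  1373625, 1366875, 1363450, 1356750, 1356250, 1348650, 1324785, 1318275, 1308510, 1301475, 1300698, 1299375,
  1298125, 1290375]), (1289750, 1177659, [1289750, 1282050, 1278750, 1275750, 1271875, 1265625, 1256250, 1253637,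
  1248750, 1242945, 1233738, 1227105, 1221075, 1220625, 1204794, 1204350, 1203125, 1202850, 1181250, 1177659]),
  (1160775, 1074546, [1160775, 1160082, 1156250, 1153845, 1152735, 1150875, 1145298, 1142350, 1139670, 1135530,
  1132866, 1130625, 1129950, 1123875, 1115550, 1113750, 1090425, 1083915, 1075886, 1074546]), (1074150, 984375,
  [1074150, 1068375, 1065625, 1063125, 1055250, 1048950, 1046875, 1046250, 1040625, 1031250, 1028115, 1025703,
  1021977, 1009422, 1003995, 1003625, 1002375, 994950, 989010, 984375]), (971250, 895455, [971250, 968750, 966735,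
  959574, 954415, 949725, 949158, 946275, 944055, 941625, 937062, 935550, 934650, 929625, 929070, 928125, 921250,
  915750, 911250, 895455]), (895125, 818070, [895125, 890109, 883190, 879375, 878850, 874125, 871875, 867650,
  866250, 860250, 845339, 843750, 841995, 841185, 836163, 835758, 829125, 828630, 824175, 818070]), (814050, 753750,
  [814050, 813750, 809375, 809190, 799645, 794871, 790965, 785106, 780885, 779625, 778875, 774225, 773850, 769230,
  768490, 767250, 765450, 763125, 759375, 753750]), (749250, 681318, [749250, 745767, 736263, 732645, 732375,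
  726950, 722610, 721875, 716875, 712250, 708750, 696465, 693750, 692307, 691641, 690525, 685410, 683802, 681725,
  681318]), (678375, 624375, [678375, 678125, 677970, 674325, 669330, 668250, 656250, 654255, 650349, 644875,
  644490, 641025, 639375, 637875, 633150, 630850, 629370, 628125, 627750, 624375]), (619750, 566433, [619750,
  618750, 616869, 602397, 602175, 601425, 596970, 596750, 593406, 590625, 586250, 582750, 581250, 580041, 578125,
  572649, 571175, 569835, 567765, 566433]), (564975, 519250, [564975, 561330, 560790, 557775, 557442, 556875,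
  552750, 549450, 546750, 537943, 537273, 537075, 529914, 527625, 527310, 524475, 523125, 520590, 519750, 519250]),
  (516150, 464535, [516150, 515625, 508750, 506250, 504711, 497475, 497178, 494505, 490842, 488430, 488250, 485625,
  484375, 481250, 479787, 474579, 468531, 467775, 467325, 464535]), (464310, 421875, [464310, 461538, 461094,
  460625, 460350, 457875, 455625, 452250, 449550, 441595, 439425, 436170, 433825, 433566, 433125, 430125, 427350,
  426250, 425250, 421875]), (418750, 382725, [418750, 417879, 416250, 414315, 411246, 409035, 407025, 406875,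
  404595, 401598, 401450, 400950, 393750, 392553, 386925, 386694, 384615, 384245, 383625, 382725]), (381766, 343750,
  [381766, 379890, 378510, 377622, 376875, 376650, 374625, 371850, 371250, 363475, 361305, 358182, 358050, 356125,
  354375, 351750, 349650, 348750, 346875, 343750]), (342705, 312354, [342705, 341901, 340659, 338985, 336798,
  336474, 334665, 334125, 331650, 329670, 328125, 323750, 322245, 319858, 316575, 316386, 315425, 314685, 313875,
  312354]), (311850, 280395, [311850, 311550, 309875, 309690, 309375, 305250, 303750, 298485, 298375, 296703,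
  293125, 293058, 292950, 291375, 290625, 288750, 286750, 281250, 280665, 280395]), (278721, 255750, [278721,
  278586, 276375, 276210, 274725, 273375, 272690, 271350, 271250, 269730, 264957, 263655, 261702, 260295, 259875,
  259625, 258075, 257950, 256410, 255750]), (255150, 227934, [255150, 254375, 253125, 251250, 249750, 248589,
  245421, 244215, 244125, 240870, 240625, 240570, 236250, 232155, 231250, 230769, 230547, 230175, 228470, 227934]),
  (227106, 205623, [227106, 226125, 225990, 224775, 223110, 222750, 218750, 218085, 216783, 214830, 213675, 213125,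
  212625, 211050, 209790, 209375, 209250, 208125, 206250, 205623]), (200799, 184250, [200799, 200725, 200475,
  198990, 197802, 196875, 194250, 193750, 193347, 190883, 189945, 189255, 188811, 188325, 187110, 186930, 185925,
  185814, 185625, 184250]), (183150, 163614, [183150, 182250, 179091, 179025, 176638, 175875, 175770, 174825,
  174375, 173530, 173250, 172050, 171875, 168750, 168399, 168237, 165825, 165726, 164835, 163614]), (162810, 146529,
  [162810, 162750, 161875, 161838, 159929, 158193, 156177, 155925, 155775, 154845, 154770, 153846, 153698, 153450,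
  153090, 152625, 151875, 150750, 149850, 146529]), (146475, 131250, [146475, 145390, 144522, 144375, 143375,
  142450, 141750, 140625, 139293, 138750, 138105, 137082, 136345, 135675, 135625, 135594, 134865, 133866, 133650,
  131250]), (130851, 117250, [130851, 128975, 128898, 128205, 127875, 127575, 126630, 126170, 125874, 125625,
  125550, 124875, 123950, 123750, 120435, 120285, 119394, 119350, 118125, 117250]), (116550, 104625, [116550,
  116250, 115625, 114235, 113967, 113553, 112995, 112266, 112158, 111555, 111375, 110550, 109890, 109375, 109350,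
  107415, 105525, 105462, 104895, 104625]), (104118, 92125, [104118, 103950, 103850, 103230, 103125, 101750, 101250,
  99495, 98901, 97686, 97650, 97125, 96875, 96250, 93750, 93555, 93465, 92907, 92862, 92125]), (92070, 81405,
  [92070, 91575, 91125, 90450, 89910, 88319, 87885, 87234, 86765, 86625, 86025, 85470, 85250, 85050, 84375, 83750,
  83250, 82863, 81807, 81405]), (81375, 71610, [81375, 80919, 80290, 80190, 78750, 77385, 76923, 76849, 76725,
  76545, 75978, 75702, 75375, 75330, 74925, 74370, 74250, 72695, 72261, 71610]), (71225, 62775, [71225, 70875,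
  70350, 69930, 69750, 69375, 68750, 68541, 67797, 66933, 66825, 66330, 65934, 65625, 64750, 64449, 63315, 63085,
  62937, 62775]), (62370, 55242, [62370, 62310, 61975, 61938, 61875, 61050, 60750, 59697, 59675, 58625, 58590,
  58275, 58125, 57750, 57350, 56250, 56133, 56079, 55275, 55242]), (54945, 48843, [54945, 54675, 54538, 54270,
  54250, 53946, 52731, 52059, 51975, 51925, 51615, 51590, 51282, 51150, 51030, 50875, 50625, 50250, 49950, 48843]),
  (48825, 42625, [48825, 48174, 48125, 48114, 47250, 46875, 46431, 46250, 46035, 45694, 45225, 45198, 44955, 44622,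
  44550, 43750, 43617, 42966, 42735, 42625]), (42525, 37125, [42525, 42210, 41958, 41875, 41850, 41625, 41250,
  40145, 40095, 39798, 39375, 38850, 38750, 37989, 37851, 37665, 37422, 37386, 37185, 37125]), (36850, 31185,
  [36850, 36630, 36450, 35805, 35175, 35154, 34965, 34875, 34706, 34650, 34410, 34375, 33750, 33165, 32967, 32562,
  32550, 32375, 31250, 31185]), (31155, 27135, [31155, 30969, 30954, 30690, 30618, 30525, 30375, 30150, 29970,
  29295, 29078, 28875, 28675, 28490, 28350, 28125, 27750, 27621, 27269, 27135]), (27125, 23450, [27125, 26973,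
  26730, 26250, 25795, 25641, 25575, 25515, 25326, 25234, 25125, 25110, 24975, 24790, 24750, 24087, 24057, 23870,
  23625, 23450]), (23310, 20350, [23310, 23250, 23125, 22847, 22599, 22311, 22275, 22110, 21978, 21875, 21870,
  21483, 21105, 20979, 20925, 20790, 20770, 20646, 20625, 20350]), (20250, 17094, [20250, 19899, 19530, 19425,
  19375, 19250, 18750, 18711, 18693, 18425, 18414, 18315, 18225, 18090, 17982, 17577, 17353, 17325, 17205, 17094]),
  (17050, 14539, [17050, 17010, 16875, 16750, 16650, 16281, 16275, 16058, 16038, 15750, 15625, 15477, 15345, 15309,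
  15075, 15066, 14985, 14874, 14850, 14539]), (14322, 12210, [14322, 14245, 14175, 14070, 13986, 13950, 13875,
  13750, 13365, 13266, 13125, 12950, 12663, 12617, 12555, 12474, 12462, 12395, 12375, 12210]), (12150, 10206,
  [12150, 11935, 11725, 11718, 11655, 11625, 11550, 11470, 11250, 11055, 10989, 10935, 10854, 10850, 10395, 10385,
  10323, 10318, 10230, 10206]), (10175, 8370, [10175, 10125, 10050, 9990, 9765, 9625, 9450, 9375, 9250, 9207, 9045,
  8991, 8910, 8750, 8547, 8525, 8505, 8442, 8375, 8370]), (8325, 6875, [8325, 8250, 8029, 8019, 7875, 7770, 7750,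
  7533, 7437, 7425, 7370, 7326, 7290, 7161, 7035, 6993, 6975, 6930, 6882, 6875]), (6750, 5427, [6750, 6633, 6510,
  6475, 6250, 6237, 6231, 6138, 6105, 6075, 6030, 5994, 5859, 5775, 5735, 5698, 5670, 5625, 5550, 5427]), (5425,
  4375, [5425, 5346, 5250, 5159, 5115, 5103, 5025, 5022, 4995, 4958, 4950, 4774, 4725, 4690, 4662, 4650, 4625, 4455,
  4422, 4375]), (4374, 3410, [4374, 4221, 4185, 4158, 4154, 4125, 4070, 4050, 3906, 3885, 3875, 3850, 3750, 3685,
  3663, 3645, 3618, 3465, 3441, 3410]), (3402, 2590, [3402, 3375, 3350, 3330, 3255, 3150, 3125, 3069, 3015, 2997,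
  2970, 2849, 2835, 2814, 2790, 2775, 2750, 2673, 2625, 2590]), (2511, 2025, [2511, 2479, 2475, 2442, 2430, 2387,
  2345, 2331, 2325, 2310, 2294, 2250, 2211, 2187, 2170, 2079, 2077, 2046, 2035, 2025]), (2010, 1485, [2010, 1998,
  1953, 1925, 1890, 1875, 1850, 1809, 1782, 1750, 1705, 1701, 1675, 1674, 1665, 1650, 1575, 1554, 1550, 1485]),
  (1474, 1050, [1474, 1458, 1407, 1395, 1386, 1375, 1350, 1302, 1295, 1250, 1221, 1215, 1206, 1155, 1147, 1134,
  1125, 1110, 1085, 1050]), (1023, 729, [1023, 1005, 999, 990, 945, 938, 930, 925, 891, 875, 837, 825, 814, 810,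
  777, 775, 770, 750, 737, 729]), (693, 465, [693, 682, 675, 670, 666, 651, 630, 625, 603, 594, 567, 558, 555, 550,
  525, 518, 495, 486, 469, 465]), (462, 275, [462, 450, 434, 407, 405, 402, 385, 378, 375, 370, 350, 341, 335, 333,
  330, 315, 310, 297, 279, 275]), (270, 150, [270, 259, 250, 243, 231, 225, 222, 217, 210, 201, 198, 189, 186, 185,
  175, 165, 162, 155, 154, 150]), (135, 55, [135, 134, 126, 125, 111, 110, 105, 99, 93, 90, 81, 77, 75, 74, 70, 67,
  66, 63, 62, 55]), (54, 7, [54, 50, 45, 42, 37, 35, 33, 31, 30, 27, 25, 22, 21, 18, 15, 14, 11, 10, 9, 7]), (6, 1,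
  [6, 5, 3, 2, 1])]

private noncomputable def TL (M Q S : ℕ → ℕ → ℕ) (N : ℕ) : List (ℕ → ℕ) := [
  fun r => M (Q N (S r 8793750)) (M (Q N (S r 8741250)) (M (Q N (S r 8718750)) (M (Q N (S r 8700615)) (M (Q N (S r
  8636166)) (M (Q N (S r 8589735)) (M (Q N (S r 8567625)) (M (Q N (S r 8547525)) (M (Q N (S r 8516475)) (M (Q N (S r
  8474625)) (M (Q N (S r 8453390)) (M (Q N (S r 8433558)) (M (Q N (S r 8419950)) (M (Q N (S r 8411850)) (M (Q N (S r
  8366625)) (M (Q N (S r 8361630)) (M (Q N (S r 8353125)) (M (Q N (S r 8291250)) (M (Q N (S r 8241750)) (M (Q N (S r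
  8093750)) 1))))))))))))))))))), fun r => M (Q N (S r 8069145)) (M (Q N (S r 8059095)) (M (Q N (S r 8056125)) (M (Q
  N (S r 7996450)) (M (Q N (S r 7948710)) (M (Q N (S r 7914375)) (M (Q N (S r 7909650)) (M (Q N (S r 7885625)) (M (Q
  N (S r 7867125)) (M (Q N (S r 7846875)) (M (Q N (S r 7808850)) (M (Q N (S r 7796250)) (M (Q N (S r 7788750)) (M (Q
  N (S r 7746875)) (M (Q N (S r 7742250)) (M (Q N (S r 7631250)) (M (Q N (S r 7608051)) (M (Q N (S r 7593750)) (M (Q
  N (S r 7570665)) (M (Q N (S r 7521822)) 1))))))))))))))))))), fun r => M (Q N (S r 7462125)) (M (Q N (S r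
  7459375)) (M (Q N (S r 7457670)) (M (Q N (S r 7417575)) (M (Q N (S r 7362630)) (M (Q N (S r 7328125)) (M (Q N (S r
  7326450)) (M (Q N (S r 7323750)) (M (Q N (S r 7284375)) (M (Q N (S r 7218750)) (M (Q N (S r 7196805)) (M (Q N (S r
  7168750)) (M (Q N (S r 7153839)) (M (Q N (S r 7065954)) (M (Q N (S r 7027965)) (M (Q N (S r 7016625)) (M (Q N (S r
  7009875)) (M (Q N (S r 6968025)) (M (Q N (S r 6964650)) (M (Q N (S r 6923070)) 1))))))))))))))))))), fun r => M (Q
  N (S r 6916410)) (M (Q N (S r 6909375)) (M (Q N (S r 6905250)) (M (Q N (S r 6868125)) (M (Q N (S r 6834375)) (M (Q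
  N (S r 6817250)) (M (Q N (S r 6783750)) (M (Q N (S r 6781250)) (M (Q N (S r 6743250)) (M (Q N (S r 6626367)) (M (Q
  N (S r 6623925)) (M (Q N (S r 6591375)) (M (Q N (S r 6542550)) (M (Q N (S r 6507375)) (M (Q N (S r 6503490)) (M (Q
  N (S r 6496875)) (M (Q N (S r 6490625)) (M (Q N (S r 6451875)) (M (Q N (S r 6448750)) (M (Q N (S r 6410250))
  1))))))))))))))))))), fun r => M (Q N (S r 6393750)) (M (Q N (S r 6378750)) (M (Q N (S r 6359375)) (M (Q N (S r
  6281250)) (M (Q N (S r 6268185)) (M (Q N (S r 6243750)) (M (Q N (S r 6230763)) (M (Q N (S r 6224769)) (M (Q N (S r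
  6214725)) (M (Q N (S r 6168690)) (M (Q N (S r 6135525)) (M (Q N (S r 6131862)) (M (Q N (S r 6105375)) (M (Q N (S r
  6103125)) (M (Q N (S r 6023970)) (M (Q N (S r 6021750)) (M (Q N (S r 6014250)) (M (Q N (S r 5917373)) (M (Q N (S r
  5906250)) (M (Q N (S r 5888295)) 1))))))))))))))))))), fun r => M (Q N (S r 5853141)) (M (Q N (S r 5803875)) (M (Q
  N (S r 5800410)) (M (Q N (S r 5769225)) (M (Q N (S r 5763675)) (M (Q N (S r 5754375)) (M (Q N (S r 5726490)) (M (Q
  N (S r 5711750)) (M (Q N (S r 5698350)) (M (Q N (S r 5677650)) (M (Q N (S r 5664330)) (M (Q N (S r 5653125)) (M (Q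
  N (S r 5649750)) (M (Q N (S r 5619375)) (M (Q N (S r 5577750)) (M (Q N (S r 5568750)) (M (Q N (S r 5551821)) (M (Q
  N (S r 5452125)) (M (Q N (S r 5421573)) (M (Q N (S r 5419575)) 1))))))))))))))))))), fun r => M (Q N (S r
  5379430)) (M (Q N (S r 5372730)) (M (Q N (S r 5370750)) (M (Q N (S r 5341875)) (M (Q N (S r 5328125)) (M (Q N (S r
  5315625)) (M (Q N (S r 5276250)) (M (Q N (S r 5244750)) (M (Q N (S r 5231250)) (M (Q N (S r 5220369)) (M (Q N (S r
  5203125)) (M (Q N (S r 5153841)) (M (Q N (S r 5140575)) (M (Q N (S r 5128515)) (M (Q N (S r 5109885)) (M (Q N (S r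
  5072034)) (M (Q N (S r 5047110)) (M (Q N (S r 5019975)) (M (Q N (S r 5018125)) (M (Q N (S r 5016978))
  1))))))))))))))))))), fun r => M (Q N (S r 5011875)) (M (Q N (S r 4974750)) (M (Q N (S r 4945050)) (M (Q N (S r
  4856250)) (M (Q N (S r 4841487)) (M (Q N (S r 4833675)) (M (Q N (S r 4797870)) (M (Q N (S r 4772075)) (M (Q N (S r
  4769226)) (M (Q N (S r 4748625)) (M (Q N (S r 4745790)) (M (Q N (S r 4731375)) (M (Q N (S r 4720275)) (M (Q N (S r
  4708125)) (M (Q N (S r 4685310)) (M (Q N (S r 4677750)) (M (Q N (S r 4673250)) (M (Q N (S r 4648125)) (M (Q N (S r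
  4645350)) (M (Q N (S r 4640625)) 1))))))))))))))))))), fun r => M (Q N (S r 4606250)) (M (Q N (S r 4578750)) (M (Q
  N (S r 4556250)) (M (Q N (S r 4542399)) (M (Q N (S r 4477275)) (M (Q N (S r 4475625)) (M (Q N (S r 4450545)) (M (Q
  N (S r 4417578)) (M (Q N (S r 4415950)) (M (Q N (S r 4396875)) (M (Q N (S r 4394250)) (M (Q N (S r 4370625)) (M (Q
  N (S r 4359375)) (M (Q N (S r 4338250)) (M (Q N (S r 4331250)) (M (Q N (S r 4318083)) (M (Q N (S r 4301250)) (M (Q
  N (S r 4226695)) (M (Q N (S r 4216779)) (M (Q N (S r 4209975)) 1))))))))))))))))))), fun r => M (Q N (S r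
  4205925)) (M (Q N (S r 4180815)) (M (Q N (S r 4178790)) (M (Q N (S r 4153842)) (M (Q N (S r 4149846)) (M (Q N (S r
  4145625)) (M (Q N (S r 4143150)) (M (Q N (S r 4120875)) (M (Q N (S r 4090350)) (M (Q N (S r 4070250)) (M (Q N (S r
  4068750)) (M (Q N (S r 4046875)) (M (Q N (S r 4045950)) (M (Q N (S r 3998225)) (M (Q N (S r 3974355)) (M (Q N (S r
  3954825)) (M (Q N (S r 3925530)) (M (Q N (S r 3904425)) (M (Q N (S r 3902094)) (M (Q N (S r 3898125))
  1))))))))))))))))))), fun r => M (Q N (S r 3894375)) (M (Q N (S r 3871125)) (M (Q N (S r 3869250)) (M (Q N (S r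
  3846150)) (M (Q N (S r 3842450)) (M (Q N (S r 3836250)) (M (Q N (S r 3827250)) (M (Q N (S r 3815625)) (M (Q N (S r
  3796875)) (M (Q N (S r 3768750)) (M (Q N (S r 3760911)) (M (Q N (S r 3746250)) (M (Q N (S r 3728835)) (M (Q N (S r
  3701214)) (M (Q N (S r 3681315)) (M (Q N (S r 3663225)) (M (Q N (S r 3661875)) (M (Q N (S r 3634750)) (M (Q N (S r
  3614382)) (M (Q N (S r 3613050)) 1))))))))))))))))))), fun r => M (Q N (S r 3609375)) (M (Q N (S r 3584375)) (M (Q
  N (S r 3561250)) (M (Q N (S r 3543750)) (M (Q N (S r 3532977)) (M (Q N (S r 3482325)) (M (Q N (S r 3480246)) (M (Q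
  N (S r 3468750)) (M (Q N (S r 3461535)) (M (Q N (S r 3458205)) (M (Q N (S r 3452625)) (M (Q N (S r 3435894)) (M (Q
  N (S r 3427050)) (M (Q N (S r 3419010)) (M (Q N (S r 3408625)) (M (Q N (S r 3406590)) (M (Q N (S r 3391875)) (M (Q
  N (S r 3390625)) (M (Q N (S r 3389850)) (M (Q N (S r 3371625)) 1))))))))))))))))))), fun r => M (Q N (S r
  3346650)) (M (Q N (S r 3341250)) (M (Q N (S r 3271275)) (M (Q N (S r 3251745)) (M (Q N (S r 3227658)) (M (Q N (S r
  3224375)) (M (Q N (S r 3223638)) (M (Q N (S r 3222450)) (M (Q N (S r 3205125)) (M (Q N (S r 3196875)) (M (Q N (S r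
  3189375)) (M (Q N (S r 3165750)) (M (Q N (S r 3154250)) (M (Q N (S r 3146850)) (M (Q N (S r 3140625)) (M (Q N (S r
  3138750)) (M (Q N (S r 3121875)) (M (Q N (S r 3098750)) (M (Q N (S r 3093750)) (M (Q N (S r 3084345))
  1))))))))))))))))))), fun r => M (Q N (S r 3065931)) (M (Q N (S r 3028266)) (M (Q N (S r 3011985)) (M (Q N (S r
  3010875)) (M (Q N (S r 3007125)) (M (Q N (S r 2984850)) (M (Q N (S r 2983750)) (M (Q N (S r 2967030)) (M (Q N (S r
  2953125)) (M (Q N (S r 2931250)) (M (Q N (S r 2913750)) (M (Q N (S r 2906250)) (M (Q N (S r 2900205)) (M (Q N (S r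
  2878722)) (M (Q N (S r 2863245)) (M (Q N (S r 2855875)) (M (Q N (S r 2849175)) (M (Q N (S r 2838825)) (M (Q N (S r
  2832165)) (M (Q N (S r 2824875)) 1))))))))))))))))))), fun r => M (Q N (S r 2811186)) (M (Q N (S r 2806650)) (M (Q
  N (S r 2803950)) (M (Q N (S r 2788875)) (M (Q N (S r 2787210)) (M (Q N (S r 2784375)) (M (Q N (S r 2763750)) (M (Q
  N (S r 2747250)) (M (Q N (S r 2733750)) (M (Q N (S r 2689715)) (M (Q N (S r 2686365)) (M (Q N (S r 2685375)) (M (Q
  N (S r 2649570)) (M (Q N (S r 2638125)) (M (Q N (S r 2636550)) (M (Q N (S r 2622375)) (M (Q N (S r 2615625)) (M (Q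
  N (S r 2602950)) (M (Q N (S r 2598750)) (M (Q N (S r 2596250)) 1))))))))))))))))))), fun r => M (Q N (S r
  2580750)) (M (Q N (S r 2543750)) (M (Q N (S r 2536017)) (M (Q N (S r 2531250)) (M (Q N (S r 2523555)) (M (Q N (S r
  2508489)) (M (Q N (S r 2507274)) (M (Q N (S r 2487375)) (M (Q N (S r 2485890)) (M (Q N (S r 2472525)) (M (Q N (S r
  2454210)) (M (Q N (S r 2442150)) (M (Q N (S r 2441250)) (M (Q N (S r 2428125)) (M (Q N (S r 2406250)) (M (Q N (S r
  2398935)) (M (Q N (S r 2384613)) (M (Q N (S r 2372895)) (M (Q N (S r 2355318)) (M (Q N (S r 2342655))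
  1))))))))))))))))))), fun r => M (Q N (S r 2338875)) (M (Q N (S r 2336625)) (M (Q N (S r 2322675)) (M (Q N (S r
  2321550)) (M (Q N (S r 2307690)) (M (Q N (S r 2305470)) (M (Q N (S r 2303125)) (M (Q N (S r 2301750)) (M (Q N (S r
  2289375)) (M (Q N (S r 2278125)) (M (Q N (S r 2261250)) (M (Q N (S r 2247750)) (M (Q N (S r 2208789)) (M (Q N (S r
  2207975)) (M (Q N (S r 2197125)) (M (Q N (S r 2180850)) (M (Q N (S r 2169125)) (M (Q N (S r 2167830)) (M (Q N (S r
  2165625)) (M (Q N (S r 2150625)) 1))))))))))))))))))), fun r => M (Q N (S r 2136750)) (M (Q N (S r 2131250)) (M (Q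
  N (S r 2126250)) (M (Q N (S r 2093750)) (M (Q N (S r 2089395)) (M (Q N (S r 2081250)) (M (Q N (S r 2076921)) (M (Q
  N (S r 2074923)) (M (Q N (S r 2071575)) (M (Q N (S r 2056230)) (M (Q N (S r 2051406)) (M (Q N (S r 2045175)) (M (Q
  N (S r 2043954)) (M (Q N (S r 2035125)) (M (Q N (S r 2034375)) (M (Q N (S r 2022975)) (M (Q N (S r 2007990)) (M (Q
  N (S r 2007250)) (M (Q N (S r 2004750)) (M (Q N (S r 1968750)) 1))))))))))))))))))), fun r => M (Q N (S r
  1962765)) (M (Q N (S r 1951047)) (M (Q N (S r 1934625)) (M (Q N (S r 1933470)) (M (Q N (S r 1923075)) (M (Q N (S r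
  1921225)) (M (Q N (S r 1918125)) (M (Q N (S r 1913625)) (M (Q N (S r 1908830)) (M (Q N (S r 1899450)) (M (Q N (S r
  1892550)) (M (Q N (S r 1888110)) (M (Q N (S r 1884375)) (M (Q N (S r 1883250)) (M (Q N (S r 1873125)) (M (Q N (S r
  1859250)) (M (Q N (S r 1856250)) (M (Q N (S r 1850607)) (M (Q N (S r 1817375)) (M (Q N (S r 1807191))
  1))))))))))))))))))), fun r => M (Q N (S r 1806525)) (M (Q N (S r 1790910)) (M (Q N (S r 1790250)) (M (Q N (S r
  1780625)) (M (Q N (S r 1780218)) (M (Q N (S r 1771875)) (M (Q N (S r 1758750)) (M (Q N (S r 1748250)) (M (Q N (S r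
  1743750)) (M (Q N (S r 1740123)) (M (Q N (S r 1734375)) (M (Q N (S r 1717947)) (M (Q N (S r 1713525)) (M (Q N (S r
  1709505)) (M (Q N (S r 1703295)) (M (Q N (S r 1694925)) (M (Q N (S r 1690678)) (M (Q N (S r 1683990)) (M (Q N (S r
  1682370)) (M (Q N (S r 1673325)) 1))))))))))))))))))), fun r => M (Q N (S r 1672326)) (M (Q N (S r 1670625)) (M (Q
  N (S r 1658250)) (M (Q N (S r 1648350)) (M (Q N (S r 1618750)) (M (Q N (S r 1613829)) (M (Q N (S r 1611819)) (M (Q
  N (S r 1611225)) (M (Q N (S r 1599290)) (M (Q N (S r 1589742)) (M (Q N (S r 1582875)) (M (Q N (S r 1581930)) (M (Q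
  N (S r 1577125)) (M (Q N (S r 1573425)) (M (Q N (S r 1569375)) (M (Q N (S r 1561770)) (M (Q N (S r 1559250)) (M (Q
  N (S r 1557750)) (M (Q N (S r 1549375)) (M (Q N (S r 1548450)) 1))))))))))))))))))), fun r => M (Q N (S r
  1546875)) (M (Q N (S r 1526250)) (M (Q N (S r 1518750)) (M (Q N (S r 1514133)) (M (Q N (S r 1492425)) (M (Q N (S r
  1491875)) (M (Q N (S r 1491534)) (M (Q N (S r 1483515)) (M (Q N (S r 1472526)) (M (Q N (S r 1465625)) (M (Q N (S r
  1465290)) (M (Q N (S r 1464750)) (M (Q N (S r 1456875)) (M (Q N (S r 1453125)) (M (Q N (S r 1443750)) (M (Q N (S r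
  1439361)) (M (Q N (S r 1433750)) (M (Q N (S r 1405593)) (M (Q N (S r 1403325)) (M (Q N (S r 1401975))
  1))))))))))))))))))), fun r => M (Q N (S r 1393605)) (M (Q N (S r 1392930)) (M (Q N (S r 1384614)) (M (Q N (S r
  1383282)) (M (Q N (S r 1381875)) (M (Q N (S r 1381050)) (M (Q N (S r 1373625)) (M (Q N (S r 1366875)) (M (Q N (S r
  1363450)) (M (Q N (S r 1356750)) (M (Q N (S r 1356250)) (M (Q N (S r 1348650)) (M (Q N (S r 1324785)) (M (Q N (S r
  1318275)) (M (Q N (S r 1308510)) (M (Q N (S r 1301475)) (M (Q N (S r 1300698)) (M (Q N (S r 1299375)) (M (Q N (S r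
  1298125)) (M (Q N (S r 1290375)) 1))))))))))))))))))), fun r => M (Q N (S r 1289750)) (M (Q N (S r 1282050)) (M (Q
  N (S r 1278750)) (M (Q N (S r 1275750)) (M (Q N (S r 1271875)) (M (Q N (S r 1265625)) (M (Q N (S r 1256250)) (M (Q
  N (S r 1253637)) (M (Q N (S r 1248750)) (M (Q N (S r 1242945)) (M (Q N (S r 1233738)) (M (Q N (S r 1227105)) (M (Q
  N (S r 1221075)) (M (Q N (S r 1220625)) (M (Q N (S r 1204794)) (M (Q N (S r 1204350)) (M (Q N (S r 1203125)) (M (Q
  N (S r 1202850)) (M (Q N (S r 1181250)) (M (Q N (S r 1177659)) 1))))))))))))))))))), fun r => M (Q N (S r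
  1160775)) (M (Q N (S r 1160082)) (M (Q N (S r 1156250)) (M (Q N (S r 1153845)) (M (Q N (S r 1152735)) (M (Q N (S r
  1150875)) (M (Q N (S r 1145298)) (M (Q N (S r 1142350)) (M (Q N (S r 1139670)) (M (Q N (S r 1135530)) (M (Q N (S r
  1132866)) (M (Q N (S r 1130625)) (M (Q N (S r 1129950)) (M (Q N (S r 1123875)) (M (Q N (S r 1115550)) (M (Q N (S r
  1113750)) (M (Q N (S r 1090425)) (M (Q N (S r 1083915)) (M (Q N (S r 1075886)) (M (Q N (S r 1074546))
  1))))))))))))))))))), fun r => M (Q N (S r 1074150)) (M (Q N (S r 1068375)) (M (Q N (S r 1065625)) (M (Q N (S r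
  1063125)) (M (Q N (S r 1055250)) (M (Q N (S r 1048950)) (M (Q N (S r 1046875)) (M (Q N (S r 1046250)) (M (Q N (S r
  1040625)) (M (Q N (S r 1031250)) (M (Q N (S r 1028115)) (M (Q N (S r 1025703)) (M (Q N (S r 1021977)) (M (Q N (S r
  1009422)) (M (Q N (S r 1003995)) (M (Q N (S r 1003625)) (M (Q N (S r 1002375)) (M (Q N (S r 994950)) (M (Q N (S r
  989010)) (M (Q N (S r 984375)) 1))))))))))))))))))), fun r => M (Q N (S r 971250)) (M (Q N (S r 968750)) (M (Q N
  (S r 966735)) (M (Q N (S r 959574)) (M (Q N (S r 954415)) (M (Q N (S r 949725)) (M (Q N (S r 949158)) (M (Q N (S r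
  946275)) (M (Q N (S r 944055)) (M (Q N (S r 941625)) (M (Q N (S r 937062)) (M (Q N (S r 935550)) (M (Q N (S r
  934650)) (M (Q N (S r 929625)) (M (Q N (S r 929070)) (M (Q N (S r 928125)) (M (Q N (S r 921250)) (M (Q N (S r
  915750)) (M (Q N (S r 911250)) (M (Q N (S r 895455)) 1))))))))))))))))))), fun r => M (Q N (S r 895125)) (M (Q N
  (S r 890109)) (M (Q N (S r 883190)) (M (Q N (S r 879375)) (M (Q N (S r 878850)) (M (Q N (S r 874125)) (M (Q N (S r
  871875)) (M (Q N (S r 867650)) (M (Q N (S r 866250)) (M (Q N (S r 860250)) (M (Q N (S r 845339)) (M (Q N (S r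
  843750)) (M (Q N (S r 841995)) (M (Q N (S r 841185)) (M (Q N (S r 836163)) (M (Q N (S r 835758)) (M (Q N (S r
  829125)) (M (Q N (S r 828630)) (M (Q N (S r 824175)) (M (Q N (S r 818070)) 1))))))))))))))))))), fun r => M (Q N
  (S r 814050)) (M (Q N (S r 813750)) (M (Q N (S r 809375)) (M (Q N (S r 809190)) (M (Q N (S r 799645)) (M (Q N (S r
  794871)) (M (Q N (S r 790965)) (M (Q N (S r 785106)) (M (Q N (S r 780885)) (M (Q N (S r 779625)) (M (Q N (S r
  778875)) (M (Q N (S r 774225)) (M (Q N (S r 773850)) (M (Q N (S r 769230)) (M (Q N (S r 768490)) (M (Q N (S r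
  767250)) (M (Q N (S r 765450)) (M (Q N (S r 763125)) (M (Q N (S r 759375)) (M (Q N (S r 753750))
  1))))))))))))))))))), fun r => M (Q N (S r 749250)) (M (Q N (S r 745767)) (M (Q N (S r 736263)) (M (Q N (S r
  732645)) (M (Q N (S r 732375)) (M (Q N (S r 726950)) (M (Q N (S r 722610)) (M (Q N (S r 721875)) (M (Q N (S r
  716875)) (M (Q N (S r 712250)) (M (Q N (S r 708750)) (M (Q N (S r 696465)) (M (Q N (S r 693750)) (M (Q N (S r
  692307)) (M (Q N (S r 691641)) (M (Q N (S r 690525)) (M (Q N (S r 685410)) (M (Q N (S r 683802)) (M (Q N (S r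
  681725)) (M (Q N (S r 681318)) 1))))))))))))))))))), fun r => M (Q N (S r 678375)) (M (Q N (S r 678125)) (M (Q N
  (S r 677970)) (M (Q N (S r 674325)) (M (Q N (S r 669330)) (M (Q N (S r 668250)) (M (Q N (S r 656250)) (M (Q N (S r
  654255)) (M (Q N (S r 650349)) (M (Q N (S r 644875)) (M (Q N (S r 644490)) (M (Q N (S r 641025)) (M (Q N (S r
  639375)) (M (Q N (S r 637875)) (M (Q N (S r 633150)) (M (Q N (S r 630850)) (M (Q N (S r 629370)) (M (Q N (S r
  628125)) (M (Q N (S r 627750)) (M (Q N (S r 624375)) 1))))))))))))))))))), fun r => M (Q N (S r 619750)) (M (Q N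
  (S r 618750)) (M (Q N (S r 616869)) (M (Q N (S r 602397)) (M (Q N (S r 602175)) (M (Q N (S r 601425)) (M (Q N (S r
  596970)) (M (Q N (S r 596750)) (M (Q N (S r 593406)) (M (Q N (S r 590625)) (M (Q N (S r 586250)) (M (Q N (S r
  582750)) (M (Q N (S r 581250)) (M (Q N (S r 580041)) (M (Q N (S r 578125)) (M (Q N (S r 572649)) (M (Q N (S r
  571175)) (M (Q N (S r 569835)) (M (Q N (S r 567765)) (M (Q N (S r 566433)) 1))))))))))))))))))), fun r => M (Q N
  (S r 564975)) (M (Q N (S r 561330)) (M (Q N (S r 560790)) (M (Q N (S r 557775)) (M (Q N (S r 557442)) (M (Q N (S r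
  556875)) (M (Q N (S r 552750)) (M (Q N (S r 549450)) (M (Q N (S r 546750)) (M (Q N (S r 537943)) (M (Q N (S r
  537273)) (M (Q N (S r 537075)) (M (Q N (S r 529914)) (M (Q N (S r 527625)) (M (Q N (S r 527310)) (M (Q N (S r
  524475)) (M (Q N (S r 523125)) (M (Q N (S r 520590)) (M (Q N (S r 519750)) (M (Q N (S r 519250))
  1))))))))))))))))))), fun r => M (Q N (S r 516150)) (M (Q N (S r 515625)) (M (Q N (S r 508750)) (M (Q N (S r
  506250)) (M (Q N (S r 504711)) (M (Q N (S r 497475)) (M (Q N (S r 497178)) (M (Q N (S r 494505)) (M (Q N (S r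
  490842)) (M (Q N (S r 488430)) (M (Q N (S r 488250)) (M (Q N (S r 485625)) (M (Q N (S r 484375)) (M (Q N (S r
  481250)) (M (Q N (S r 479787)) (M (Q N (S r 474579)) (M (Q N (S r 468531)) (M (Q N (S r 467775)) (M (Q N (S r
  467325)) (M (Q N (S r 464535)) 1))))))))))))))))))), fun r => M (Q N (S r 464310)) (M (Q N (S r 461538)) (M (Q N
  (S r 461094)) (M (Q N (S r 460625)) (M (Q N (S r 460350)) (M (Q N (S r 457875)) (M (Q N (S r 455625)) (M (Q N (S r
  452250)) (M (Q N (S r 449550)) (M (Q N (S r 441595)) (M (Q N (S r 439425)) (M (Q N (S r 436170)) (M (Q N (S r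
  433825)) (M (Q N (S r 433566)) (M (Q N (S r 433125)) (M (Q N (S r 430125)) (M (Q N (S r 427350)) (M (Q N (S r
  426250)) (M (Q N (S r 425250)) (M (Q N (S r 421875)) 1))))))))))))))))))), fun r => M (Q N (S r 418750)) (M (Q N
  (S r 417879)) (M (Q N (S r 416250)) (M (Q N (S r 414315)) (M (Q N (S r 411246)) (M (Q N (S r 409035)) (M (Q N (S r
  407025)) (M (Q N (S r 406875)) (M (Q N (S r 404595)) (M (Q N (S r 401598)) (M (Q N (S r 401450)) (M (Q N (S r
  400950)) (M (Q N (S r 393750)) (M (Q N (S r 392553)) (M (Q N (S r 386925)) (M (Q N (S r 386694)) (M (Q N (S r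
  384615)) (M (Q N (S r 384245)) (M (Q N (S r 383625)) (M (Q N (S r 382725)) 1))))))))))))))))))), fun r => M (Q N
  (S r 381766)) (M (Q N (S r 379890)) (M (Q N (S r 378510)) (M (Q N (S r 377622)) (M (Q N (S r 376875)) (M (Q N (S r
  376650)) (M (Q N (S r 374625)) (M (Q N (S r 371850)) (M (Q N (S r 371250)) (M (Q N (S r 363475)) (M (Q N (S r
  361305)) (M (Q N (S r 358182)) (M (Q N (S r 358050)) (M (Q N (S r 356125)) (M (Q N (S r 354375)) (M (Q N (S r
  351750)) (M (Q N (S r 349650)) (M (Q N (S r 348750)) (M (Q N (S r 346875)) (M (Q N (S r 343750))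
  1))))))))))))))))))), fun r => M (Q N (S r 342705)) (M (Q N (S r 341901)) (M (Q N (S r 340659)) (M (Q N (S r
  338985)) (M (Q N (S r 336798)) (M (Q N (S r 336474)) (M (Q N (S r 334665)) (M (Q N (S r 334125)) (M (Q N (S r
  331650)) (M (Q N (S r 329670)) (M (Q N (S r 328125)) (M (Q N (S r 323750)) (M (Q N (S r 322245)) (M (Q N (S r
  319858)) (M (Q N (S r 316575)) (M (Q N (S r 316386)) (M (Q N (S r 315425)) (M (Q N (S r 314685)) (M (Q N (S r
  313875)) (M (Q N (S r 312354)) 1))))))))))))))))))), fun r => M (Q N (S r 311850)) (M (Q N (S r 311550)) (M (Q N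
  (S r 309875)) (M (Q N (S r 309690)) (M (Q N (S r 309375)) (M (Q N (S r 305250)) (M (Q N (S r 303750)) (M (Q N (S r
  298485)) (M (Q N (S r 298375)) (M (Q N (S r 296703)) (M (Q N (S r 293125)) (M (Q N (S r 293058)) (M (Q N (S r
  292950)) (M (Q N (S r 291375)) (M (Q N (S r 290625)) (M (Q N (S r 288750)) (M (Q N (S r 286750)) (M (Q N (S r
  281250)) (M (Q N (S r 280665)) (M (Q N (S r 280395)) 1))))))))))))))))))), fun r => M (Q N (S r 278721)) (M (Q N
  (S r 278586)) (M (Q N (S r 276375)) (M (Q N (S r 276210)) (M (Q N (S r 274725)) (M (Q N (S r 273375)) (M (Q N (S r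
  272690)) (M (Q N (S r 271350)) (M (Q N (S r 271250)) (M (Q N (S r 269730)) (M (Q N (S r 264957)) (M (Q N (S r
  263655)) (M (Q N (S r 261702)) (M (Q N (S r 260295)) (M (Q N (S r 259875)) (M (Q N (S r 259625)) (M (Q N (S r
  258075)) (M (Q N (S r 257950)) (M (Q N (S r 256410)) (M (Q N (S r 255750)) 1))))))))))))))))))), fun r => M (Q N
  (S r 255150)) (M (Q N (S r 254375)) (M (Q N (S r 253125)) (M (Q N (S r 251250)) (M (Q N (S r 249750)) (M (Q N (S r
  248589)) (M (Q N (S r 245421)) (M (Q N (S r 244215)) (M (Q N (S r 244125)) (M (Q N (S r 240870)) (M (Q N (S r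
  240625)) (M (Q N (S r 240570)) (M (Q N (S r 236250)) (M (Q N (S r 232155)) (M (Q N (S r 231250)) (M (Q N (S r
  230769)) (M (Q N (S r 230547)) (M (Q N (S r 230175)) (M (Q N (S r 228470)) (M (Q N (S r 227934))
  1))))))))))))))))))), fun r => M (Q N (S r 227106)) (M (Q N (S r 226125)) (M (Q N (S r 225990)) (M (Q N (S r
  224775)) (M (Q N (S r 223110)) (M (Q N (S r 222750)) (M (Q N (S r 218750)) (M (Q N (S r 218085)) (M (Q N (S r
  216783)) (M (Q N (S r 214830)) (M (Q N (S r 213675)) (M (Q N (S r 213125)) (M (Q N (S r 212625)) (M (Q N (S r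
  211050)) (M (Q N (S r 209790)) (M (Q N (S r 209375)) (M (Q N (S r 209250)) (M (Q N (S r 208125)) (M (Q N (S r
  206250)) (M (Q N (S r 205623)) 1))))))))))))))))))), fun r => M (Q N (S r 200799)) (M (Q N (S r 200725)) (M (Q N
  (S r 200475)) (M (Q N (S r 198990)) (M (Q N (S r 197802)) (M (Q N (S r 196875)) (M (Q N (S r 194250)) (M (Q N (S r
  193750)) (M (Q N (S r 193347)) (M (Q N (S r 190883)) (M (Q N (S r 189945)) (M (Q N (S r 189255)) (M (Q N (S r
  188811)) (M (Q N (S r 188325)) (M (Q N (S r 187110)) (M (Q N (S r 186930)) (M (Q N (S r 185925)) (M (Q N (S r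
  185814)) (M (Q N (S r 185625)) (M (Q N (S r 184250)) 1))))))))))))))))))), fun r => M (Q N (S r 183150)) (M (Q N
  (S r 182250)) (M (Q N (S r 179091)) (M (Q N (S r 179025)) (M (Q N (S r 176638)) (M (Q N (S r 175875)) (M (Q N (S r
  175770)) (M (Q N (S r 174825)) (M (Q N (S r 174375)) (M (Q N (S r 173530)) (M (Q N (S r 173250)) (M (Q N (S r
  172050)) (M (Q N (S r 171875)) (M (Q N (S r 168750)) (M (Q N (S r 168399)) (M (Q N (S r 168237)) (M (Q N (S r
  165825)) (M (Q N (S r 165726)) (M (Q N (S r 164835)) (M (Q N (S r 163614)) 1))))))))))))))))))), fun r => M (Q N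
  (S r 162810)) (M (Q N (S r 162750)) (M (Q N (S r 161875)) (M (Q N (S r 161838)) (M (Q N (S r 159929)) (M (Q N (S r
  158193)) (M (Q N (S r 156177)) (M (Q N (S r 155925)) (M (Q N (S r 155775)) (M (Q N (S r 154845)) (M (Q N (S r
  154770)) (M (Q N (S r 153846)) (M (Q N (S r 153698)) (M (Q N (S r 153450)) (M (Q N (S r 153090)) (M (Q N (S r
  152625)) (M (Q N (S r 151875)) (M (Q N (S r 150750)) (M (Q N (S r 149850)) (M (Q N (S r 146529))
  1))))))))))))))))))), fun r => M (Q N (S r 146475)) (M (Q N (S r 145390)) (M (Q N (S r 144522)) (M (Q N (S r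
  144375)) (M (Q N (S r 143375)) (M (Q N (S r 142450)) (M (Q N (S r 141750)) (M (Q N (S r 140625)) (M (Q N (S r
  139293)) (M (Q N (S r 138750)) (M (Q N (S r 138105)) (M (Q N (S r 137082)) (M (Q N (S r 136345)) (M (Q N (S r
  135675)) (M (Q N (S r 135625)) (M (Q N (S r 135594)) (M (Q N (S r 134865)) (M (Q N (S r 133866)) (M (Q N (S r
  133650)) (M (Q N (S r 131250)) 1))))))))))))))))))), fun r => M (Q N (S r 130851)) (M (Q N (S r 128975)) (M (Q N
  (S r 128898)) (M (Q N (S r 128205)) (M (Q N (S r 127875)) (M (Q N (S r 127575)) (M (Q N (S r 126630)) (M (Q N (S r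
  126170)) (M (Q N (S r 125874)) (M (Q N (S r 125625)) (M (Q N (S r 125550)) (M (Q N (S r 124875)) (M (Q N (S r
  123950)) (M (Q N (S r 123750)) (M (Q N (S r 120435)) (M (Q N (S r 120285)) (M (Q N (S r 119394)) (M (Q N (S r
  119350)) (M (Q N (S r 118125)) (M (Q N (S r 117250)) 1))))))))))))))))))), fun r => M (Q N (S r 116550)) (M (Q N
  (S r 116250)) (M (Q N (S r 115625)) (M (Q N (S r 114235)) (M (Q N (S r 113967)) (M (Q N (S r 113553)) (M (Q N (S r
  112995)) (M (Q N (S r 112266)) (M (Q N (S r 112158)) (M (Q N (S r 111555)) (M (Q N (S r 111375)) (M (Q N (S r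
  110550)) (M (Q N (S r 109890)) (M (Q N (S r 109375)) (M (Q N (S r 109350)) (M (Q N (S r 107415)) (M (Q N (S r
  105525)) (M (Q N (S r 105462)) (M (Q N (S r 104895)) (M (Q N (S r 104625)) 1))))))))))))))))))), fun r => M (Q N
  (S r 104118)) (M (Q N (S r 103950)) (M (Q N (S r 103850)) (M (Q N (S r 103230)) (M (Q N (S r 103125)) (M (Q N (S r
  101750)) (M (Q N (S r 101250)) (M (Q N (S r 99495)) (M (Q N (S r 98901)) (M (Q N (S r 97686)) (M (Q N (S r 97650))
  (M (Q N (S r 97125)) (M (Q N (S r 96875)) (M (Q N (S r 96250)) (M (Q N (S r 93750)) (M (Q N (S r 93555)) (M (Q N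
  (S r 93465)) (M (Q N (S r 92907)) (M (Q N (S r 92862)) (M (Q N (S r 92125)) 1))))))))))))))))))), fun r => M (Q N
  (S r 92070)) (M (Q N (S r 91575)) (M (Q N (S r 91125)) (M (Q N (S r 90450)) (M (Q N (S r 89910)) (M (Q N (S r
  88319)) (M (Q N (S r 87885)) (M (Q N (S r 87234)) (M (Q N (S r 86765)) (M (Q N (S r 86625)) (M (Q N (S r 86025))
  (M (Q N (S r 85470)) (M (Q N (S r 85250)) (M (Q N (S r 85050)) (M (Q N (S r 84375)) (M (Q N (S r 83750)) (M (Q N
  (S r 83250)) (M (Q N (S r 82863)) (M (Q N (S r 81807)) (M (Q N (S r 81405)) 1))))))))))))))))))), fun r => M (Q N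
  (S r 81375)) (M (Q N (S r 80919)) (M (Q N (S r 80290)) (M (Q N (S r 80190)) (M (Q N (S r 78750)) (M (Q N (S r
  77385)) (M (Q N (S r 76923)) (M (Q N (S r 76849)) (M (Q N (S r 76725)) (M (Q N (S r 76545)) (M (Q N (S r 75978))
  (M (Q N (S r 75702)) (M (Q N (S r 75375)) (M (Q N (S r 75330)) (M (Q N (S r 74925)) (M (Q N (S r 74370)) (M (Q N
  (S r 74250)) (M (Q N (S r 72695)) (M (Q N (S r 72261)) (M (Q N (S r 71610)) 1))))))))))))))))))), fun r => M (Q N
  (S r 71225)) (M (Q N (S r 70875)) (M (Q N (S r 70350)) (M (Q N (S r 69930)) (M (Q N (S r 69750)) (M (Q N (S r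
  69375)) (M (Q N (S r 68750)) (M (Q N (S r 68541)) (M (Q N (S r 67797)) (M (Q N (S r 66933)) (M (Q N (S r 66825))
  (M (Q N (S r 66330)) (M (Q N (S r 65934)) (M (Q N (S r 65625)) (M (Q N (S r 64750)) (M (Q N (S r 64449)) (M (Q N
  (S r 63315)) (M (Q N (S r 63085)) (M (Q N (S r 62937)) (M (Q N (S r 62775)) 1))))))))))))))))))), fun r => M (Q N
  (S r 62370)) (M (Q N (S r 62310)) (M (Q N (S r 61975)) (M (Q N (S r 61938)) (M (Q N (S r 61875)) (M (Q N (S r
  61050)) (M (Q N (S r 60750)) (M (Q N (S r 59697)) (M (Q N (S r 59675)) (M (Q N (S r 58625)) (M (Q N (S r 58590))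
  (M (Q N (S r 58275)) (M (Q N (S r 58125)) (M (Q N (S r 57750)) (M (Q N (S r 57350)) (M (Q N (S r 56250)) (M (Q N
  (S r 56133)) (M (Q N (S r 56079)) (M (Q N (S r 55275)) (M (Q N (S r 55242)) 1))))))))))))))))))), fun r => M (Q N
  (S r 54945)) (M (Q N (S r 54675)) (M (Q N (S r 54538)) (M (Q N (S r 54270)) (M (Q N (S r 54250)) (M (Q N (S r
  53946)) (M (Q N (S r 52731)) (M (Q N (S r 52059)) (M (Q N (S r 51975)) (M (Q N (S r 51925)) (M (Q N (S r 51615))
  (M (Q N (S r 51590)) (M (Q N (S r 51282)) (M (Q N (S r 51150)) (M (Q N (S r 51030)) (M (Q N (S r 50875)) (M (Q N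
  (S r 50625)) (M (Q N (S r 50250)) (M (Q N (S r 49950)) (M (Q N (S r 48843)) 1))))))))))))))))))), fun r => M (Q N
  (S r 48825)) (M (Q N (S r 48174)) (M (Q N (S r 48125)) (M (Q N (S r 48114)) (M (Q N (S r 47250)) (M (Q N (S r
  46875)) (M (Q N (S r 46431)) (M (Q N (S r 46250)) (M (Q N (S r 46035)) (M (Q N (S r 45694)) (M (Q N (S r 45225))
  (M (Q N (S r 45198)) (M (Q N (S r 44955)) (M (Q N (S r 44622)) (M (Q N (S r 44550)) (M (Q N (S r 43750)) (M (Q N
  (S r 43617)) (M (Q N (S r 42966)) (M (Q N (S r 42735)) (M (Q N (S r 42625)) 1))))))))))))))))))), fun r => M (Q N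
  (S r 42525)) (M (Q N (S r 42210)) (M (Q N (S r 41958)) (M (Q N (S r 41875)) (M (Q N (S r 41850)) (M (Q N (S r
  41625)) (M (Q N (S r 41250)) (M (Q N (S r 40145)) (M (Q N (S r 40095)) (M (Q N (S r 39798)) (M (Q N (S r 39375))
  (M (Q N (S r 38850)) (M (Q N (S r 38750)) (M (Q N (S r 37989)) (M (Q N (S r 37851)) (M (Q N (S r 37665)) (M (Q N
  (S r 37422)) (M (Q N (S r 37386)) (M (Q N (S r 37185)) (M (Q N (S r 37125)) 1))))))))))))))))))), fun r => M (Q N
  (S r 36850)) (M (Q N (S r 36630)) (M (Q N (S r 36450)) (M (Q N (S r 35805)) (M (Q N (S r 35175)) (M (Q N (S r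
  35154)) (M (Q N (S r 34965)) (M (Q N (S r 34875)) (M (Q N (S r 34706)) (M (Q N (S r 34650)) (M (Q N (S r 34410))
  (M (Q N (S r 34375)) (M (Q N (S r 33750)) (M (Q N (S r 33165)) (M (Q N (S r 32967)) (M (Q N (S r 32562)) (M (Q N
  (S r 32550)) (M (Q N (S r 32375)) (M (Q N (S r 31250)) (M (Q N (S r 31185)) 1))))))))))))))))))), fun r => M (Q N
  (S r 31155)) (M (Q N (S r 30969)) (M (Q N (S r 30954)) (M (Q N (S r 30690)) (M (Q N (S r 30618)) (M (Q N (S r
  30525)) (M (Q N (S r 30375)) (M (Q N (S r 30150)) (M (Q N (S r 29970)) (M (Q N (S r 29295)) (M (Q N (S r 29078))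
  (M (Q N (S r 28875)) (M (Q N (S r 28675)) (M (Q N (S r 28490)) (M (Q N (S r 28350)) (M (Q N (S r 28125)) (M (Q N
  (S r 27750)) (M (Q N (S r 27621)) (M (Q N (S r 27269)) (M (Q N (S r 27135)) 1))))))))))))))))))), fun r => M (Q N
  (S r 27125)) (M (Q N (S r 26973)) (M (Q N (S r 26730)) (M (Q N (S r 26250)) (M (Q N (S r 25795)) (M (Q N (S r
  25641)) (M (Q N (S r 25575)) (M (Q N (S r 25515)) (M (Q N (S r 25326)) (M (Q N (S r 25234)) (M (Q N (S r 25125))
  (M (Q N (S r 25110)) (M (Q N (S r 24975)) (M (Q N (S r 24790)) (M (Q N (S r 24750)) (M (Q N (S r 24087)) (M (Q N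
  (S r 24057)) (M (Q N (S r 23870)) (M (Q N (S r 23625)) (M (Q N (S r 23450)) 1))))))))))))))))))), fun r => M (Q N
  (S r 23310)) (M (Q N (S r 23250)) (M (Q N (S r 23125)) (M (Q N (S r 22847)) (M (Q N (S r 22599)) (M (Q N (S r
  22311)) (M (Q N (S r 22275)) (M (Q N (S r 22110)) (M (Q N (S r 21978)) (M (Q N (S r 21875)) (M (Q N (S r 21870))
  (M (Q N (S r 21483)) (M (Q N (S r 21105)) (M (Q N (S r 20979)) (M (Q N (S r 20925)) (M (Q N (S r 20790)) (M (Q N
  (S r 20770)) (M (Q N (S r 20646)) (M (Q N (S r 20625)) (M (Q N (S r 20350)) 1))))))))))))))))))), fun r => M (Q N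
  (S r 20250)) (M (Q N (S r 19899)) (M (Q N (S r 19530)) (M (Q N (S r 19425)) (M (Q N (S r 19375)) (M (Q N (S r
  19250)) (M (Q N (S r 18750)) (M (Q N (S r 18711)) (M (Q N (S r 18693)) (M (Q N (S r 18425)) (M (Q N (S r 18414))
  (M (Q N (S r 18315)) (M (Q N (S r 18225)) (M (Q N (S r 18090)) (M (Q N (S r 17982)) (M (Q N (S r 17577)) (M (Q N
  (S r 17353)) (M (Q N (S r 17325)) (M (Q N (S r 17205)) (M (Q N (S r 17094)) 1))))))))))))))))))), fun r => M (Q N
  (S r 17050)) (M (Q N (S r 17010)) (M (Q N (S r 16875)) (M (Q N (S r 16750)) (M (Q N (S r 16650)) (M (Q N (S r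
  16281)) (M (Q N (S r 16275)) (M (Q N (S r 16058)) (M (Q N (S r 16038)) (M (Q N (S r 15750)) (M (Q N (S r 15625))
  (M (Q N (S r 15477)) (M (Q N (S r 15345)) (M (Q N (S r 15309)) (M (Q N (S r 15075)) (M (Q N (S r 15066)) (M (Q N
  (S r 14985)) (M (Q N (S r 14874)) (M (Q N (S r 14850)) (M (Q N (S r 14539)) 1))))))))))))))))))), fun r => M (Q N
  (S r 14322)) (M (Q N (S r 14245)) (M (Q N (S r 14175)) (M (Q N (S r 14070)) (M (Q N (S r 13986)) (M (Q N (S r
  13950)) (M (Q N (S r 13875)) (M (Q N (S r 13750)) (M (Q N (S r 13365)) (M (Q N (S r 13266)) (M (Q N (S r 13125))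
  (M (Q N (S r 12950)) (M (Q N (S r 12663)) (M (Q N (S r 12617)) (M (Q N (S r 12555)) (M (Q N (S r 12474)) (M (Q N
  (S r 12462)) (M (Q N (S r 12395)) (M (Q N (S r 12375)) (M (Q N (S r 12210)) 1))))))))))))))))))), fun r => M (Q N
  (S r 12150)) (M (Q N (S r 11935)) (M (Q N (S r 11725)) (M (Q N (S r 11718)) (M (Q N (S r 11655)) (M (Q N (S r
  11625)) (M (Q N (S r 11550)) (M (Q N (S r 11470)) (M (Q N (S r 11250)) (M (Q N (S r 11055)) (M (Q N (S r 10989))
  (M (Q N (S r 10935)) (M (Q N (S r 10854)) (M (Q N (S r 10850)) (M (Q N (S r 10395)) (M (Q N (S r 10385)) (M (Q N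
  (S r 10323)) (M (Q N (S r 10318)) (M (Q N (S r 10230)) (M (Q N (S r 10206)) 1))))))))))))))))))), fun r => M (Q N
  (S r 10175)) (M (Q N (S r 10125)) (M (Q N (S r 10050)) (M (Q N (S r 9990)) (M (Q N (S r 9765)) (M (Q N (S r 9625))
  (M (Q N (S r 9450)) (M (Q N (S r 9375)) (M (Q N (S r 9250)) (M (Q N (S r 9207)) (M (Q N (S r 9045)) (M (Q N (S r
  8991)) (M (Q N (S r 8910)) (M (Q N (S r 8750)) (M (Q N (S r 8547)) (M (Q N (S r 8525)) (M (Q N (S r 8505)) (M (Q N
  (S r 8442)) (M (Q N (S r 8375)) (M (Q N (S r 8370)) 1))))))))))))))))))), fun r => M (Q N (S r 8325)) (M (Q N (S r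
  8250)) (M (Q N (S r 8029)) (M (Q N (S r 8019)) (M (Q N (S r 7875)) (M (Q N (S r 7770)) (M (Q N (S r 7750)) (M (Q N
  (S r 7533)) (M (Q N (S r 7437)) (M (Q N (S r 7425)) (M (Q N (S r 7370)) (M (Q N (S r 7326)) (M (Q N (S r 7290)) (M
  (Q N (S r 7161)) (M (Q N (S r 7035)) (M (Q N (S r 6993)) (M (Q N (S r 6975)) (M (Q N (S r 6930)) (M (Q N (S r
  6882)) (M (Q N (S r 6875)) 1))))))))))))))))))), fun r => M (Q N (S r 6750)) (M (Q N (S r 6633)) (M (Q N (S r
  6510)) (M (Q N (S r 6475)) (M (Q N (S r 6250)) (M (Q N (S r 6237)) (M (Q N (S r 6231)) (M (Q N (S r 6138)) (M (Q N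
  (S r 6105)) (M (Q N (S r 6075)) (M (Q N (S r 6030)) (M (Q N (S r 5994)) (M (Q N (S r 5859)) (M (Q N (S r 5775)) (M
  (Q N (S r 5735)) (M (Q N (S r 5698)) (M (Q N (S r 5670)) (M (Q N (S r 5625)) (M (Q N (S r 5550)) (M (Q N (S r
  5427)) 1))))))))))))))))))), fun r => M (Q N (S r 5425)) (M (Q N (S r 5346)) (M (Q N (S r 5250)) (M (Q N (S r
  5159)) (M (Q N (S r 5115)) (M (Q N (S r 5103)) (M (Q N (S r 5025)) (M (Q N (S r 5022)) (M (Q N (S r 4995)) (M (Q N
  (S r 4958)) (M (Q N (S r 4950)) (M (Q N (S r 4774)) (M (Q N (S r 4725)) (M (Q N (S r 4690)) (M (Q N (S r 4662)) (M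
  (Q N (S r 4650)) (M (Q N (S r 4625)) (M (Q N (S r 4455)) (M (Q N (S r 4422)) (M (Q N (S r 4375))
  1))))))))))))))))))), fun r => M (Q N (S r 4374)) (M (Q N (S r 4221)) (M (Q N (S r 4185)) (M (Q N (S r 4158)) (M
  (Q N (S r 4154)) (M (Q N (S r 4125)) (M (Q N (S r 4070)) (M (Q N (S r 4050)) (M (Q N (S r 3906)) (M (Q N (S r
  3885)) (M (Q N (S r 3875)) (M (Q N (S r 3850)) (M (Q N (S r 3750)) (M (Q N (S r 3685)) (M (Q N (S r 3663)) (M (Q N
  (S r 3645)) (M (Q N (S r 3618)) (M (Q N (S r 3465)) (M (Q N (S r 3441)) (M (Q N (S r 3410)) 1))))))))))))))))))),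
  fun r => M (Q N (S r 3402)) (M (Q N (S r 3375)) (M (Q N (S r 3350)) (M (Q N (S r 3330)) (M (Q N (S r 3255)) (M (Q
  N (S r 3150)) (M (Q N (S r 3125)) (M (Q N (S r 3069)) (M (Q N (S r 3015)) (M (Q N (S r 2997)) (M (Q N (S r 2970))
  (M (Q N (S r 2849)) (M (Q N (S r 2835)) (M (Q N (S r 2814)) (M (Q N (S r 2790)) (M (Q N (S r 2775)) (M (Q N (S r
  2750)) (M (Q N (S r 2673)) (M (Q N (S r 2625)) (M (Q N (S r 2590)) 1))))))))))))))))))), fun r => M (Q N (S r
  2511)) (M (Q N (S r 2479)) (M (Q N (S r 2475)) (M (Q N (S r 2442)) (M (Q N (S r 2430)) (M (Q N (S r 2387)) (M (Q N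
  (S r 2345)) (M (Q N (S r 2331)) (M (Q N (S r 2325)) (M (Q N (S r 2310)) (M (Q N (S r 2294)) (M (Q N (S r 2250)) (M
  (Q N (S r 2211)) (M (Q N (S r 2187)) (M (Q N (S r 2170)) (M (Q N (S r 2079)) (M (Q N (S r 2077)) (M (Q N (S r
  2046)) (M (Q N (S r 2035)) (M (Q N (S r 2025)) 1))))))))))))))))))), fun r => M (Q N (S r 2010)) (M (Q N (S r
  1998)) (M (Q N (S r 1953)) (M (Q N (S r 1925)) (M (Q N (S r 1890)) (M (Q N (S r 1875)) (M (Q N (S r 1850)) (M (Q N
  (S r 1809)) (M (Q N (S r 1782)) (M (Q N (S r 1750)) (M (Q N (S r 1705)) (M (Q N (S r 1701)) (M (Q N (S r 1675)) (M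
  (Q N (S r 1674)) (M (Q N (S r 1665)) (M (Q N (S r 1650)) (M (Q N (S r 1575)) (M (Q N (S r 1554)) (M (Q N (S r
  1550)) (M (Q N (S r 1485)) 1))))))))))))))))))), fun r => M (Q N (S r 1474)) (M (Q N (S r 1458)) (M (Q N (S r
  1407)) (M (Q N (S r 1395)) (M (Q N (S r 1386)) (M (Q N (S r 1375)) (M (Q N (S r 1350)) (M (Q N (S r 1302)) (M (Q N
  (S r 1295)) (M (Q N (S r 1250)) (M (Q N (S r 1221)) (M (Q N (S r 1215)) (M (Q N (S r 1206)) (M (Q N (S r 1155)) (M
  (Q N (S r 1147)) (M (Q N (S r 1134)) (M (Q N (S r 1125)) (M (Q N (S r 1110)) (M (Q N (S r 1085)) (M (Q N (S r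
  1050)) 1))))))))))))))))))), fun r => M (Q N (S r 1023)) (M (Q N (S r 1005)) (M (Q N (S r 999)) (M (Q N (S r 990))
  (M (Q N (S r 945)) (M (Q N (S r 938)) (M (Q N (S r 930)) (M (Q N (S r 925)) (M (Q N (S r 891)) (M (Q N (S r 875))
  (M (Q N (S r 837)) (M (Q N (S r 825)) (M (Q N (S r 814)) (M (Q N (S r 810)) (M (Q N (S r 777)) (M (Q N (S r 775))
  (M (Q N (S r 770)) (M (Q N (S r 750)) (M (Q N (S r 737)) (M (Q N (S r 729)) 1))))))))))))))))))), fun r => M (Q N
  (S r 693)) (M (Q N (S r 682)) (M (Q N (S r 675)) (M (Q N (S r 670)) (M (Q N (S r 666)) (M (Q N (S r 651)) (M (Q N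
  (S r 630)) (M (Q N (S r 625)) (M (Q N (S r 603)) (M (Q N (S r 594)) (M (Q N (S r 567)) (M (Q N (S r 558)) (M (Q N
  (S r 555)) (M (Q N (S r 550)) (M (Q N (S r 525)) (M (Q N (S r 518)) (M (Q N (S r 495)) (M (Q N (S r 486)) (M (Q N
  (S r 469)) (M (Q N (S r 465)) 1))))))))))))))))))), fun r => M (Q N (S r 462)) (M (Q N (S r 450)) (M (Q N (S r
  434)) (M (Q N (S r 407)) (M (Q N (S r 405)) (M (Q N (S r 402)) (M (Q N (S r 385)) (M (Q N (S r 378)) (M (Q N (S r
  375)) (M (Q N (S r 370)) (M (Q N (S r 350)) (M (Q N (S r 341)) (M (Q N (S r 335)) (M (Q N (S r 333)) (M (Q N (S r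
  330)) (M (Q N (S r 315)) (M (Q N (S r 310)) (M (Q N (S r 297)) (M (Q N (S r 279)) (M (Q N (S r 275))
  1))))))))))))))))))), fun r => M (Q N (S r 270)) (M (Q N (S r 259)) (M (Q N (S r 250)) (M (Q N (S r 243)) (M (Q N
  (S r 231)) (M (Q N (S r 225)) (M (Q N (S r 222)) (M (Q N (S r 217)) (M (Q N (S r 210)) (M (Q N (S r 201)) (M (Q N
  (S r 198)) (M (Q N (S r 189)) (M (Q N (S r 186)) (M (Q N (S r 185)) (M (Q N (S r 175)) (M (Q N (S r 165)) (M (Q N
  (S r 162)) (M (Q N (S r 155)) (M (Q N (S r 154)) (M (Q N (S r 150)) 1))))))))))))))))))), fun r => M (Q N (S r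
  135)) (M (Q N (S r 134)) (M (Q N (S r 126)) (M (Q N (S r 125)) (M (Q N (S r 111)) (M (Q N (S r 110)) (M (Q N (S r
  105)) (M (Q N (S r 99)) (M (Q N (S r 93)) (M (Q N (S r 90)) (M (Q N (S r 81)) (M (Q N (S r 77)) (M (Q N (S r 75))
  (M (Q N (S r 74)) (M (Q N (S r 70)) (M (Q N (S r 67)) (M (Q N (S r 66)) (M (Q N (S r 63)) (M (Q N (S r 62)) (M (Q
  N (S r 55)) 1))))))))))))))))))), fun r => M (Q N (S r 54)) (M (Q N (S r 50)) (M (Q N (S r 45)) (M (Q N (S r 42))
  (M (Q N (S r 37)) (M (Q N (S r 35)) (M (Q N (S r 33)) (M (Q N (S r 31)) (M (Q N (S r 30)) (M (Q N (S r 27)) (M (Q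
  N (S r 25)) (M (Q N (S r 22)) (M (Q N (S r 21)) (M (Q N (S r 18)) (M (Q N (S r 15)) (M (Q N (S r 14)) (M (Q N (S r
  11)) (M (Q N (S r 10)) (M (Q N (S r 9)) (M (Q N (S r 7)) 1))))))))))))))))))), fun r => M (Q N (S r 6)) (M (Q N (S
  r 5)) (M (Q N (S r 3)) (M (Q N (S r 2)) (M (Q N (S r 1)) 1))))]

private noncomputable def pr (M Q S : ℕ → ℕ → ℕ) (N r : ℕ) (l : List ℕ) : ℕ :=
  List.rec 1 (fun a _ ih => M (Q N (S r a)) ih) l

private theorem TL_eq (M Q S : ℕ → ℕ → ℕ) (N : ℕ) : TL M Q S N = BL.map fun t r => pr M Q S N r t.2.2 :=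
  Eq.refl (TL M Q S N)

private noncomputable def sb (f rest : ℕ) (B : List (ℕ × ℕ × List ℕ)) : List (ℕ → ℕ) → Bool :=
  List.rec (fun _ => true) (fun t _ ih P => List.rec false (fun p P' _ =>
    bif Nat.ble rest t.2.1 then ih P' else bif Nat.blt (Nat.mul 2 t.1) rest then true else
      Nat.rec (bif scan f rest t.2.2 then ih P' else false) (fun _ _ => ih P') (p rest)) P) B

/-- all pairs for one double degree -/
noncomputable def row (f : ℕ) : Bool :=
  bif Nat.ble nn (Nat.add (Nat.mul 2 f) 2) then true else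
  force (Nat.sub (Nat.pred nn) (Nat.mul 2 f)) fun rest => sb f rest BL (TL Nat.mul Nat.mod Nat.sub 51765179004000000)

/-- three equal degrees -/
noncomputable def three (f : ℕ) : Bool :=
  bif Nat.ble nn (Nat.add (Nat.mul 3 f) 1) then true else
  force (Nat.sub (Nat.pred nn) (Nat.mul 3 f)) fun e =>
    bif Nat.beq (Nat.mod NN' e) 0 then Nat.beq (Nat.mod e 4) 0 else true

theorem three_all : allL three DL = true := by decide +kernel

private noncomputable def _root_.Cfsg.Agent.LsF.f0e078b_3 : {f // @Cfsg.Agent.H652.Four.LyArith.allL = f} := ⟨_, by first | (delta Cfsg.Agent.H652.Four.LyArith.allL; rewrite [Cfsg.Agent.LsF.cond_eq]; exact rfl) | exact rfl⟩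
private noncomputable def _root_.Cfsg.Agent.LsF.f0e078b_4 : {f // @Nat.pred = f} := ⟨_, by first | (delta Nat.pred; (try delta Nat.pow.match_1); (try delta Nat.casesOn); exact rfl) | exact rfl⟩
private noncomputable def _root_.Cfsg.Agent.LsF.f0e078b_5 : {f // @Cfsg.Agent.H652.Four.LyArith.PS = f} := ⟨_, by first | (delta Cfsg.Agent.H652.Four.LyArith.PS; rewrite [Cfsg.Agent.LsF.nmul_pat]; exact rfl) | exact rfl⟩
private noncomputable def _root_.Cfsg.Agent.LsF.f0e078b_6 : {f // @Cfsg.Agent.H652.Four.LyArith.root = f} := ⟨_, by first | (delta Cfsg.Agent.H652.Four.LyArith.root; rewrite [Cfsg.Agent.LsF.cond_eq]; exact rfl) | exact rfl⟩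
private noncomputable def _root_.Cfsg.Agent.LsF.f0e078b_7 : {f // @Cfsg.Agent.H652.Four.LyArith.euc = f} := ⟨_, by first | (delta Cfsg.Agent.H652.Four.LyArith.euc; rewrite [Cfsg.Agent.LsF.cond_eq]; exact rfl) | exact rfl⟩
private noncomputable def _root_.Cfsg.Agent.LsF.f0e078b_8 : {f // @Cfsg.Agent.Lib.PackMat.allBelow = f} := ⟨_, by first | (delta Cfsg.Agent.Lib.PackMat.allBelow; rewrite [Cfsg.Agent.LsF.cond_eq]; exact rfl) | exact rfl⟩
private noncomputable def _root_.Cfsg.Agent.LsF.f0e078b_9a : {f // @nonsq0 = f} := ⟨_, by first | (delta nonsq0; rewrite [Cfsg.Agent.LsF.f0e078b_6.2, Cfsg.Agent.LsF.f0e078b_4.2, Cfsg.Agent.LsF.cond_eq]; exact rfl) | exact rfl⟩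
private noncomputable def _root_.Cfsg.Agent.LsF.f0e078b_9 : {f // @Cfsg.Agent.H652.Four.LyArith.nonsq = f} := ⟨_, by first | (delta Cfsg.Agent.H652.Four.LyArith.nonsq; rewrite [Cfsg.Agent.LsF.f0e078b_9a.2, Cfsg.Agent.LsF.cond_eq]; exact rfl) | exact rfl⟩
private noncomputable def _root_.Cfsg.Agent.LsF.f0e078b_10 : {f // @Cfsg.Agent.H652.Four.LyArith.cand = f} := ⟨_, by first | (delta Cfsg.Agent.H652.Four.LyArith.cand; rewrite [Cfsg.Agent.LsF.f0e078b_9.2, Cfsg.Agent.LsF.cond_eq]; exact rfl) | exact rfl⟩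
private noncomputable def _root_.Cfsg.Agent.LsF.f0e078b_11 : {f // @Cfsg.Agent.H652.Four.LyArith.inner = f} := ⟨_, by first | (delta Cfsg.Agent.H652.Four.LyArith.inner; rewrite [Cfsg.Agent.LsF.f0e078b_8.2, Cfsg.Agent.LsF.f0e078b_10.2, Cfsg.Agent.LsF.cond_eq]; exact rfl) | exact rfl⟩
private noncomputable def _root_.Cfsg.Agent.LsF.f0e078b_12 : {f // @Cfsg.Agent.H652.Four.LyArith.outer = f} := ⟨_, by first | (delta Cfsg.Agent.H652.Four.LyArith.outer; rewrite [Cfsg.Agent.LsF.f0e078b_8.2, Cfsg.Agent.LsF.f0e078b_11.2, Cfsg.Agent.LsF.cond_eq]; exact rfl) | exact rfl⟩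
private noncomputable def _root_.Cfsg.Agent.LsF.f0e078b_13 : {f // @Cfsg.Agent.H652.Four.LyArith.orb = f} := ⟨_, by first | (delta Cfsg.Agent.H652.Four.LyArith.orb; rewrite [Cfsg.Agent.LsF.f0e078b_6.2, Cfsg.Agent.LsF.f0e078b_7.2, Cfsg.Agent.LsF.f0e078b_5.2, Cfsg.Agent.LsF.f0e078b_12.2, Cfsg.Agent.LsF.cond_eq]; exact rfl) | exact rfl⟩
private noncomputable def _root_.Cfsg.Agent.LsF.f0e078b_14 : {f // @Cfsg.Agent.H652.Four.LyArith.tri = f} := ⟨_, by first | (delta Cfsg.Agent.H652.Four.LyArith.tri; rewrite [Cfsg.Agent.LsF.f0e078b_5.2, Cfsg.Agent.LsF.f0e078b_13.2, Cfsg.Agent.LsF.cond_eq]; exact rfl) | exact rfl⟩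
private noncomputable def _root_.Cfsg.Agent.LsF.f0e078b_15 : {f // @Cfsg.Agent.H652.Four.LyArith.scan = f} := ⟨_, by first | (delta Cfsg.Agent.H652.Four.LyArith.scan; rewrite [Cfsg.Agent.LsF.f0e078b_14.2, Cfsg.Agent.LsF.cond_eq]; exact rfl) | exact rfl⟩
private noncomputable def _root_.Cfsg.Agent.LsF.f0e078b_15a : {f // @sb = f} := ⟨_, by delta sb; rewrite [Cfsg.Agent.LsF.f0e078b_15.2, Cfsg.Agent.LsF.cond_eq]; exact rfl⟩
private noncomputable def _root_.Cfsg.Agent.LsF.f0e078b_16 : {f // @Cfsg.Agent.H652.Four.LyArith.row = f} := ⟨_, by first | (delta Cfsg.Agent.H652.Four.LyArith.row; rewrite [Cfsg.Agent.LsF.f0e078b_4.2, Cfsg.Agent.LsF.f0e078b_15a.2, Cfsg.Agent.LsF.cond_eq]; exact rfl) | exact rfl⟩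
theorem row_0 : allL row ((DL.drop 0).take 199) = true := by ((try (rewrite [Cfsg.Agent.LsF.f0e078b_3.2, Cfsg.Agent.LsF.f0e078b_16.2, Cfsg.Agent.LsF.take_eq, Cfsg.Agent.LsF.drop_eq])); decide +kernel)
theorem row_1 : allL row ((DL.drop 199).take 199) = true := by ((try (rewrite [Cfsg.Agent.LsF.f0e078b_3.2, Cfsg.Agent.LsF.f0e078b_16.2, Cfsg.Agent.LsF.take_eq, Cfsg.Agent.LsF.drop_eq])); decide +kernel)
theorem row_2 : allL row ((DL.drop 398).take 199) = true := by ((try (rewrite [Cfsg.Agent.LsF.f0e078b_3.2, Cfsg.Agent.LsF.f0e078b_16.2, Cfsg.Agent.LsF.take_eq, Cfsg.Agent.LsF.drop_eq])); decide +kernel)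
theorem row_3 : allL row ((DL.drop 597).take 199) = true := by ((try (rewrite [Cfsg.Agent.LsF.f0e078b_3.2, Cfsg.Agent.LsF.f0e078b_16.2, Cfsg.Agent.LsF.take_eq, Cfsg.Agent.LsF.drop_eq])); decide +kernel)
theorem row_4 : allL row ((DL.drop 796).take 199) = true := by ((try (rewrite [Cfsg.Agent.LsF.f0e078b_3.2, Cfsg.Agent.LsF.f0e078b_16.2, Cfsg.Agent.LsF.take_eq, Cfsg.Agent.LsF.drop_eq])); decide +kernel)
theorem row_5 : allL row ((DL.drop 995).take 199) = true := by ((try (rewrite [Cfsg.Agent.LsF.f0e078b_3.2, Cfsg.Agent.LsF.f0e078b_16.2, Cfsg.Agent.LsF.take_eq, Cfsg.Agent.LsF.drop_eq])); decide +kernel)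
theorem row_6 : allL row ((DL.drop 1194).take 199) = true := by ((try (rewrite [Cfsg.Agent.LsF.f0e078b_3.2, Cfsg.Agent.LsF.f0e078b_16.2, Cfsg.Agent.LsF.take_eq, Cfsg.Agent.LsF.drop_eq])); decide +kernel)
theorem row_7 : allL row ((DL.drop 1393).take 199) = true := by ((try (rewrite [Cfsg.Agent.LsF.f0e078b_3.2, Cfsg.Agent.LsF.f0e078b_16.2, Cfsg.Agent.LsF.take_eq, Cfsg.Agent.LsF.drop_eq])); decide +kernel)

end Cfsg.Agent.H652.Four.LyArith
end

-- part: H652/Four/LySound
section
/-!
# Arithmetic for the rank five action of the Lyons group: soundness of the check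
-/

set_option autoImplicit false

namespace Cfsg.Agent.H652.Four.LyArith

open Cfsg.Agent.Lib.PackMat

theorem ad_eq (a b : ℕ) : ad a b = ((a : ℤ) - b).natAbs := by
  have : ad a b = a - b + (b - a) := rfl
  rw [this]
  omega

theorem ad_mul (a b : ℕ) : ((ad a b * ad a b : ℕ) : ℤ) = ((a : ℤ) - b) ^ 2 := by
  rw [ad_eq, Nat.cast_mul, Int.natCast_natAbs, ← abs_mul, ← sq, abs_sq]

theorem nadd (a b : ℕ) : Nat.add a b = a + b := by
  have h : a + b = Nat.add a b := rfl
  rw [h]
theorem nsub (a b : ℕ) : Nat.sub a b = a - b := by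
  have h : a - b = Nat.sub a b := rfl
  rw [h]
theorem nmul (a b : ℕ) : Nat.mul a b = a * b := by
  have h : a * b = Nat.mul a b := rfl
  rw [h]
theorem ndiv (a b : ℕ) : Nat.div a b = a / b := by
  have h : a / b = Nat.div a b := rfl
  rw [h]
theorem nmod (a b : ℕ) : Nat.mod a b = a % b := by
  have h : a % b = Nat.mod a b := rfl
  rw [h]

theorem force_eq' {α : Type} (e : ℕ) (k : ℕ → α) : force e k = k e := by
  cases e <;> rfl

theorem ble_iff {a b : ℕ} : Nat.ble a b = true ↔ a ≤ b := by rw [Nat.ble_eq]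

theorem beq_iff {a b : ℕ} : Nat.beq a b = true ↔ a = b := by rw [Nat.beq_eq]

theorem blt_iff {a b : ℕ} : Nat.blt a b = true ↔ a < b := by
  unfold Nat.blt
  rw [Nat.ble_eq]
  exact Iff.rfl

private theorem nonsq0_spec {x : ℕ} (h : nonsq0 x = true) : ¬ IsSquare x := by
  simp only [nonsq0, force_eq] at h
  generalize root x = s at h
  rintro ⟨y, rfl⟩
  cases hb : Nat.blt (Nat.mul s s) (y * y) with
  | true =>
    rw [hb, cond_true] at h
    have h1 : s * s < y * y := blt_iff.1 hb
    have h2 : y * y < (s + 1) * (s + 1) := blt_iff.1 h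
    have h3 := Nat.mul_self_lt_mul_self_iff.1 h1
    have h4 := Nat.mul_self_lt_mul_self_iff.1 h2
    omega
  | false =>
    rw [hb, cond_false] at h
    cases hb2 : Nat.blt (y * y) (Nat.mul s s) with
    | true =>
      rw [hb2, cond_true] at h
      have h1 : y * y < s * s := blt_iff.1 hb2
      have h2 : (s - 1) * (s - 1) < y * y := blt_iff.1 h
      have h3 := Nat.mul_self_lt_mul_self_iff.1 h1
      have h4 := Nat.mul_self_lt_mul_self_iff.1 h2
      omega
    | false =>
      rw [hb2, cond_false] at h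
      exact absurd h (by decide)

private theorem bit_sq {M m : ℕ} (hm : 0 < m) (h : allBelow (fun r => bit M m (Nat.mul r r)) m = true) (y : ℕ) :
    bit M m (y * y) = true := by
  have h1 : bit M m (y % m * (y % m)) = true := allBelow_spec h _ (Nat.mod_lt y hm)
  have h2 : Nat.mod (y * y) m = Nat.mod (y % m * (y % m)) m := Nat.mul_mod y y m
  rw [bit, h2]
  exact h1

theorem nonsq_spec {x : ℕ} (h : nonsq x = true) : ¬ IsSquare x := by
  rintro ⟨y, rfl⟩
  rw [nonsq, force_eq', bit_sq (M := qm0) (m := 4199) (by decide) (by decide +kernel), cond_true,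
    bit_sq (M := qm1) (m := 667) (by decide) (by decide +kernel), cond_true,
    bit_sq (M := qm2) (m := 1763) (by decide) (by decide +kernel), cond_true] at h
  exact nonsq0_spec h ⟨y, rfl⟩

theorem cand_spec {f f1 W T1 R1 base P0 s1 : ℕ} (h : cand f f1 W T1 R1 base P0 s1 = true)
    (he : f1 * (ad s1 T1 * ad s1 T1) ≤ R1) (hd : (R1 - f1 * (ad s1 T1 * ad s1 T1)) % f = 0)
    (ha : (ad (P0 + f1 * s1) base / f) * (ad (P0 + f1 * s1) base / f) ≤
      2 * ((R1 - f1 * (ad s1 T1 * ad s1 T1)) / f)) :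
    ¬ IsSquare ((2 * ((R1 - f1 * (ad s1 T1 * ad s1 T1)) / f) -
      (ad (P0 + f1 * s1) base / f) * (ad (P0 + f1 * s1) base / f)) * W) := by
  simp only [cand, force_eq] at h
  have h1 : Nat.ble (Nat.mul f1 (Nat.mul (ad s1 T1) (ad s1 T1))) R1 = true := ble_iff.2 he
  have h2 : Nat.beq (Nat.mod (Nat.sub R1 (Nat.mul f1 (Nat.mul (ad s1 T1) (ad s1 T1)))) f) 0 = true :=
    beq_iff.2 hd
  have h3 : Nat.ble (Nat.mul (Nat.div (ad (Nat.add P0 (Nat.mul f1 s1)) base) f)
      (Nat.div (ad (Nat.add P0 (Nat.mul f1 s1)) base) f))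
      (Nat.mul 2 (Nat.div (Nat.sub R1 (Nat.mul f1 (Nat.mul (ad s1 T1) (ad s1 T1)))) f)) = true :=
    ble_iff.2 ha
  rw [h1, cond_true, h2, cond_true, h3, cond_true] at h
  exact nonsq_spec h

/-- solutions of the trace equations -/
def Sol (nk f f1 f2 : ℕ) : Prop := ∃ t1 t2 a b : ℤ,
  (nk : ℤ) + f1 * t1 + f2 * t2 + f * a = 0 ∧
  (f1 : ℤ) * t1 ^ 2 + f2 * t2 ^ 2 + f * b = nk * (8835156 - nk) ∧
  0 ≤ 2 * b - a ^ 2 ∧ IsSquare ((2 * b - a ^ 2) * ((nn * PS * (f1 * f2) : ℕ) : ℤ))

theorem Sol.symm {nk f f1 f2 : ℕ} (h : Sol nk f f1 f2) : Sol nk f f2 f1 := by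
  obtain ⟨t1, t2, a, b, h1, h2, h3, h4⟩ := h
  refine ⟨t2, t1, a, b, by linarith, by linarith, h3, ?_⟩
  rwa [mul_comm f2 f1]

/-- congruence -/
theorem cong_q {nk f f1 f2 q : ℕ} {t1 t2 a b : ℤ} (hs : 1 + 2 * f + f1 + f2 = nn)
    (h1 : (nk : ℤ) + f1 * t1 + f2 * t2 + f * a = 0)
    (h2 : (f1 : ℤ) * t1 ^ 2 + f2 * t2 ^ 2 + f * b = nk * (8835156 - nk))
    (hq : q ∣ 81807) (hqf : q ∣ f) (hc : Nat.gcd q f2 = 1) : (q : ℤ) ∣ t2 - nk := by
  have hn : (q : ℤ) ∣ (8835156 : ℤ) := by
    have h : (81807 : ℕ) ∣ 8835156 := by decide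
    exact_mod_cast hq.trans h
  have hf : (q : ℤ) ∣ (f : ℤ) := by exact_mod_cast hqf
  have e1 : (f1 : ℤ) = 8835156 - 1 - 2 * f - f2 := by
    have : ((1 + 2 * f + f1 + f2 : ℕ) : ℤ) = 8835156 := by rw [hs]; rfl
    push_cast at this
    linarith
  have e2 : (f1 : ℤ) * t1 = -(nk + f2 * t2 + f * a) := by linarith
  have key : (f2 : ℤ) * (t2 - nk) ^ 2 = 8835156 * ((f2 * t2 ^ 2 + nk ^ 2) - f1 * nk) +
      f * (-2 * (f2 * t2 ^ 2 + nk ^ 2) + f1 * b + 2 * (nk + f2 * t2) * a + f * a ^ 2) := by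
    have h3 : ((f1 : ℤ) * t1) ^ 2 + f1 * f2 * t2 ^ 2 + f1 * (f * b) = f1 * (nk * (8835156 - nk)) := by
      rw [← h2]; ring
    rw [e2] at h3
    have h4 : (f1 : ℤ) * (f2 * t2 ^ 2 + nk ^ 2) = (8835156 - 1 - 2 * f - f2) * (f2 * t2 ^ 2 + nk ^ 2) := by
      rw [← e1]
    linear_combination -h3 + h4
  have hd : (q : ℤ) ∣ (f2 : ℤ) * (t2 - nk) ^ 2 := by
    rw [key]
    exact dvd_add (hn.mul_right _) (hf.mul_right _)
  have hcop : IsCoprime (q : ℤ) (f2 : ℤ) := by
    rw [Nat.isCoprime_iff_coprime]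
    exact hc
  have hd2 := hcop.dvd_of_dvd_mul_left hd
  have hsq : Squarefree (q : ℤ) := by
    have h : Squarefree (81807 : ℕ) := by
      have : Squarefree (3 * 11 * 37 * 67 : ℕ) := by
        rw [Nat.squarefree_mul (by decide), Nat.squarefree_mul (by decide), Nat.squarefree_mul (by decide)]
        refine ⟨⟨⟨?_, ?_⟩, ?_⟩, ?_⟩ <;> exact Nat.Prime.prime (by norm_num) |>.squarefree
      exact this
    exact Int.squarefree_natCast.2 (h.squarefree_of_dvd hq)
  exact (hsq.dvd_pow_iff_dvd two_ne_zero).1 hd2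

/-- arithmetic of progressions -/
theorem exists_prog {m lo s r : ℕ} (hm : 0 < m) (hr : r = s % m) (hlo : lo ≤ s) :
    s = (lo + (r + m - lo % m) % m) + m * ((s - lo) / m) := by
  obtain ⟨d, rfl⟩ := Nat.exists_eq_add_of_le hlo
  have h1 : (r + m - lo % m) % m = d % m := by
    have hl : lo % m < m := Nat.mod_lt _ hm
    have h2 : ((r + m - lo % m : ℕ) : ℤ) = (r : ℤ) + m - (lo % m : ℕ) := by
      rw [Nat.cast_sub (by omega), Nat.cast_add]
    have h3 : ((r + m - lo % m : ℕ) : ℤ) ≡ (d : ℤ) [ZMOD m] := by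
      rw [h2, hr]
      push_cast
      have e1 : ((lo : ℤ) + d) % m ≡ lo + d [ZMOD m] := Int.mod_modEq _ _
      have e2 : (lo : ℤ) % m ≡ lo [ZMOD m] := Int.mod_modEq _ _
      have e3 : (m : ℤ) ≡ 0 [ZMOD m] := by
        rw [Int.modEq_zero_iff_dvd]
      have := (e1.add e3).sub e2
      refine this.trans ?_
      have e4 : (lo : ℤ) + d + 0 - lo = d := by ring
      rw [e4]
    exact (Int.natCast_modEq_iff.1 h3)
  rw [h1, Nat.add_sub_cancel_left]
  have := Nat.mod_add_div d m
  omega

theorem inner_spec {f f1 W T1 m R1 r base P0 lo hi s1 : ℕ}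
    (h : inner f f1 W T1 m R1 r base P0 lo hi = true) (hm : 0 < m) (hr : r = s1 % m) (hlo : lo ≤ s1)
    (hhi : s1 ≤ hi) : cand f f1 W T1 R1 base P0 s1 = true := by
  simp only [inner, force_eq', nadd, nsub, nmul, ndiv, nmod, Nat.succ_eq_add_one] at h
  have hp := exists_prog hm hr hlo
  have hst : Nat.ble (lo + (r + m - lo % m) % m) hi = true := by
    apply ble_iff.2
    have : lo + (r + m - lo % m) % m ≤ s1 := by
      conv_rhs => rw [hp]
      exact Nat.le_add_right _ _
    omega
  rw [hst, cond_true] at h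
  have h2 := allBelow_spec h ((s1 - lo) / m) ?_
  · rw [← hp] at h2
    exact h2
  · rw [Nat.lt_succ_iff, Nat.le_div_iff_mul_le hm]
    have : lo + (r + m - lo % m) % m + m * ((s1 - lo) / m) ≤ hi := by
      rw [← hp]; exact hhi
    rw [mul_comm] at this
    omega

theorem min_bif (x y : ℕ) : (bif Nat.ble x y then x else y) = min x y := by
  cases hb : Nat.ble x y with
  | true =>
    rw [cond_true]
    exact (min_eq_left (ble_iff.1 hb)).symm
  | false =>
    rw [cond_false]
    have : ¬ x ≤ y := by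
      intro h'
      rw [ble_iff.2 h'] at hb
      exact absurd hb (by decide)
    exact (min_eq_right (by omega)).symm

theorem outer_spec {nk f f1 f2 R T1 T2 S g m u W base c0 q s2 : ℕ}
    (h : outer nk f f1 f2 R T1 T2 S g m u W base c0 q = true)
    (hr : (nk + T2) % q = s2 % q) (hs2 : s2 ≤ 2 * T2)
    (hg : (nk + f2 * s2 + c0) % f % g = 0) (he : f2 * (ad s2 T2 * ad s2 T2) ≤ R) :
    inner f f1 W T1 m (R - f2 * (ad s2 T2 * ad s2 T2))
      ((T1 + (m - u * ((nk + f2 * s2 + c0) % f / g) % m)) % m) base (nk + f2 * s2)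
      ((base - S - (nk + f2 * s2)) / f1) (min ((base + S - (nk + f2 * s2)) / f1) (2 * T1)) = true := by
  simp only [outer, force_eq', nadd, nsub, nmul, ndiv, nmod, Nat.succ_eq_add_one, min_bif] at h
  have h2 := allBelow_spec h (s2 / q) (Nat.lt_succ_iff.2 (Nat.div_le_div_right hs2))
  have e : (nk + T2) % q + q * (s2 / q) = s2 := by
    rw [hr]
    exact Nat.mod_add_div s2 q
  rw [e] at h2
  have h3 : Nat.beq ((nk + f2 * s2 + c0) % f % g) 0 = true := beq_iff.2 hg
  have h4 : Nat.ble (f2 * (ad s2 T2 * ad s2 T2)) R = true := ble_iff.2 he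
  rw [h3, cond_true, h4, cond_true] at h2
  exact h2

theorem sq_le_of {f R T : ℕ} {t : ℤ} (hf : 0 < f) (h : (f : ℤ) * t ^ 2 ≤ R) (hT : R < f * ((T + 1) * (T + 1))) :
    -(T : ℤ) ≤ t ∧ t ≤ T := by
  have h1 : (R : ℤ) < f * ((T + 1) * (T + 1)) := by exact_mod_cast hT
  have h2 : (f : ℤ) * t ^ 2 < f * ((T + 1) ^ 2) := by nlinarith
  have hf' : (0 : ℤ) < f := by exact_mod_cast hf
  have h3 : t ^ 2 < ((T : ℤ) + 1) ^ 2 := lt_of_mul_lt_mul_left h2 hf'.le
  have h4 := abs_lt_of_sq_lt_sq h3 (by positivity)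
  rw [abs_lt] at h4
  constructor <;> omega

set_option maxHeartbeats 1000000 in
theorem orb_spec {nk f f1 f2 : ℕ} (h : orb nk f f1 f2 = true) (hf : 0 < f) (hf1 : 0 < f1) (hf2 : 0 < f2)
    (hs : 1 + 2 * f + f1 + f2 = nn) (hnk : nk ≤ nn) : ¬ Sol nk f f1 f2 := by
  rintro ⟨t1, t2, a, b, h1, h2, h3, h4⟩
  simp only [orb, force_eq', nadd, nsub, nmul, ndiv, nmod, Nat.succ_eq_add_one] at h
  obtain ⟨R, hR⟩ : ∃ R, R = nk * (8835156 - nk) := ⟨_, rfl⟩
  have hRnn : nk * (nn - nk) = R := hR.symm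
  rw [hRnn] at h
  generalize root (R / f1) = T1 at h
  generalize root (R / f2) = T2 at h
  generalize root (2 * (R * f)) + 1 = S at h
  generalize hgd : Nat.gcd f1 f = g at h
  generalize hmd : f / g = m at h
  generalize euc m 40 m ((f1 / g) % m) 0 1 = u at h
  generalize Nat.gcd f 81807 / Nat.gcd (Nat.gcd f 81807) f2 = q at h
  simp only [Bool.cond_false_right, Bool.and_eq_true, blt_iff, beq_iff] at h
  obtain ⟨c1, c2, c3, c4, c5, c6, c7, h⟩ := h
  have hRz : (R : ℤ) = nk * (8835156 - nk) := by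
    have hnk' : nk ≤ 8835156 := hnk
    rw [hR]
    push_cast [hnk']
    ring
  rw [← hRz] at h2
  have hfz : (0 : ℤ) < f := by exact_mod_cast hf
  have hf1z : (0 : ℤ) < f1 := by exact_mod_cast hf1
  have hf2z : (0 : ℤ) < f2 := by exact_mod_cast hf2
  have hb : 0 ≤ b := by linarith [sq_nonneg a]
  have hfb : 0 ≤ (f : ℤ) * b := mul_nonneg hfz.le hb
  have hn1 := mul_nonneg hf1z.le (sq_nonneg t1)
  have hn2 := mul_nonneg hf2z.le (sq_nonneg t2)
  have hb1 : (f1 : ℤ) * t1 ^ 2 ≤ R := by linarith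
  have hb2 : (f2 : ℤ) * t2 ^ 2 ≤ R := by linarith
  obtain ⟨l1, u1⟩ := sq_le_of hf1 hb1 c1
  obtain ⟨l2, u2⟩ := sq_le_of hf2 hb2 c2
  obtain ⟨s1, hs1⟩ : ∃ s1 : ℕ, (s1 : ℤ) = t1 + T1 := ⟨(t1 + T1).toNat, Int.toNat_of_nonneg (by linarith)⟩
  obtain ⟨s2, hs2⟩ : ∃ s2 : ℕ, (s2 : ℤ) = t2 + T2 := ⟨(t2 + T2).toNat, Int.toNat_of_nonneg (by linarith)⟩
  have hs1' : s1 ≤ 2 * T1 := by omega
  have hs2' : s2 ≤ 2 * T2 := by omega
  have hg0 : 0 < g := by rw [← hgd]; exact Nat.gcd_pos_of_pos_left _ hf1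
  have hgf : g ∣ f := by rw [← hgd]; exact Nat.gcd_dvd_right _ _
  have hgf1 : g ∣ f1 := by rw [← hgd]; exact Nat.gcd_dvd_left _ _
  have hgm : g * m = f := by rw [← hmd]; exact Nat.mul_div_cancel' hgf
  have hm0 : 0 < m := by
    rcases Nat.eq_zero_or_pos m with h0 | h0
    · rw [h0, mul_zero] at hgm
      omega
    · exact h0
  have ht1 : t1 = s1 - T1 := by linarith
  have ht2 : t2 = s2 - T2 := by linarith
  -- the congruence modulo `q`
  have hq : (nk + T2) % q = s2 % q := by
    have hd := cong_q hs h1 (by rw [h2, hRz]) (Nat.dvd_of_mod_eq_zero c6) (Nat.dvd_of_mod_eq_zero c7) c5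
    have h5 : (((nk + T2 : ℕ) : ℤ)) ≡ (s2 : ℤ) [ZMOD q] := by
      rw [Int.modEq_iff_dvd]
      push_cast
      rw [hs2]
      have e : t2 + T2 - (nk + T2) = t2 - nk := by ring
      rw [e]
      exact hd
    exact Int.natCast_modEq_iff.1 h5
  -- the residue `C`
  obtain ⟨C, hC⟩ : ∃ C, C = (nk + f2 * s2 + (f - f2 * T2 % f)) % f := ⟨_, rfl⟩
  have hCf : (f : ℤ) ∣ C - (nk + f2 * t2) := by
    have h5 : (C : ℤ) ≡ nk + f2 * s2 + (f - (f2 * T2 : ℕ) % f) [ZMOD f] := by
      rw [hC]
      have hl : f2 * T2 % f < f := Nat.mod_lt _ hf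
      push_cast [hl.le]
      exact Int.mod_modEq _ _
    have h6 : (((f2 * T2 : ℕ) : ℤ) % f) ≡ ((f2 * T2 : ℕ) : ℤ) [ZMOD f] := Int.mod_modEq _ _
    have h7 : (f : ℤ) ≡ 0 [ZMOD f] := by rw [Int.modEq_zero_iff_dvd]
    have h8 : (nk : ℤ) + f2 * s2 + (f - (f2 * T2 : ℕ) % f) ≡ nk + f2 * s2 + (0 - (f2 * T2 : ℕ)) [ZMOD f] :=
      Int.ModEq.add_left _ (h7.sub h6)
    have h9 := (h5.trans h8).symm
    rw [Int.modEq_iff_dvd] at h9
    have e : (C : ℤ) - (nk + f2 * s2 + (0 - (f2 * T2 : ℕ))) = C - (nk + f2 * t2) := by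
      push_cast
      rw [ht2]
      ring
    rwa [e] at h9
  have hfd : (f : ℤ) ∣ f1 * t1 + C := by
    have e : (f1 : ℤ) * t1 + C = (C - (nk + f2 * t2)) - f * a := by linarith
    rw [e]
    exact dvd_sub hCf (dvd_mul_right _ _)
  have hgC : g ∣ C := by
    have hgz : (g : ℤ) ∣ f1 * t1 + C := (Int.natCast_dvd_natCast.2 hgf).trans hfd
    have hg1 : (g : ℤ) ∣ f1 * t1 := (Int.natCast_dvd_natCast.2 hgf1).mul_right _
    exact Int.natCast_dvd_natCast.1 ((dvd_add_right hg1).1 hgz)
  obtain ⟨C', hC'⟩ := hgC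
  -- the residue of `t1`
  have hmd1 : (m : ℤ) ∣ t1 + u * C' := by
    have h5 : (f : ℤ) ∣ (u * f1 - g) := by
      have h6 : ((u * f1 : ℕ) : ℤ) ≡ (g : ℤ) [ZMOD f] := Int.natCast_modEq_iff.2 c4
      have h7 := Int.modEq_iff_dvd.1 h6.symm
      push_cast at h7
      exact h7
    have h6 : (f : ℤ) ∣ g * (t1 + u * C') := by
      have e : (g : ℤ) * (t1 + u * C') = u * (f1 * t1 + C) - (u * f1 - g) * t1 := by
        rw [hC']
        push_cast
        ring
      rw [e]
      exact dvd_sub (hfd.mul_left _) (h5.mul_right _)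
    rw [← hgm] at h6
    push_cast at h6
    exact Int.dvd_of_mul_dvd_mul_left (by exact_mod_cast hg0.ne') h6
  have hg2 : (nk + f2 * s2 + (f - f2 * T2 % f)) % f % g = 0 := by
    rw [← hC, hC', Nat.mul_mod_right]
  have hx2 : ((ad s2 T2 * ad s2 T2 : ℕ) : ℤ) = t2 ^ 2 := by rw [ad_mul, ht2]
  have hx1 : ((ad s1 T1 * ad s1 T1 : ℕ) : ℤ) = t1 ^ 2 := by rw [ad_mul, ht1]
  have he2 : f2 * (ad s2 T2 * ad s2 T2) ≤ R := by
    zify
    push_cast at hx2
    rw [hx2]
    exact hb2
  have hin := outer_spec h hq hs2' hg2 he2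
  rw [← hC, hC', Nat.mul_div_cancel_left _ hg0] at hin
  -- the range
  have hwin : |(f : ℤ) * a| < S := by
    have h5 : ((f : ℤ) * a) ^ 2 < (S : ℤ) ^ 2 := by
      have h6 : ((2 * (R * f) : ℕ) : ℤ) < ((S * S : ℕ) : ℤ) := by exact_mod_cast c3
      push_cast at h6
      have h7 : (f : ℤ) * a ^ 2 ≤ 2 * R := by
        have h8 : (f : ℤ) * a ^ 2 ≤ f * (2 * b) := mul_le_mul_of_nonneg_left (by linarith) hfz.le
        linarith
      have h8 : (f : ℤ) * (f * a ^ 2) ≤ f * (2 * R) := mul_le_mul_of_nonneg_left h7 hfz.le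
      have h9 : ((f : ℤ) * a) ^ 2 = f * (f * a ^ 2) := by ring
      rw [h9]
      linarith
    exact abs_lt_of_sq_lt_sq h5 (by positivity)
  rw [abs_lt] at hwin
  have hbase : ((f1 * T1 + f2 * T2 : ℕ) : ℤ) = f1 * s1 + (nk + f2 * s2 : ℕ) + f * a := by
    push_cast
    rw [hs1, hs2]
    linear_combination -h1
  generalize f1 * T1 + f2 * T2 = base at *
  have hlo : (base - S - (nk + f2 * s2)) / f1 ≤ s1 := by
    apply Nat.div_le_of_le_mul
    zify
    have : ((base - S - (nk + f2 * s2) : ℕ) : ℤ) ≤ f1 * s1 := by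
      have h0 : (0 : ℤ) ≤ (f1 : ℤ) * s1 := by positivity
      have h5 : (base : ℤ) - S - (nk + f2 * s2 : ℕ) ≤ f1 * s1 := by
        rw [hbase]; linarith [hwin.2]
      have h6 : ((f1 * s1 : ℕ) : ℤ) = f1 * s1 := by push_cast; ring
      rw [← h6] at h5 h0 ⊢
      omega
    exact_mod_cast this
  have hhi : s1 ≤ min ((base + S - (nk + f2 * s2)) / f1) (2 * T1) := by
    refine le_min ?_ hs1'
    rw [Nat.le_div_iff_mul_le hf1]
    have h5 : (f1 : ℤ) * s1 ≤ base + S - (nk + f2 * s2 : ℕ) := by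
      rw [hbase]; linarith [hwin.1]
    have h6 : ((s1 * f1 : ℕ) : ℤ) = f1 * s1 := by push_cast; ring
    rw [← h6] at h5
    omega
  have hr1 : (T1 + (m - u * C' % m)) % m = s1 % m := by
    have hl : u * C' % m < m := Nat.mod_lt _ hm0
    have h5 : ((T1 + (m - u * C' % m) : ℕ) : ℤ) ≡ (s1 : ℤ) [ZMOD m] := by
      push_cast [hl.le]
      have h6 : (((u : ℤ) * C') % m) ≡ u * C' [ZMOD m] := Int.mod_modEq _ _
      have h7 : (m : ℤ) ≡ 0 [ZMOD m] := by rw [Int.modEq_zero_iff_dvd]
      refine (Int.ModEq.add_left _ (h7.sub h6)).trans ?_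
      rw [Int.modEq_iff_dvd]
      have e : (s1 : ℤ) - (T1 + (0 - u * C')) = t1 + u * C' := by rw [hs1]; ring
      rw [e]
      exact hmd1
    exact Int.natCast_modEq_iff.1 h5
  have hc := inner_spec hin hm0 hr1 hlo hhi
  -- the candidate
  have hrem : ((R - f2 * (ad s2 T2 * ad s2 T2) - f1 * (ad s1 T1 * ad s1 T1) : ℕ) : ℤ) = f * b := by
    have h6 : ((f2 * (ad s2 T2 * ad s2 T2) : ℕ) : ℤ) = f2 * t2 ^ 2 := by rw [Nat.cast_mul, hx2]
    have h7 : ((f1 * (ad s1 T1 * ad s1 T1) : ℕ) : ℤ) = f1 * t1 ^ 2 := by rw [Nat.cast_mul, hx1]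
    have h8 : ((R - f2 * (ad s2 T2 * ad s2 T2) - f1 * (ad s1 T1 * ad s1 T1) : ℕ) : ℤ) =
        (R : ℤ) - (f2 * (ad s2 T2 * ad s2 T2) : ℕ) - (f1 * (ad s1 T1 * ad s1 T1) : ℕ) := by
      rw [← h6, ← h7] at h2
      omega
    rw [h8, h6, h7]
    linarith
  have he1 : f1 * (ad s1 T1 * ad s1 T1) ≤ R - f2 * (ad s2 T2 * ad s2 T2) := by
    have h6 : ((f2 * (ad s2 T2 * ad s2 T2) : ℕ) : ℤ) = f2 * t2 ^ 2 := by rw [Nat.cast_mul, hx2]
    have h7 : ((f1 * (ad s1 T1 * ad s1 T1) : ℕ) : ℤ) = f1 * t1 ^ 2 := by rw [Nat.cast_mul, hx1]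
    rw [← h6, ← h7] at h2
    omega
  obtain ⟨b', hb'⟩ : ∃ b' : ℕ, (b' : ℤ) = b := ⟨b.toNat, Int.toNat_of_nonneg hb⟩
  have hrem' : R - f2 * (ad s2 T2 * ad s2 T2) - f1 * (ad s1 T1 * ad s1 T1) = f * b' := by
    zify
    rw [hrem, hb']
  have ha' : ad (nk + f2 * s2 + f1 * s1) base = f * a.natAbs := by
    rw [ad_eq]
    have e : ((nk + f2 * s2 + f1 * s1 : ℕ) : ℤ) - base = -(f * a) := by
      rw [hbase]; push_cast; ring
    rw [e, Int.natAbs_neg, Int.natAbs_mul, Int.natAbs_natCast]
  have hab : ((a.natAbs * a.natAbs : ℕ) : ℤ) = a ^ 2 := by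
    push_cast
    rw [← abs_mul, ← sq, abs_sq]
  have hle : a.natAbs * a.natAbs ≤ 2 * b' := by
    zify
    rw [hb']
    push_cast at hab
    rw [hab]
    linarith
  have hfin := cand_spec hc he1 (by rw [hrem', Nat.mul_mod_right]) (by
    rw [hrem', ha', Nat.mul_div_cancel_left _ hf, Nat.mul_div_cancel_left _ hf]
    exact hle)
  rw [hrem', ha', Nat.mul_div_cancel_left _ hf, Nat.mul_div_cancel_left _ hf] at hfin
  apply hfin
  rw [← Int.isSquare_natCast_iff]
  have e : (((2 * b' - a.natAbs * a.natAbs) * (nn * PS * (f1 * f2)) : ℕ) : ℤ) =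
      (2 * b - a ^ 2) * ((nn * PS * (f1 * f2) : ℕ) : ℤ) := by
    rw [Nat.cast_mul, Nat.cast_sub hle, hab, Nat.cast_mul, hb']
    push_cast
    ring
  rw [e]
  exact h4

end Cfsg.Agent.H652.Four.LyArith
end

-- part: H652/Four/LyFinal
section
/-!
# Arithmetic for the rank five action of the Lyons group: conclusion
-/

set_option autoImplicit false

namespace Cfsg.Agent.H652.Four.LyArith

open Cfsg.Agent.Lib.PackMat

/-! ### the list of divisors -/

theorem mem_mrg (x : ℕ) : ∀ (k : ℕ) (l m : List ℕ), l.length + m.length < k → (x ∈ l ∨ x ∈ m) → x ∈ mrg k l m := by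
  intro k
  induction k with
  | zero => intro l m h; omega
  | succ k ih =>
    intro l m h hx
    cases l with
    | nil =>
      rw [mrg]
      rcases hx with hx | hx
      · exact absurd hx (List.not_mem_nil)
      · exact hx
    | cons a l =>
      cases m with
      | nil =>
        rw [mrg]
        rcases hx with hx | hx
        · exact hx
        · exact absurd hx (List.not_mem_nil)
      | cons b m =>
        rw [mrg]
        simp only [List.length_cons] at h
        cases hb : Nat.blt b a with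
        | true =>
          rw [cond_true]
          rcases hx with hx | hx
          · rcases List.mem_cons.1 hx with rfl | hx
            · exact List.mem_cons_self
            · exact List.mem_cons_of_mem _ (ih _ _ (by simp only [List.length_cons]; omega) (Or.inl hx))
          · exact List.mem_cons_of_mem _ (ih _ _ (by simp only [List.length_cons]; omega) (Or.inr hx))
        | false =>
          rw [cond_false]
          rcases hx with hx | hx
          · exact List.mem_cons_of_mem _ (ih _ _ (by simp only [List.length_cons]; omega) (Or.inl hx))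
          · rcases List.mem_cons.1 hx with rfl | hx
            · exact List.mem_cons_self
            · exact List.mem_cons_of_mem _ (ih _ _ (by simp only [List.length_cons]; omega) (Or.inr hx))

theorem length_mrg : ∀ (k : ℕ) (l m : List ℕ), (mrg k l m).length ≤ l.length + m.length := by
  intro k
  induction k with
  | zero => intro l m; simp [mrg]
  | succ k ih =>
    intro l m
    cases l with
    | nil => simp [mrg]
    | cons a l =>
      cases m with
      | nil => simp [mrg]
      | cons b m =>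
        rw [mrg]
        cases hb : Nat.blt b a with
        | true =>
          rw [cond_true]
          have := ih l (b :: m)
          simp only [List.length_cons] at this ⊢
          omega
        | false =>
          rw [cond_false]
          have := ih (a :: l) m
          simp only [List.length_cons] at this ⊢
          omega

theorem length_mp (p : ℕ) (l : List ℕ) : ∀ k, (mp p l k).length ≤ (k + 1) * l.length := by
  intro k
  induction k with
  | zero => simp [mp]
  | succ k ih =>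
    rw [mp]
    have h := length_mrg 4000 ((mp p l k).map (p * ·)) l
    rw [List.length_map] at h
    have : (k + 1 + 1) * l.length = (k + 1) * l.length + l.length := by ring
    omega

theorem mem_mp {p n : ℕ} (hp : p.Prime) {l : List ℕ} (hl : ∀ e, e ∣ n → e ∈ l) :
    ∀ k, (k + 1) * l.length < 4000 → ∀ d, d ∣ p ^ k * n → d ∈ mp p l k := by
  intro k
  induction k with
  | zero =>
    intro _ d hd
    rw [pow_zero, one_mul] at hd
    exact hl d hd
  | succ k ih =>
    intro hlen d hd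
    rw [mp]
    have h1 : (k + 1 + 1) * l.length = (k + 1) * l.length + l.length := by ring
    have h2 := length_mp p l k
    apply mem_mrg
    · rw [List.length_map]; omega
    · by_cases hpd : p ∣ d
      · left
        obtain ⟨e, rfl⟩ := hpd
        refine List.mem_map.2 ⟨e, ih (by omega) e ?_, rfl⟩
        rw [pow_succ', mul_assoc] at hd
        exact Nat.dvd_of_mul_dvd_mul_left hp.pos hd
      · right
        refine hl d ?_
        have hc : Nat.Coprime d (p ^ (k + 1)) := Nat.Coprime.pow_right _ ((hp.coprime_iff_not_dvd.2 hpd).symm)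
        exact hc.dvd_of_dvd_mul_left hd

theorem mem_gen {d : ℕ} (h : d ∣ 2 ^ 1 * (3 ^ 7 * (5 ^ 6 * (7 ^ 1 * (11 ^ 1 * (31 ^ 1 * (37 ^ 1 * (67 ^ 1 * 1)))))))) :
    d ∈ gen := by
  have h0 : ∀ e, e ∣ 1 → e ∈ [1] := by
    intro e he
    rw [Nat.dvd_one.1 he]
    exact List.mem_cons_self
  have len (p : ℕ) (l : List ℕ) (k n : ℕ) (hl : l.length ≤ n) : (mp p l k).length ≤ (k + 1) * n :=
    (length_mp p l k).trans (Nat.mul_le_mul_left _ hl)
  have l1 := len 67 [1] 1 1 (by simp)
  have l2 := len 37 _ 1 _ l1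
  have l3 := len 31 _ 1 _ l2
  have l4 := len 11 _ 1 _ l3
  have l5 := len 7 _ 1 _ l4
  have l6 := len 5 _ 6 _ l5
  have l7 := len 3 _ 7 _ l6
  have h1 := mem_mp (p := 67) (by norm_num) h0 1 (by simp)
  have h2 := mem_mp (p := 37) (by norm_num) h1 1 (by omega)
  have h3 := mem_mp (p := 31) (by norm_num) h2 1 (by omega)
  have h4 := mem_mp (p := 11) (by norm_num) h3 1 (by omega)
  have h5 := mem_mp (p := 7) (by norm_num) h4 1 (by omega)
  have h6 := mem_mp (p := 5) (by norm_num) h5 6 (by omega)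
  have h7 := mem_mp (p := 3) (by norm_num) h6 7 (by omega)
  exact mem_mp (p := 2) (by norm_num) h7 1 (by omega) d h

theorem dvd_of_not_four {d : ℕ} (hd : d ∣ NN') (h4 : ¬ 4 ∣ d) :
    d ∣ 2 ^ 1 * (3 ^ 7 * (5 ^ 6 * (7 ^ 1 * (11 ^ 1 * (31 ^ 1 * (37 ^ 1 * (67 ^ 1 * 1))))))) := by
  have hN : NN' = 2 ^ 8 * (3 ^ 7 * (5 ^ 6 * (7 ^ 1 * (11 ^ 1 * (31 ^ 1 * (37 ^ 1 * (67 ^ 1 * 1))))))) := by norm_num
  rw [hN] at hd
  generalize (3 ^ 7 * (5 ^ 6 * (7 ^ 1 * (11 ^ 1 * (31 ^ 1 * (37 ^ 1 * (67 ^ 1 * 1))))))) = M at *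
  by_cases h2 : 2 ∣ d
  · obtain ⟨e, rfl⟩ := h2
    have h2e : ¬ 2 ∣ e := fun h => h4 (by obtain ⟨c, rfl⟩ := h; exact ⟨c, by ring⟩)
    rw [pow_one]
    apply Nat.mul_dvd_mul_left
    have hd' : e ∣ 2 ^ 7 * M := by
      have : 2 * e ∣ 2 * (2 ^ 7 * M) := by
        have e1 : 2 * (2 ^ 7 * M) = 2 ^ 8 * M := by ring
        rwa [e1]
      exact Nat.dvd_of_mul_dvd_mul_left (by norm_num) this
    exact (Nat.Coprime.pow_right _ ((Nat.prime_two.coprime_iff_not_dvd.2 h2e).symm)).dvd_of_dvd_mul_left hd'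
  · refine Dvd.dvd.mul_left ?_ _
    exact (Nat.Coprime.pow_right _ ((Nat.prime_two.coprime_iff_not_dvd.2 h2).symm)).dvd_of_dvd_mul_left hd

theorem mem_DL {d : ℕ} (hd : d ∣ NN') (h4 : ¬ 4 ∣ d) (hn : d < nn) : d ∈ DL := by
  rw [← DL_eq, List.mem_filter]
  exact ⟨mem_gen (dvd_of_not_four hd h4), blt_iff.2 hn⟩

/-! ### the scan -/

theorem allL_spec {p : ℕ → Bool} {l : List ℕ} (h : allL p l = true) : ∀ a ∈ l, p a = true := by
  induction l with
  | nil => intro a ha; exact absurd ha (List.not_mem_nil)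
  | cons b l ih =>
    have e : allL p (b :: l) = bif p b then allL p l else false := rfl
    rw [e] at h
    cases hb : p b with
    | false => rw [hb, cond_false] at h; exact absurd h (by decide)
    | true =>
      rw [hb, cond_true] at h
      intro a ha
      rcases List.mem_cons.1 ha with rfl | ha
      · exact hb
      · exact ih h a ha

theorem scan_spec {f rest : ℕ} : ∀ l : List ℕ, l.Pairwise (· > ·) → scan f rest l = true →
    ∀ a ∈ l, a < rest → rest ≤ 2 * a → rest - a ∣ NN' → ¬ 4 ∣ rest - a → tri f (rest - a) a = true := by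
  intro l
  induction l with
  | nil => intro _ _ a ha; exact absurd ha (List.not_mem_nil)
  | cons b l ih =>
    intro hp h a ha h1 h2 h3 h4
    rw [List.pairwise_cons] at hp
    have e : scan f rest (b :: l) = bif Nat.ble rest b then scan f rest l else
      bif Nat.blt (Nat.mul 2 b) rest then true else
      force (Nat.sub rest b) fun e =>
        bif Nat.beq (Nat.mod NN' e) 0 then
          bif Nat.beq (Nat.mod e 4) 0 then scan f rest l else bif tri f e b then scan f rest l else false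
        else scan f rest l := rfl
    rw [e, force_eq', nmul, nsub, nmod, nmod] at h
    cases hb1 : Nat.ble rest b with
    | true =>
      rw [hb1, cond_true] at h
      have hb1' := ble_iff.1 hb1
      rcases List.mem_cons.1 ha with rfl | ha
      · omega
      · exact ih hp.2 h a ha h1 h2 h3 h4
    | false =>
      rw [hb1, cond_false] at h
      cases hb2 : Nat.blt (2 * b) rest with
      | true =>
        have hb2' := blt_iff.1 hb2
        rcases List.mem_cons.1 ha with rfl | ha
        · omega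
        · have := hp.1 a ha
          omega
      | false =>
        rw [hb2, cond_false] at h
        have htail : scan f rest l = true ∧
            (NN' % (rest - b) = 0 → (rest - b) % 4 ≠ 0 → tri f (rest - b) b = true) := by
          cases hb3 : Nat.beq (NN' % (rest - b)) 0 with
          | false =>
            rw [hb3, cond_false] at h
            refine ⟨h, fun h0 => ?_⟩
            rw [beq_iff.2 h0] at hb3
            exact absurd hb3 (by decide)
          | true =>
            rw [hb3, cond_true] at h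
            cases hb4 : Nat.beq ((rest - b) % 4) 0 with
            | true =>
              rw [hb4, cond_true] at h
              exact ⟨h, fun _ h0 => absurd (beq_iff.1 hb4) h0⟩
            | false =>
              rw [hb4, cond_false] at h
              cases hb5 : tri f (rest - b) b with
              | false => rw [hb5, cond_false] at h; exact absurd h (by decide)
              | true =>
                rw [hb5, cond_true] at h
                exact ⟨h, fun _ _ => rfl⟩
        rcases List.mem_cons.1 ha with rfl | ha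
        · exact htail.2 (Nat.mod_eq_zero_of_dvd h3) (fun h0 => h4 (Nat.dvd_of_mod_eq_zero h0))
        · exact ih hp.2 htail.1 a ha h1 h2 h3 h4

private theorem pr_ne {N r : ℕ} : ∀ l : List ℕ, pr Nat.mul Nat.mod Nat.sub N r l ≠ 0 → ∀ a ∈ l, N % (r - a) ≠ 0
  | [], _, _, h => nomatch h
  | b :: l, h, a, ha => by
    have h1 : N % (r - b) * pr Nat.mul Nat.mod Nat.sub N r l ≠ 0 := h
    rcases List.mem_cons.1 ha with rfl | ha
    · exact left_ne_zero_of_mul h1
    · exact pr_ne l (right_ne_zero_of_mul h1) a ha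

private theorem sb_spec {f rest : ℕ} : ∀ B : List (ℕ × ℕ × List ℕ), (B.Pairwise fun s t => t.1 ≤ s.1) →
    (∀ t ∈ B, t.2.2.Pairwise (· > ·) ∧ ∀ a ∈ t.2.2, t.2.1 ≤ a ∧ a ≤ t.1) →
    sb f rest B (B.map fun t r => pr Nat.mul Nat.mod Nat.sub NN' r t.2.2) = true →
    ∀ t ∈ B, ∀ a ∈ t.2.2, a < rest → rest ≤ 2 * a → rest - a ∣ NN' → ¬ 4 ∣ rest - a → tri f (rest - a) a = true
  | [], _, _, _, _, h => nomatch h
  | s :: B, hp, hg, h, t, ht => fun a ha h1 h2 h3 h4 => by
    rw [List.pairwise_cons] at hp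
    have ih := fun h => sb_spec (f := f) (rest := rest) B hp.2 (fun t ht => hg t (List.mem_cons_of_mem _ ht)) h
    generalize hX : sb f rest B (B.map fun t r => pr Nat.mul Nat.mod Nat.sub NN' r t.2.2) = X at ih
    have e : (bif Nat.ble rest s.2.1 then X else bif Nat.blt (2 * s.1) rest then true else
      (Nat.rec (bif scan f rest s.2.2 then X else false) (fun _ _ => X)
        (pr Nat.mul Nat.mod Nat.sub NN' rest s.2.2) : Bool)) = true := hX ▸ h
    have g := (hg t ht).2 a ha
    cases hb1 : Nat.ble rest s.2.1 with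
    | true =>
      rw [hb1, cond_true] at e
      rcases List.mem_cons.1 ht with rfl | ht
      · exact absurd ((ble_iff.1 hb1).trans g.1) (Nat.not_le.2 h1)
      · exact ih e t ht a ha h1 h2 h3 h4
    | false =>
      rw [hb1, cond_false] at e
      cases hb2 : Nat.blt (2 * s.1) rest with
      | true =>
        have h5 : t.1 ≤ s.1 := (List.mem_cons.1 ht).elim (fun h => h ▸ le_rfl) (hp.1 t)
        exact absurd (h2.trans (Nat.mul_le_mul_left 2 (g.2.trans h5))) (Nat.not_le.2 (blt_iff.1 hb2))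
      | false =>
        rw [hb2, cond_false] at e
        cases hb3 : pr Nat.mul Nat.mod Nat.sub NN' rest s.2.2 with
        | zero =>
          rw [hb3] at e
          cases hb4 : scan f rest s.2.2 with
          | false => rw [hb4] at e; cases e
          | true =>
            rw [hb4] at e
            rcases List.mem_cons.1 ht with rfl | ht
            · exact scan_spec _ (hg _ List.mem_cons_self).1 hb4 a ha h1 h2 h3 h4
            · exact ih e t ht a ha h1 h2 h3 h4
        | succ n =>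
          rw [hb3] at e
          rcases List.mem_cons.1 ht with rfl | ht
          · exact absurd (Nat.mod_eq_zero_of_dvd h3) (pr_ne _ (hb3 ▸ Nat.succ_ne_zero n) a ha)
          · exact ih e t ht a ha h1 h2 h3 h4

private theorem sb_DL {f rest : ℕ} (h : sb f rest BL (TL Nat.mul Nat.mod Nat.sub 51765179004000000) = true) :
    ∀ a ∈ DL, a < rest → rest ≤ 2 * a → rest - a ∣ NN' → ¬ 4 ∣ rest - a → tri f (rest - a) a = true := fun a ha => by
  have h1 : DL = BL.flatMap fun t => t.2.2 := by decide +kernel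
  have h2 : (BL.Pairwise fun s t => t.1 ≤ s.1) ∧ ∀ t ∈ BL, t.2.2.IsChain (· > ·) ∧ ∀ a ∈ t.2.2, t.2.1 ≤ a ∧ a ≤ t.1 := by
    decide +kernel
  rw [h1] at ha
  obtain ⟨t, ht, ha⟩ := List.mem_flatMap.1 ha
  rw [TL_eq] at h
  exact sb_spec BL h2.1 (fun t ht => ⟨List.isChain_iff_pairwise.1 (h2.2 t ht).1, (h2.2 t ht).2⟩) h t ht a ha

theorem row_mem {f : ℕ} (hf : f ∈ DL) : row f = true := by
  have split (l : List ℕ) (k : ℕ) (h : f ∈ l) : f ∈ l.take k ∨ f ∈ l.drop k := by
    rw [← List.mem_append, List.take_append_drop]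
    exact h
  have step (n : ℕ) (h : f ∈ DL.drop n) : f ∈ (DL.drop n).take 199 ∨ f ∈ DL.drop (n + 199) := by
    rcases split _ 199 h with h | h
    · exact Or.inl h
    · right
      rwa [List.drop_drop] at h
  rcases step 0 hf with h | h
  · exact allL_spec row_0 f h
  rcases step _ h with h | h
  · exact allL_spec row_1 f h
  rcases step _ h with h | h
  · exact allL_spec row_2 f h
  rcases step _ h with h | h
  · exact allL_spec row_3 f h
  rcases step _ h with h | h
  · exact allL_spec row_4 f h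
  rcases step _ h with h | h
  · exact allL_spec row_5 f h
  rcases step _ h with h | h
  · exact allL_spec row_6 f h
  rcases step _ h with h | h
  · exact allL_spec row_7 f h
  · have : DL.drop (0 + 199 + 199 + 199 + 199 + 199 + 199 + 199 + 199) = [] := by decide +kernel
    rw [this] at h
    exact absurd h (List.not_mem_nil)

theorem tri_spec {f f1 f2 : ℕ} (h : tri f f1 f2 = true) (hf : 0 < f) (hf1 : 0 < f1) (hf2 : 0 < f2)
    (hs : 1 + 2 * f + f1 + f2 = nn) (hint : f * f * (f1 * f2) ∣ nn ^ 5 * PS)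
    (hA : Sol 19530 f f1 f2) (hB : Sol 2034375 f f1 f2) : False := by
  rw [tri] at h
  have h1 : Nat.beq (Nat.mod (Nat.mul (Nat.pow nn 5) PS) (Nat.mul (Nat.mul f f) (Nat.mul f1 f2))) 0 = true := by
    apply beq_iff.2
    rw [nmod, nmul, nmul, nmul, nmul]
    exact Nat.mod_eq_zero_of_dvd hint
  rw [h1, cond_true] at h
  cases hb : orb 19530 f f1 f2 with
  | true => exact orb_spec hb hf hf1 hf2 hs (by decide) hA
  | false =>
    rw [hb, cond_false] at h
    exact orb_spec h hf hf1 hf2 hs (by decide) hB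

theorem no_pair_aux {f f1 f2 : ℕ} (hf : f ∣ NN') (hf1 : f1 ∣ NN') (hf2 : f2 ∣ NN') (h4 : ¬ 4 ∣ f) (h41 : ¬ 4 ∣ f1)
    (h42 : ¬ 4 ∣ f2) (hs : 1 + 2 * f + f1 + f2 = nn) (hle : f1 ≤ f2) (hint : f * f * (f1 * f2) ∣ nn ^ 5 * PS)
    (hA : Sol 19530 f f1 f2) (hB : Sol 2034375 f f1 f2) : False := by
  have hN : NN' ≠ 0 := by decide
  have hf0 : 0 < f := Nat.pos_of_dvd_of_pos hf (Nat.pos_of_ne_zero hN)
  have hf10 : 0 < f1 := Nat.pos_of_dvd_of_pos hf1 (Nat.pos_of_ne_zero hN)
  have hf20 : 0 < f2 := Nat.pos_of_dvd_of_pos hf2 (Nat.pos_of_ne_zero hN)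
  have hs' : 1 + 2 * f + f1 + f2 = 8835156 := hs
  have hrow := row_mem (mem_DL hf h4 (show f < 8835156 by omega))
  rw [row, force_eq', nsub, nmul, nadd] at hrow
  have h1 : Nat.ble nn (2 * f + 2) = false := by
    rw [Bool.eq_false_iff]
    intro h
    have : 8835156 ≤ 2 * f + 2 := ble_iff.1 h
    omega
  rw [h1, cond_false] at hrow
  have h2 : Nat.pred nn - 2 * f = f1 + f2 := by
    have : Nat.pred nn = 8835155 := rfl
    rw [this]
    omega
  rw [h2] at hrow
  have h3 := sb_DL hrow f2 (mem_DL hf2 h42 (show f2 < 8835156 by omega))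
    (by omega) (by omega) (by rw [Nat.add_sub_cancel]; exact hf1) (by rw [Nat.add_sub_cancel]; exact h41)
  rw [Nat.add_sub_cancel] at h3
  exact tri_spec h3 hf0 hf10 hf20 hs hint hA hB

theorem no_pair {f f1 f2 : ℕ} (hf : f ∣ NN') (hf1 : f1 ∣ NN') (hf2 : f2 ∣ NN') (h4 : ¬ 4 ∣ f) (h41 : ¬ 4 ∣ f1)
    (h42 : ¬ 4 ∣ f2) (hs : 1 + 2 * f + f1 + f2 = nn) (hint : f * f * (f1 * f2) ∣ nn ^ 5 * PS)
    (hA : Sol 19530 f f1 f2) (hB : Sol 2034375 f f1 f2) : False := by
  rcases le_total f1 f2 with h | h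
  · exact no_pair_aux hf hf1 hf2 h4 h41 h42 hs h hint hA hB
  · exact no_pair_aux hf hf2 hf1 h4 h42 h41 (by rw [← hs]; ring) h (by rwa [mul_comm f2 f1]) hA.symm hB.symm

theorem no_three {f e : ℕ} (hf : f ∣ NN') (he : e ∣ NN') (h4 : ¬ 4 ∣ f) (h4e : ¬ 4 ∣ e)
    (hs : 1 + 3 * f + e = nn) : False := by
  have hs' : 1 + 3 * f + e = 8835156 := hs
  have hN : NN' ≠ 0 := by decide
  have he0 : 0 < e := Nat.pos_of_dvd_of_pos he (Nat.pos_of_ne_zero hN)
  have h := allL_spec three_all f (mem_DL hf h4 (show f < 8835156 by omega))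
  rw [three, force_eq', nsub, nmul, nadd, nmod, nmod] at h
  have h1 : Nat.ble nn (3 * f + 1) = false := by
    rw [Bool.eq_false_iff]
    intro h
    have : 8835156 ≤ 3 * f + 1 := ble_iff.1 h
    omega
  rw [h1, cond_false] at h
  have h2 : Nat.pred nn - 3 * f = e := by
    have : Nat.pred nn = 8835155 := rfl
    rw [this]
    omega
  rw [h2, beq_iff.2 (Nat.mod_eq_zero_of_dvd he), cond_true] at h
  exact h4e (Nat.dvd_of_mod_eq_zero (beq_iff.1 h))

end Cfsg.Agent.H652.Four.LyArith
end

-- part: H652/Four/LyRow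
section
/-!
# Four divides the degree of an irreducible character of the Lyons group

The action on the 8835156 cosets of `G₂(5)` has rank five with subdegrees 1, 19530, 968750, 2034375, 5812500. If four
divides no degree then Frame's theorem forces two algebraically conjugate constituents, which is impossible by
the trace equations.
-/

set_option autoImplicit false
set_option linter.unusedSectionVars false

open Cfsg

namespace Cfsg.Agent.H652.Four.LyRow

open Cfsg.Agent.Characters.Core Cfsg.Agent.Characters Cfsg.Agent.H707.Orbits Ker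
open Cfsg.Agent.Ly.Index Cfsg.Agent.Ly.Pres Cfsg.Agent.Ly.WalkCtx Cfsg.Agent.Ly.Upper Cfsg.Agent.Ly.Cover
  Cfsg.Agent.Ly.IndexEq

attribute [local instance] irrAction

/-- the subdegrees -/
def dd : Fin 5 → ℕ := ![1, 19530, 968750, 2034375, 5812500]

theorem dd_sum : ∑ i, dd i = 8835156 := by simp [dd, Fin.sum_univ_succ]

theorem dd_inj : Function.Injective dd := by decide

theorem cast_n : ((8835156 : ℕ) : ℂ) = (8835156 : ℂ) := by norm_num

theorem cast_z : ((8835156 : ℤ) : ℂ) = (8835156 : ℂ) := by norm_num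

theorem dd_one : dd 1 = 19530 := by simp [dd]

theorem dd_three : dd 3 = 2034375 := by simp [dd]

theorem dd_prod : ∏ i, dd i = LyArith.PS := by
  simp only [Fin.prod_univ_five]
  rfl

/-- the points -/
abbrev Om : Type := Cfsg.Spor.Ly ⧸ HH gens

theorem card_Om : Nat.card Om = 8835156 := card_HH_index.2

theorem card_comp_le (i : Fin 5) : Nat.card (Hhat ⧸ S (i : ℕ)) ≤ dd i := by
  match i with
  | 0 =>
    refine index_S_le (a := 5859000000) (by norm_num) ?_ (by simp [dd])
    show 5859000000 ≤ Nat.card (Hsub 0)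
    rw [Hsub_zero, Cfsg.Agent.Ly.T1.card_Hhat]
  | 1 => exact index_S_le (a := 300000) (by norm_num) card_Hsub_one (by simp [dd])
  | 2 => exact index_S_le (a := 6048) (by norm_num) card_Hsub_two (by simp [dd])
  | 3 => exact index_S_le (a := 2880) (by norm_num) card_Hsub_three (by simp [dd])
  | 4 => exact index_S_le (a := 1008) (by norm_num) card_Hsub_four (by simp [dd])

instance finite_Om : Finite Om := Nat.finite_of_card_ne_zero (by rw [card_Om]; norm_num)

theorem f_bij : Function.Bijective (f data) := by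
  have hs := f_surjective data closure_gens
  refine hs.bijective_of_nat_card_le ?_
  rw [Nat.card_sigma, card_Om, ← dd_sum]
  exact Finset.sum_le_sum fun i _ => card_comp_le i

theorem card_comp (i : Fin 5) : Nat.card (Hhat ⧸ S (i : ℕ)) = dd i := by
  have h := Nat.card_congr (Equiv.ofBijective _ f_bij)
  rw [Nat.card_sigma, card_Om, ← dd_sum] at h
  exact (Finset.sum_eq_sum_iff_of_le fun i _ => card_comp_le i).1 h i (Finset.mem_univ i)

/-- base point -/
def x0 : Om := QuotientGroup.mk 1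

/-- representatives -/
def y (k : Fin 5) : Om := QuotientGroup.mk (base gens k)⁻¹

theorem fix_iff (g : Cfsg.Spor.Ly) : g • x0 = x0 ↔ g ∈ HH gens := by
  unfold x0
  rw [MulAction.Quotient.smul_mk, smul_eq_mul, mul_one, eq_comm, QuotientGroup.eq, inv_one, one_mul]

theorem f_apply (k : Fin 5) (a : Hhat) : f data ⟨k, QuotientGroup.mk a⟩ = data.φ a • y k := rfl

theorem phi_fix (a : Hhat) : data.φ a • x0 = x0 := by
  rw [fix_iff, ← data.range_φ]
  exact ⟨a, rfl⟩

theorem exists_phi {g : Cfsg.Spor.Ly} (h : g • x0 = x0) : ∃ a, data.φ a = g := by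
  rw [fix_iff, ← data.range_φ] at h
  exact h

theorem cover (z : Om) : ∃ l, ∃ h : Cfsg.Spor.Ly, h • x0 = x0 ∧ h • y l = z := by
  obtain ⟨⟨l, q⟩, rfl⟩ := f_bij.2 z
  induction q using QuotientGroup.induction_on with
  | H a => exact ⟨l, data.φ a, phi_fix a, rfl⟩

theorem disj (k l : Fin 5) (h : Cfsg.Spor.Ly) (h1 : h • x0 = x0) (h2 : h • y l = y k) : l = k := by
  obtain ⟨a, rfl⟩ := exists_phi h1
  have h3 : f data ⟨l, QuotientGroup.mk a⟩ = f data ⟨k, QuotientGroup.mk 1⟩ := by
    rw [f_apply, f_apply, h2, map_one, one_smul]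
  exact congrArg Sigma.fst (f_bij.1 h3)

theorem card_orb (k : Fin 5) :
    Nat.card {z : Om // ∃ h : Cfsg.Spor.Ly, h • x0 = x0 ∧ h • y k = z} = dd k := by
  rw [← card_comp k]
  symm
  refine Nat.card_congr (Equiv.ofBijective (fun q : Hhat ⧸ S (k : ℕ) =>
    (⟨f data ⟨k, q⟩, by
      induction q using QuotientGroup.induction_on with
      | H a => exact ⟨data.φ a, phi_fix a, rfl⟩⟩ :
      {z : Om // ∃ h : Cfsg.Spor.Ly, h • x0 = x0 ∧ h • y k = z})) ⟨?_, ?_⟩)
  · intro q q' h
    have h1 := f_bij.1 (congrArg Subtype.val h)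
    simpa using h1
  · rintro ⟨z, h, h1, rfl⟩
    obtain ⟨a, rfl⟩ := exists_phi h1
    exact ⟨QuotientGroup.mk a, rfl⟩

theorem x0_ne (k : Fin 5) (hk : k ≠ 0) : x0 ≠ y k := by
  intro h
  have h0 : y 0 = x0 := by
    unfold y x0
    have : base gens ((0 : Fin 5) : ℕ) = 1 := rfl
    rw [this, inv_one]
  refine hk (disj 0 k 1 (one_smul _ _) ?_)
  rw [one_smul, h0, h]

theorem exists_D [Fintype Cfsg.Spor.Ly] [Fintype Om] [DecidableEq Om] :
    ∃ D : Dat Cfsg.Spor.Ly Om (Fin 5), D.nk = dd ∧ D.x0 = x0 ∧ D.y = y ∧ ∑ i, D.f i = Nat.card Om := by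
  obtain ⟨D, h1, h2, h3, -, h4⟩ := Dat.exists_dat (G := Cfsg.Spor.Ly) x0 y dd cover disj card_orb
    (Cfsg.Agent.PermutationGroups.MultFree.main_b x0 (by
      rw [Dat.card_suborbits x0 y cover disj, Nat.card_eq_fintype_card, Fintype.card_fin]))
  exact ⟨D, h3, h1, h2, h4⟩

theorem exists_rest : ∀ i0 i j : Fin 5, i ≠ i0 → j ≠ i0 → i ≠ j → ∃ k l : Fin 5, k ≠ i0 ∧ l ≠ i0 ∧ k ≠ i ∧ l ≠ i ∧
    k ≠ j ∧ l ≠ j ∧ k ≠ l := by decide

theorem sum_five {i0 i j k l : Fin 5} (h1 : i ≠ i0) (h2 : j ≠ i0) (h3 : i ≠ j) (h4 : k ≠ i0) (h5 : l ≠ i0)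
    (h6 : k ≠ i) (h7 : l ≠ i) (h8 : k ≠ j) (h9 : l ≠ j) (h10 : k ≠ l) :
    (Finset.univ : Finset (Fin 5)) = {i0, i, j, k, l} := by
  revert i0 i j k l
  decide

/-- **Four divides a character degree of the Lyons group.** -/
theorem im_four : H33.IM 4 Cfsg.Spor.Ly := by
  classical
  by_contra hno
  rw [H33.not_IM_iff] at hno
  have := Fintype.ofFinite Cfsg.Spor.Ly
  have := Fintype.ofFinite Om
  obtain ⟨D, hnk, hx0, hy, hsum⟩ := exists_D
  have hs : D.Symm := D.symm_of_injective (by rw [hnk]; exact dd_inj)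
  have h4 : ∀ i, ¬ 4 ∣ D.f i := fun i => hno (D.χ i)
  have hdv : ∀ i, D.f i ∣ LyArith.NN' := fun i => by
    have := D.f_dvd_card i
    rwa [card_ly] at this
  obtain ⟨i0, hi0⟩ := D.exists_trivial
  have hf0 := Dat.f_trivial hi0
  have htriv := Dat.smul_trivial hi0
  have hneq : ∀ (σ : ℂ ≃+* ℂ) (τ : Equiv.Perm (Fin 5)), (∀ i, σ • D.χ i = D.χ (τ i)) → τ i0 = i0 := by
    intro σ τ h
    have := h i0
    rw [htriv] at this
    exact (D.inj this).symm
  have hcard : Fintype.card (Fin 5) = 5 := Fintype.card_fin 5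
  by_cases hinj : ∀ i j, i ≠ i0 → j ≠ i0 → D.f i = D.f j → i = j
  · -- all constituents are rational
    have hfix : ∀ (σ : ℂ ≃+* ℂ) i, σ • D.χ i = D.χ i := by
      intro σ i
      obtain ⟨τ, hτ⟩ := D.exists_perm σ
      by_cases hi : i = i0
      · rw [hi, htriv]
      · have h1 : τ i ≠ i0 := by
          intro h
          exact hi (τ.injective (h.trans (hneq σ τ hτ).symm))
        rw [hτ i, ← hinj i (τ i) hi h1 (Dat.f_eq σ (hτ i))]
    have hpar := Dat.parity hs h4 hsum hfix
    rw [hnk, dd_prod, card_Om, hcard] at hpar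
    have hB : (8835156 ^ 5 * LyArith.PS).factorization 2 = 14 := by
      have e : 8835156 ^ 5 * LyArith.PS = 2 ^ 14 * (2208789 ^ 5 * (9765 * 484375 * 2034375 * 1453125)) := by norm_num
      have ho : ¬ 2 ∣ 2208789 ^ 5 * (9765 * 484375 * 2034375 * 1453125) := by norm_num
      have hne : 2208789 ^ 5 * (9765 * 484375 * 2034375 * 1453125) ≠ 0 := by norm_num
      rw [e, Nat.factorization_mul (by norm_num) hne, Finsupp.add_apply, Nat.factorization_eq_zero_of_not_dvd ho,
        Nat.Prime.factorization_pow Nat.prime_two, Finsupp.single_eq_same]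
    rw [hB] at hpar
    omega
  · push Not at hinj
    obtain ⟨i, j, hi, hj, hfij, hij⟩ := hinj
    obtain ⟨k, l, hk0, hl0, hki, hli, hkj, hlj, hkl⟩ := exists_rest i0 i j hi hj hij
    have huniv := sum_five hi hj hij hk0 hl0 hki hli hkj hlj hkl
    have hsum5 : ∀ {M : Type} [AddCommMonoid M] (F : Fin 5 → M), ∑ a, F a = F i0 + (F i + (F j + (F k + F l))) := by
      intro M _ F
      rw [huniv, Finset.sum_insert, Finset.sum_insert, Finset.sum_insert, Finset.sum_pair hkl]
      · simp only [Finset.mem_insert, Finset.mem_singleton, not_or]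
        exact ⟨hkj.symm, hlj.symm⟩
      · simp only [Finset.mem_insert, Finset.mem_singleton, not_or]
        exact ⟨hij, hki.symm, hli.symm⟩
      · simp only [Finset.mem_insert, Finset.mem_singleton, not_or]
        exact ⟨hi.symm, hj.symm, hk0.symm, hl0.symm⟩
    have hprod5 : ∀ F : Fin 5 → ℕ, ∏ a, F a = F i0 * (F i * (F j * (F k * F l))) := by
      intro F
      rw [huniv, Finset.prod_insert, Finset.prod_insert, Finset.prod_insert, Finset.prod_pair hkl]
      · simp only [Finset.mem_insert, Finset.mem_singleton, not_or]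
        exact ⟨hkj.symm, hlj.symm⟩
      · simp only [Finset.mem_insert, Finset.mem_singleton, not_or]
        exact ⟨hij, hki.symm, hli.symm⟩
      · simp only [Finset.mem_insert, Finset.mem_singleton, not_or]
        exact ⟨hi.symm, hj.symm, hk0.symm, hl0.symm⟩
    have hs1 := hsum5 D.f
    rw [hsum, card_Om, hf0, ← hfij] at hs1
    have hkl' : D.f k ≠ D.f l := by
      intro h
      rw [h] at hs1
      omega
    have hki' : D.f k ≠ D.f i := by
      intro h
      exact LyArith.no_three (hdv i) (hdv l) (h4 i) (h4 l) (by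
        show 1 + 3 * D.f i + D.f l = 8835156
        omega)
    have hli' : D.f l ≠ D.f i := by
      intro h
      exact LyArith.no_three (hdv i) (hdv k) (h4 i) (h4 k) (by
        show 1 + 3 * D.f i + D.f k = 8835156
        omega)
    have hcases : ∀ a : Fin 5, a = i0 ∨ a = i ∨ a = j ∨ a = k ∨ a = l := by
      intro a
      have := Finset.mem_univ a
      rw [huniv] at this
      simpa using this
    have hfix : ∀ (σ : ℂ ≃+* ℂ) a, a ≠ i → a ≠ j → σ • D.χ a = D.χ a := by
      intro σ a hai haj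
      obtain ⟨τ, hτ⟩ := D.exists_perm σ
      rcases hcases a with rfl | rfl | rfl | rfl | rfl
      · exact htriv σ
      · exact absurd rfl hai
      · exact absurd rfl haj
      · have h1 := Dat.f_eq σ (hτ a)
        rw [hτ a]
        rcases hcases (τ a) with h | h | h | h | h
        · exact absurd (τ.injective (h.trans (hneq σ τ hτ).symm)) hk0
        · rw [h] at h1; exact absurd h1 hki'
        · rw [h, ← hfij] at h1; exact absurd h1 hki'
        · rw [h]
        · rw [h] at h1; exact absurd h1 hkl'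
      · have h1 := Dat.f_eq σ (hτ a)
        rw [hτ a]
        rcases hcases (τ a) with h | h | h | h | h
        · exact absurd (τ.injective (h.trans (hneq σ τ hτ).symm)) hl0
        · rw [h] at h1; exact absurd h1 hli'
        · rw [h, ← hfij] at h1; exact absurd h1 hli'
        · rw [h] at h1; exact absurd h1.symm hkl'
        · rw [h]
    -- the equations
    have hsol : ∀ m : Fin 5, m ≠ 0 → LyArith.Sol (dd m) (D.f i) (D.f k) (D.f l) := by
      intro m hm
      obtain ⟨t, a, b, ht, ha, hb, hD, hsq⟩ := Dat.pair hs hij hfix m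
      have hm' : D.x0 ≠ D.y m := by
        rw [hx0, hy]
        exact x0_ne m hm
      have e1 := Dat.trace_one (D := D) hm'
      have e2 := Dat.trace_two hs m
      rw [hsum5, hf0, Dat.th_trivial hi0, ht k hki hkj, ht l hli hlj, ← hfij, hnk] at e1
      rw [hsum5, hf0, Dat.th_trivial hi0, ht k hki hkj, ht l hli hlj, ← hfij, hnk, card_Om] at e2
      refine ⟨t k, t l, a, b, ?_, ?_, hD, ?_⟩
      · have e3 : ((dd m : ℕ) : ℂ) + D.f k * t k + D.f l * t l + D.f i * a = 0 := by
          rw [← ha]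
          linear_combination e1
        exact_mod_cast e3
      · apply Int.cast_injective (α := ℂ)
        rw [Int.cast_add, Int.cast_add, Int.cast_mul, Int.cast_mul, Int.cast_mul, Int.cast_mul, Int.cast_pow,
          Int.cast_pow, Int.cast_sub, Int.cast_natCast, Int.cast_natCast, Int.cast_natCast, Int.cast_natCast, ← hb,
          cast_z]
        rw [Nat.cast_one, cast_n] at e2
        linear_combination e2
      · rw [hnk, dd_prod, card_Om, hcard, hprod5, hf0, ← hfij] at hsq
        have e4 : (2 * b - a ^ 2) * ((8835156 ^ 5 * LyArith.PS * (1 * (D.f i * (D.f i * (D.f k * D.f l)))) : ℕ) : ℤ) =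
            (2 * b - a ^ 2) * ((LyArith.nn * LyArith.PS * (D.f k * D.f l) : ℕ) : ℤ) *
              ((8835156 ^ 2 * D.f i : ℕ) : ℤ) ^ 2 := by
          push_cast
          ring
        rw [e4] at hsq
        obtain ⟨r, hr⟩ := hsq
        have hc0 : (((8835156 ^ 2 * D.f i : ℕ) : ℤ)) ≠ 0 := by
          have := D.f_ne_zero i
          exact_mod_cast mul_ne_zero (by norm_num) this
        have hdvd : ((8835156 ^ 2 * D.f i : ℕ) : ℤ) ∣ r := by
          rw [← Int.pow_dvd_pow_iff two_ne_zero, sq r, ← hr]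
          exact dvd_mul_left _ _
        obtain ⟨s, hs'⟩ := hdvd
        refine ⟨s, ?_⟩
        apply mul_right_cancel₀ (pow_ne_zero 2 hc0)
        rw [hr, hs']
        ring
    have hint : D.f i * D.f i * (D.f k * D.f l) ∣ LyArith.nn ^ 5 * LyArith.PS := by
      have h := Dat.dvd hs
      rw [hnk, dd_prod, card_Om, hcard, hprod5, hf0, ← hfij] at h
      have e : 1 * (D.f i * (D.f i * (D.f k * D.f l))) = D.f i * D.f i * (D.f k * D.f l) := by ring
      rwa [e] at h
    have hA := hsol 1 (by decide)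
    have hB := hsol 3 (by decide)
    rw [dd_one] at hA
    rw [dd_three] at hB
    have hs2 : 1 + 2 * D.f i + D.f k + D.f l = 8835156 := by omega
    exact LyArith.no_pair (hdv i) (hdv k) (hdv l) (h4 i) (h4 k) (h4 l) hs2 hint hA hB

end Cfsg.Agent.H652.Four.LyRow

namespace Cfsg.Agent.H652.Four

universe u

/-- **Four divides a character degree of the Lyons group** (any model). -/
theorem im4_Ly {S : Type u} [Group S] (h : Cfsg.Spor.IsoLy S) : H33.IM 4 S := by
  obtain ⟨e⟩ := h
  obtain ⟨χ, hχ⟩ := LyRow.im_four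
  have h1 := Characters.Core.isIrr_comp e.toMonoidHom e.surjective χ.2
  refine ⟨⟨_, h1⟩, ?_⟩
  have : charDegree ((χ : Cfsg.Spor.Ly → ℂ) ∘ e.toMonoidHom) = charDegree (χ : Cfsg.Spor.Ly → ℂ) := by
    unfold charDegree
    simp
  rwa [this]

end Cfsg.Agent.H652.Four
end

private theorem dce_ed83f796250b : _root_.True := by
  try have : _root_.True := by simp only [_root_.Cfsg.Agent.H652.Four.LyArith.mrg.eq_4]
  try have : _root_.True := by simp only [_root_.Cfsg.Agent.H652.Four.LyArith.tri.eq_1]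
  try have : _root_.True := by simp only [_root_.Cfsg.Agent.H652.Four.LyArith.three.eq_1]
  try have : _root_.True := by simp only [_root_.Cfsg.Agent.H652.Four.LyArith.mrg.eq_def]
  try have : _root_.True := by simp only [_root_.Cfsg.Agent.H652.Four.LyArith.mrg.eq_2]
  try have : _root_.True := by simp only [_root_.Cfsg.Agent.H652.Four.LyArith.mrg.eq_3]
  try have : _root_.True := by simp only [_root_.Cfsg.Agent.H652.Four.LyArith.mp.eq_1]
  try have : _root_.True := by simp only [_root_.Cfsg.Agent.H652.Four.LyArith.mp.eq_2]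
  try have : _root_.True := by simp only [_root_.Cfsg.Agent.H652.Four.Ker.kr.congr_simp]
  try have : _root_.True := by simp only [_root_.Cfsg.Agent.H652.Four.LyArith.orb.eq_1]
  try have : _root_.True := by simp only [_root_.Cfsg.Agent.H652.Four.LyArith.mp.eq_def]
  try have : _root_.True := by simp only [_root_.Cfsg.Agent.H652.Four.LyArith.cand.eq_1]
  try have : _root_.True := by simp only [_root_.Cfsg.Agent.H652.Four.LyArith.nonsq.eq_1]
  try have : _root_.True := by simp only [_root_.Cfsg.Agent.H652.Four.LyArith.inner.eq_1]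
  try have : _root_.True := by simp only [_root_.Cfsg.Agent.H652.Four.LyArith.outer.eq_1]
  try have : _root_.True := by simp only [_root_.Cfsg.Agent.H652.Four.LyArith.mrg.eq_1]
  try have : _root_.True := by simp only [_root_.Cfsg.Agent.H652.Four.LyRow.dd.eq_1]
  try have : _root_.True := by simp only [_root_.Cfsg.Agent.H652.Four.LyArith.row.eq_1]
  exact _root_.True.intro
end

-- part: H680/Red5009
section
set_option linter.all false
open scoped Cfsg.Agent.FastGrp

/-!
S5009 (no degree divisible by 4): reduction to simple groups.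
-/

set_option autoImplicit false

namespace Cfsg.Agent.H680.Red5009

open Cfsg Subgroup Cfsg.Agent.H614 Cfsg.Agent.H33 Cfsg.Agent.H459.Rad

universe u v

/-- The symmetric group of degree 7 has an irreducible character of degree 20. -/
theorem im_perm_seven : IM 4 (Equiv.Perm (Fin 7)) := by
  have hβ : StrictMono ![1, 2, 3, 7] := by decide
  have hs : ∑ i, (![1, 2, 3, 7] : Fin 4 → ℕ) i = Fintype.card (Fin 7) + ∑ i : Fin 4, (i : ℕ) := by decide
  have h1 := isIrr_ch (α := Fin 7) hβ hs
  have h2 := FM_ones_formula 7 ![1, 2, 3, 7] (by decide)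
  have h3 : FM (Multiset.replicate 7 1) ![1, 2, 3, 7] = 20 := by
    have e1 : (∏ i, (((![1, 2, 3, 7] : Fin 4 → ℕ) i).factorial : ℤ)) = 60480 := by decide
    have e2 : ((Nat.factorial 7 : ℕ) : ℤ) * ∏ i : Fin 4, ∏ j ∈ Finset.Ioi i,
        (((![1, 2, 3, 7] : Fin 4 → ℕ) j : ℤ) - (![1, 2, 3, 7] : Fin 4 → ℕ) i) = 1209600 := by decide
    rw [e1, e2] at h2
    omega
  refine IM.of_apply_one h1 (n := 20) ?_ (by norm_num)
  rw [ch_apply, ty_one, Fintype.card_fin, h3]
  norm_num

section

variable (m : ℕ) (hm : ∀ (S : Type u) [Group S] [Finite S] [IsSimpleGroup S], ¬ IsMulCommutative S → IM m S)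

include hm in
/-- nonsolvable groups -/
theorem im_of_not_solvable (n : ℕ) : ∀ (X : Type u) [Group X] [Finite X], Nat.card X ≤ n →
    ¬ Group.IsSolvable X → IM m X := by
  induction n with
  | zero =>
    intro X _ _ hn
    exact absurd hn (by have := Nat.card_pos (α := X); omega)
  | succ n ih =>
    intro X _ _ hn hX
    by_cases hs : IsSimpleGroup X
    · refine hm X fun hc => hX ?_
      exact Group.isSolvable_of_comm fun a b => hc.is_comm.comm a b
    have hnt : Nontrivial X := by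
      by_contra h
      rw [not_nontrivial_iff_subsingleton] at h
      exact hX (Group.isSolvable_of_comm fun a b => Subsingleton.elim _ _)
    obtain ⟨N, hN, hNb, hNt⟩ : ∃ N : Subgroup X, N.Normal ∧ N ≠ ⊥ ∧ N ≠ ⊤ := by
      by_contra hcon
      push Not at hcon
      exact hs ⟨fun N hN => by
        by_cases h : N = ⊥
        · exact Or.inl h
        · exact Or.inr (hcon N hN h)⟩
    have h1 : Nat.card N < Nat.card X := by
      refine lt_of_le_of_ne (Subgroup.card_le_card_group N) fun h => hNt ?_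
      exact Subgroup.eq_top_of_card_eq N h
    have h2 := Subgroup.card_eq_card_quotient_mul_card_subgroup N
    have h3 : 1 < Nat.card N := by rw [Subgroup.one_lt_card_iff_ne_bot]; exact hNb
    have h4 : 0 < Nat.card (X ⧸ N) := Nat.card_pos
    by_cases hNs : Group.IsSolvable N
    · have hq : ¬ Group.IsSolvable (X ⧸ N) := fun h => hX (isSolvable_of_quotient N hNs h)
      exact (ih (X ⧸ N) (by nlinarith) hq).of_quotient N
    · exact (ih N (by omega) hNs).of_normal N

end

theorem im_prod {A : Type u} {B : Type v} [Group A] [Group B] [Finite A] [Finite B] {a b : ℕ} (hA : IM a A)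
    (hB : IM b B) : IM (a * b) (A × B) := by
  obtain ⟨χ, hχ⟩ := hA
  obtain ⟨ψ, hψ⟩ := hB
  obtain ⟨d, hd⟩ := Cfsg.Agent.Characters.Core.isIrr_apply_one χ.2
  obtain ⟨e, he⟩ := Cfsg.Agent.Characters.Core.isIrr_apply_one ψ.2
  rw [H670.PSing.charDegree_eq_of hd.2] at hχ
  rw [H670.PSing.charDegree_eq_of he.2] at hψ
  refine IM.of_apply_one (n := d * e) (Cfsg.Agent.S0188.isIrr_outer χ.2 ψ.2) ?_ (Nat.mul_dvd_mul hχ hψ)
  change (χ : A → ℂ) 1 * (ψ : B → ℂ) 1 = _
  rw [hd.2, he.2]
  push_cast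
  rfl

/-- two commuting normal subgroups with trivial intersection -/
theorem im_of_two {Q : Type u} [Group Q] [Finite Q] (A B : Subgroup Q) [A.Normal] [B.Normal]
    (hAB : ∀ a ∈ A, ∀ b ∈ B, a * b = b * a) (hd : A ⊓ B = ⊥) {a b : ℕ} (hA : IM a A) (hB : IM b B) :
    IM (a * b) Q := by
  let f : A × B →* Q :=
    { toFun := fun x => (x.1 : Q) * x.2
      map_one' := by simp
      map_mul' := fun x y => by
        change (x.1 : Q) * y.1 * (x.2 * y.2) = x.1 * x.2 * (y.1 * y.2)
        have := hAB y.1 y.1.2 x.2 x.2.2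
        calc (x.1 : Q) * y.1 * (x.2 * y.2) = x.1 * (y.1 * x.2) * y.2 := by group
          _ = x.1 * (x.2 * y.1) * y.2 := by rw [this]
          _ = x.1 * x.2 * (y.1 * y.2) := by group }
  have hf : Function.Injective f := by
    rw [injective_iff_map_eq_one]
    rintro ⟨x, y⟩ hxy
    have h1 : (x : Q) * y = 1 := hxy
    have h3 : (x : Q) ∈ B := by
      rw [eq_inv_of_mul_eq_one_left h1]
      exact inv_mem y.2
    have h2 : (x : Q) ∈ A ⊓ B := ⟨x.2, h3⟩
    rw [hd, mem_bot] at h2
    rw [h2, one_mul] at h1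
    exact Prod.ext (Subtype.ext h2) (Subtype.ext h1)
  have hr : f.range = A ⊔ B := by
    apply le_antisymm
    · rintro _ ⟨x, rfl⟩
      exact mul_mem (mem_sup_left x.1.2) (mem_sup_right x.2.2)
    · refine sup_le ?_ ?_
      · intro x hx
        exact ⟨(⟨x, hx⟩, 1), by change x * 1 = x; rw [mul_one]⟩
      · intro x hx
        exact ⟨(1, ⟨x, hx⟩), by change 1 * x = x; rw [one_mul]⟩
  have hn : f.range.Normal := by rw [hr]; infer_instance
  have e : A × B ≃* f.range := MonoidHom.ofInjective hf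
  exact ((IM.congr e).1 (im_prod hA hB)).of_normal f.range

/-- the degree fact -/
def Fact4 : Prop := ∀ (S : Type u) [Group S] [Finite S] [IsSimpleGroup S], ¬ IsMulCommutative S →
  (∃ χ : Cfsg.IrrCharacter S, 4 ∣ Cfsg.charDegree (χ : S → ℂ)) ∨ Nonempty (S ≃* ↥(alternatingGroup (Fin 7)))

theorem card_A7 : Nat.card (alternatingGroup (Fin 7)) = 2520 := by
  rw [nat_card_alternatingGroup, Nat.card_eq_fintype_card, Fintype.card_fin]
  decide

theorem simple_A7 : IsSimpleGroup (alternatingGroup (Fin 7)) := alternatingGroup.isSimpleGroup (by simp)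

theorem main (h4 : Fact4.{u}) (h2 : ∀ (S : Type u) [Group S] [Finite S] [IsSimpleGroup S], ¬ IsMulCommutative S →
    IM 2 S) (n : ℕ) : ∀ (Q : Type u) [Group Q] [Finite Q], Nat.card Q ≤ n → Nontrivial Q →
    solvableRadical Q = ⊥ → ¬ IM 4 Q → Nonempty (Q ≃* alternatingGroup (Fin 7)) := by
  induction n with
  | zero =>
    intro Q _ _ hn
    exact absurd hn (by have := Nat.card_pos (α := Q); omega)
  | succ n ih =>
    intro Q _ _ hn hnt hrad hQ
    have hnc : ∀ N : Subgroup Q, N.Normal → Group.IsSolvable N → N = ⊥ := by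
      intro N hN hs
      rw [eq_bot_iff, ← hrad]
      exact le_rad hN hs
    have hQs : ¬ Group.IsSolvable Q := by
      intro hs
      have h1 := rad_eq_top_iff.2 hs
      rw [hrad] at h1
      exact bot_ne_top h1
    by_cases hs : IsSimpleGroup Q
    · rcases h4 Q (fun hc => hQs (Group.isSolvable_of_comm fun a b => hc.is_comm.comm a b)) with h | h
      · exact absurd h hQ
      · exact h
    obtain ⟨M, hM, hMb, hMt⟩ : ∃ N : Subgroup Q, N.Normal ∧ N ≠ ⊥ ∧ N ≠ ⊤ := by
      by_contra hcon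
      push Not at hcon
      exact hs ⟨fun N hN => by
        by_cases h : N = ⊥
        · exact Or.inl h
        · exact Or.inr (hcon N hN h)⟩
    have h1 : Nat.card M < Nat.card Q := by
      refine lt_of_le_of_ne (Subgroup.card_le_card_group M) fun h => hMt ?_
      exact Subgroup.eq_top_of_card_eq M h
    have hMnt : Nontrivial M := (nontrivial_iff_ne_bot M).2 hMb
    have hMrad : solvableRadical M = ⊥ := by
      have h3 : ((solvableRadical M).map M.subtype) = ⊥ :=
        hnc _ ConjAct.normal_of_characteristic_of_normal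
          (Group.isSolvable_of_surjective (f := ((solvableRadical M).equivMapOfInjective _ M.subtype_injective).toMonoidHom)
            ((solvableRadical M).equivMapOfInjective _ M.subtype_injective).surjective)
      rwa [map_eq_bot_iff_of_injective _ M.subtype_injective] at h3
    obtain ⟨e⟩ := ih M (by omega) hMnt hMrad (fun h => hQ (h.of_normal M))
    have hMs : IsSimpleGroup M := (MulEquiv.isSimpleGroup_congr e).2 simple_A7
    have hMns : ¬ Group.IsSolvable M := fun h => hMb (hnc M hM h)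
    -- the centralizer is trivial
    have hCM : centralizer (M : Set Q) ⊓ M = ⊥ := by
      refine hnc _ inferInstance ?_
      exact Group.isSolvable_of_comm fun a b => Subtype.ext (mem_centralizer_iff.1 b.2.1 a a.2.2)
    have hC : centralizer (M : Set Q) = ⊥ := by
      by_contra hne
      have hCs : ¬ Group.IsSolvable (centralizer (M : Set Q)) := fun h => hne (hnc _ inferInstance h)
      apply hQ
      have h5 := im_of_two (centralizer (M : Set Q)) M (fun a ha b hb => (mem_centralizer_iff.1 ha b hb).symm) hCM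
        (im_of_not_solvable 2 h2 _ _ le_rfl hCs) (im_of_not_solvable 2 h2 _ _ le_rfl hMns)
      exact h5
    obtain ⟨K, hK, ⟨e'⟩⟩ := H216.Dih.exists_range M hC e
    have hb := Cfsg.Agent.S2119.result 7 (by norm_num) (by norm_num)
    let c : Equiv.Perm (Fin 7) ≃* MulAut ↥(alternatingGroup (Fin 7)) := MulEquiv.ofBijective _ hb
    -- order
    have hcK : Nat.card K = Nat.card Q := (Nat.card_congr e'.toEquiv).symm
    have hcM : Nat.card M = 2520 := by rw [Nat.card_congr e.toEquiv, card_A7]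
    have hcA : Nat.card (MulAut ↥(alternatingGroup (Fin 7))) = 5040 := by
      rw [← Nat.card_congr c.toEquiv, Nat.card_perm, Nat.card_eq_fintype_card, Fintype.card_fin]
      decide
    have hd1 : Nat.card Q ∣ 5040 := by rw [← hcK, ← hcA]; exact card_subgroup_dvd_card K
    have hd2 : 2520 ∣ Nat.card Q := by rw [← hcM]; exact card_subgroup_dvd_card M
    have hcQ : Nat.card Q = 5040 := by
      obtain ⟨k, hk⟩ := hd2
      rw [hk] at hd1
      have h6 : k ∣ 2 := by
        have : 2520 * k ∣ 2520 * 2 := hd1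
        exact Nat.dvd_of_mul_dvd_mul_left (by norm_num) this
      rcases (Nat.dvd_prime Nat.prime_two).1 h6 with rfl | rfl
      · rw [hk, hcM] at h1
        omega
      · rw [hk]
    have hKt : K = ⊤ := eq_top_of_card_eq K (by rw [hcK, hcQ, hcA])
    have e1 : Q ≃* Equiv.Perm (Fin 7) :=
      (e'.trans ((MulEquiv.subgroupCongr hKt).trans topEquiv)).trans c.symm
    exact absurd (im_perm_seven.of_equiv e1) hQ

/-- **S5009 from the simple row.** -/
theorem red (h4 : Fact4.{u}) (hIM2 : ∀ (S : Type u) [Group S] [Finite S] [IsSimpleGroup S], ¬ IsMulCommutative S →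
    Cfsg.Agent.H671.H5.IM 2 S) {G : Type u} [Group G] [Finite G]
    (h : ∀ χ : Cfsg.IrrCharacter G, ¬ 4 ∣ Cfsg.charDegree (χ : G → ℂ)) :
    Group.IsSolvable G ∨ ∃ N : Subgroup G, ∃ hN : N.Normal, Group.IsSolvable ↥N ∧
      Nonempty (G ⧸ N ≃* ↥(alternatingGroup (Fin 7))) := by
  by_cases hG : Group.IsSolvable G
  · exact Or.inl hG
  right
  have h4' : ¬ IM 4 G := not_IM_iff.2 h
  refine ⟨solvableRadical G, inferInstance, inferInstance, ?_⟩
  refine main h4 hIM2 _ _ le_rfl ?_ rad_quotient (fun h => h4' (h.of_quotient _))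
  by_contra hcon
  rw [not_nontrivial_iff_subsingleton] at hcon
  apply hG
  rw [← rad_eq_top_iff]
  exact QuotientGroup.subgroup_eq_top_of_subsingleton _ hcon

end Cfsg.Agent.H680.Red5009
end
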