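import Mathlib
import Cfsg.Prelude.Def_LocalEven
import Cfsg.Agent.Lib.Cores
import Cfsg.Agent.Lib.SylowNormalInf
import Cfsg.Agent.PLocal.ThompsonJ
set_option linter.all false

/-!
# p-reduced normal subgroups

* `isPReducedNormal_iff`: elementwise form of `IsPReducedNormal`: a normal subgroup all of whose
  elements have a `p`-power power centralizing `V` centralizes `V`;
* `sSup_isPReducedNormal`: the join of all `p`-reduced normal subgroups is `p`-reduced;
* `normalClosure_isPReducedNormal`: the normal closure of a `p`-reduced normal subgroup of an overgroup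
  of a Sylow `p`-subgroup is `p`-reduced, for a group of characteristic `p`.
-/

set_option autoImplicit false

namespace Cfsg.Agent.H221.PReduced

open Cfsg Subgroup
open Cfsg.Agent.Lib.Cores
open Cfsg.Agent.PLocal.ThompsonJ (isElementaryAbelian_iff)

variable {L : Type*} [Group L] {p : ℕ}

/-- Elementwise form of `IsPReducedNormal`. -/
theorem isPReducedNormal_iff {V : Subgroup L} :
    IsPReducedNormal p V ↔ V.Normal ∧ IsElementaryAbelian p V ∧
      ∀ D : Subgroup L, D.Normal → (∀ x ∈ D, ∃ k : ℕ, x ^ p ^ k ∈ centralizer (V : Set L)) →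
        D ≤ centralizer (V : Set L) := by
  constructor
  · rintro ⟨h1, h2, h3, h4⟩
    refine ⟨h1, h2, fun D hD hp => ?_⟩
    have h5 : D.map (QuotientGroup.mk' (centralizer (V : Set L))) ≤
        pCore p (L ⧸ centralizer (V : Set L)) := by
      apply le_pCore
      · exact hD.map _ (QuotientGroup.mk'_surjective _)
      · rintro ⟨y, hy⟩
        obtain ⟨x, hx, rfl⟩ := hy
        obtain ⟨k, hk⟩ := hp x hx
        refine ⟨k, ?_⟩
        apply Subtype.ext
        change (QuotientGroup.mk' (centralizer (V : Set L)) x) ^ p ^ k = 1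
        rw [← map_pow]
        exact (QuotientGroup.eq_one_iff _).2 hk
    rw [h4, le_bot_iff, Subgroup.map_eq_bot_iff, QuotientGroup.ker_mk'] at h5
    exact h5
  · rintro ⟨h1, h2, h3⟩
    have hC : (centralizer (V : Set L)).Normal := inferInstance
    refine ⟨h1, h2, hC, ?_⟩
    rw [eq_bot_iff]
    intro y hy
    obtain ⟨x, rfl⟩ := QuotientGroup.mk'_surjective _ y
    have h4 := h3 ((pCore p (L ⧸ centralizer (V : Set L))).comap (QuotientGroup.mk' _))
      ((Lib.Cores.pCore_normal p).comap _) (fun z hz => by
        obtain ⟨k, hk⟩ := pCore_isPGroup (G := L ⧸ centralizer (V : Set L)) p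
          ⟨QuotientGroup.mk' _ z, hz⟩
        refine ⟨k, ?_⟩
        have := congrArg Subtype.val hk
        rw [← QuotientGroup.eq_one_iff]
        exact this)
    exact mem_bot.2 ((QuotientGroup.eq_one_iff x).2 (h4 hy))

theorem pCore_le_centralizer {V : Subgroup L} (hV : IsPReducedNormal p V) :
    pCore p L ≤ centralizer (V : Set L) := by
  refine (isPReducedNormal_iff.1 hV).2.2 _ (Lib.Cores.pCore_normal p) fun x hx => ?_
  obtain ⟨k, hk⟩ := pCore_isPGroup (G := L) p ⟨x, hx⟩
  refine ⟨k, ?_⟩
  have := congrArg Subtype.val hk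
  have h : x ^ p ^ k = 1 := this
  rw [h]
  exact one_mem _

theorem isPGroup_of_isElementaryAbelian {V : Subgroup L} (hV : IsElementaryAbelian p V) :
    IsPGroup p V := by
  rintro ⟨x, hx⟩
  refine ⟨1, Subtype.ext ?_⟩
  have := hV.2 x hx
  simpa using this

theorem le_pCore_of_isPReducedNormal {V : Subgroup L} (hV : IsPReducedNormal p V) :
    V ≤ pCore p L :=
  le_pCore hV.1 (isPGroup_of_isElementaryAbelian hV.2.1)

/-- Two `p`-reduced normal subgroups centralize each other. -/
theorem commute_of_isPReducedNormal {V W : Subgroup L} (hV : IsPReducedNormal p V)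
    (hW : IsPReducedNormal p W) {v w : L} (hv : v ∈ V) (hw : w ∈ W) : v * w = w * v :=
  (mem_centralizer_iff.1 ((pCore_le_centralizer hW) (le_pCore_of_isPReducedNormal hV hv)) w hw).symm

/-- A closure of pairwise commuting elements of order dividing `p` is elementary abelian. -/
theorem closure_isElementaryAbelian {S : Set L} (h1 : ∀ x ∈ S, ∀ y ∈ S, x * y = y * x)
    (h2 : ∀ x ∈ S, x ^ p = 1) : IsElementaryAbelian p (closure S) := by
  have hc : ∀ x ∈ closure S, ∀ y ∈ closure S, x * y = y * x := by
    intro x hx y hy
    have h3 : closure S ≤ centralizer (S : Set L) := by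
      rw [closure_le]
      intro a ha
      exact mem_centralizer_iff.2 fun b hb => h1 b hb a ha
    have h4 : closure S ≤ centralizer ((closure S : Subgroup L) : Set L) := by
      rw [centralizer_closure]
      exact h3
    exact (mem_centralizer_iff.1 (h4 hy) x hx)
  rw [isElementaryAbelian_iff]
  refine ⟨hc, fun x hx => ?_⟩
  induction hx using closure_induction with
  | mem x hx => exact h2 x hx
  | one => exact one_pow _
  | mul x y hx hy ihx ihy =>
    have : Commute x y := hc x hx y hy
    rw [this.mul_pow, ihx, ihy, one_mul]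
  | inv x hx ih => rw [inv_pow, ih, inv_one]

/-- The join of a set of `p`-reduced normal subgroups is `p`-reduced. -/
theorem sSup_isPReducedNormal (S : Set (Subgroup L)) (hS : ∀ V ∈ S, IsPReducedNormal p V) :
    IsPReducedNormal p (sSup S) := by
  rw [isPReducedNormal_iff]
  have hn : (sSup S).Normal := Lib.Cores.sSup_normal S fun N hN => (hS N hN).1
  have hS' : sSup S = closure (⋃ V ∈ S, (V : Set L)) := by
    apply le_antisymm
    · refine sSup_le fun V hV x hx => subset_closure ?_
      exact Set.mem_iUnion₂.2 ⟨V, hV, hx⟩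
    · rw [closure_le]
      intro x hx
      obtain ⟨V, hV, hx⟩ := Set.mem_iUnion₂.1 hx
      exact (le_sSup hV : V ≤ sSup S) hx
  refine ⟨hn, ?_, fun D hD hp => ?_⟩
  · rw [hS']
    refine closure_isElementaryAbelian ?_ ?_
    · intro x hx y hy
      obtain ⟨V, hV, hx⟩ := Set.mem_iUnion₂.1 hx
      obtain ⟨W, hW, hy⟩ := Set.mem_iUnion₂.1 hy
      exact commute_of_isPReducedNormal (hS V hV) (hS W hW) hx hy
    · intro x hx
      obtain ⟨V, hV, hx⟩ := Set.mem_iUnion₂.1 hx
      exact (hS V hV).2.1.2 x hx
  · rw [hS', centralizer_closure]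
    intro d hd
    rw [mem_centralizer_iff]
    intro x hx
    obtain ⟨V, hV, hx⟩ := Set.mem_iUnion₂.1 hx
    have h := (isPReducedNormal_iff.1 (hS V hV)).2.2 D hD (fun y hy => by
      obtain ⟨k, hk⟩ := hp y hy
      exact ⟨k, centralizer_le (le_sSup hV : V ≤ sSup S) hk⟩)
    exact mem_centralizer_iff.1 (h hd) x hx

theorem exists_largest : ∃ Y : Subgroup L, IsPReducedNormal p Y ∧
    ∀ V : Subgroup L, IsPReducedNormal p V → V ≤ Y :=
  ⟨sSup {V | IsPReducedNormal p V}, sSup_isPReducedNormal _ (fun _ h => h),
    fun _ hV => le_sSup hV⟩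

/-- The elements of `R` with a `p`-power power centralizing `X`. -/
theorem normalClosure_isPReducedNormal [Finite L] [Fact p.Prime]
    (hchar : centralizer (pCore p L : Set L) ≤ pCore p L) (T : Sylow p L) (R : Subgroup L)
    (hTR : (T : Subgroup L) ≤ R) (X : Subgroup ↥R) (hX : IsPReducedNormal p X) :
    IsPReducedNormal p (normalClosure ((X.map R.subtype : Subgroup L) : Set L)) := by
  have hOR : pCore p L ≤ R := (pCore_le_sylow T).trans hTR
  have hOR' : (pCore p L).subgroupOf R ≤ pCore p R := by
    apply le_pCore
    · exact (Lib.Cores.pCore_normal p).subgroupOf R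
    · exact (pCore_isPGroup (G := L) p).comap_of_injective R.subtype R.subtype_injective
  have hXO : X.map R.subtype ≤ centralizer (pCore p L : Set L) := by
    rintro _ ⟨x, hx, rfl⟩
    rw [mem_centralizer_iff]
    intro y hy
    have h1 : (⟨y, hOR hy⟩ : R) ∈ centralizer (X : Set R) :=
      pCore_le_centralizer hX (hOR' hy)
    have := mem_centralizer_iff.1 h1 x hx
    exact (congrArg Subtype.val this).symm
  set Z : Subgroup L := pCore p L ⊓ centralizer (pCore p L : Set L) with hZ
  have hZn : Z.Normal := by
    have h1 : (pCore p L).Normal := Lib.Cores.pCore_normal p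
    have h2 : (centralizer (pCore p L : Set L)).Normal := inferInstance
    exact inferInstanceAs (pCore p L ⊓ centralizer (pCore p L : Set L) : Subgroup L).Normal
  have hXZ : X.map R.subtype ≤ Z := le_inf (hXO.trans hchar) hXO
  have hVZ : normalClosure ((X.map R.subtype : Subgroup L) : Set L) ≤ Z :=
    normalClosure_le_normal hXZ
  have hcomm : ∀ x ∈ Z, ∀ y ∈ Z, x * y = y * x := fun x hx y hy =>
    (mem_centralizer_iff.1 hy.2 x hx.1)
  rw [isPReducedNormal_iff]
  refine ⟨normalClosure_normal, ?_, fun D hD hp => ?_⟩
  · refine closure_isElementaryAbelian ?_ ?_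
    · intro x hx y hy
      exact hcomm x (hVZ (subset_closure hx)) y (hVZ (subset_closure hy))
    · intro x hx
      obtain ⟨y, hy, hyx⟩ := Group.mem_conjugatesOfSet_iff.1 hx
      obtain ⟨z, hz, rfl⟩ := hy
      obtain ⟨c, hc⟩ := isConj_iff.1 hyx
      rw [← hc, conj_pow]
      have h1 : (R.subtype z) ^ p = 1 := by
        rw [← map_pow, hX.2.1.2 z hz, map_one]
      rw [h1]
      group
  · have hCn : (centralizer ((normalClosure ((X.map R.subtype : Subgroup L) : Set L) :
        Subgroup L) : Set L)).Normal := inferInstance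
    have h1 := Lib.SylowNormalInf.le_sup_inf T D _ hp
    have hCX : centralizer ((normalClosure ((X.map R.subtype : Subgroup L) : Set L) :
        Subgroup L) : Set L) ≤ centralizer ((X.map R.subtype : Subgroup L) : Set L) :=
      centralizer_le subset_normalClosure
    have h2 : (T : Subgroup L) ⊓ D ≤ centralizer ((X.map R.subtype : Subgroup L) : Set L) := by
      have h3 := (isPReducedNormal_iff.1 hX).2.2 (D.subgroupOf R) (hD.subgroupOf R) (by
        intro x hx
        obtain ⟨k, hk⟩ := hp x hx
        refine ⟨k, ?_⟩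
        rw [mem_centralizer_iff]
        intro y hy
        apply Subtype.ext
        exact mem_centralizer_iff.1 (hCX hk) y (mem_map_of_mem _ hy))
      intro t ht
      rw [mem_centralizer_iff]
      rintro _ ⟨x, hx, rfl⟩
      have h4 : (⟨t, hTR ht.1⟩ : R) ∈ centralizer (X : Set R) := h3 ht.2
      exact congrArg Subtype.val (mem_centralizer_iff.1 h4 x hx)
    have h5 : D ≤ centralizer ((X.map R.subtype : Subgroup L) : Set L) :=
      h1.trans (sup_le hCX h2)
    -- by normality `D` centralizes the normal closure
    have h6 : normalClosure ((X.map R.subtype : Subgroup L) : Set L) ≤ centralizer (D : Set L) := by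
      have hDc : (centralizer (D : Set L)).Normal := inferInstance
      apply normalClosure_le_normal
      intro x hx
      change x ∈ centralizer (D : Set L)
      rw [mem_centralizer_iff]
      intro d hd
      exact (mem_centralizer_iff.1 (h5 hd) x hx).symm
    intro d hd
    rw [mem_centralizer_iff]
    intro x hx
    exact (mem_centralizer_iff.1 (h6 hx) d hd).symm

end Cfsg.Agent.H221.PReduced
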